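import Cfsg.Agent.Fusion.ExIdxP.Closure

/-!
The abelian essential subgroup that moves the centre, and the orbit of the centre in it.
-/

set_option autoImplicit false
set_option linter.style.haveILetI false
set_option linter.unusedSectionVars false

namespace Cfsg.Lib.Fusion.ExIdxP

open Cfsg Cfsg.FusionSystem Cfsg.Lib.Fusion Cfsg.Lib.Fusion.ExtraspecialIndex
open scoped commutatorElement

universe u

variable {Ω : Type u} [Group Ω] {S : Subgroup Ω} {F : FusionSystem S} {p : ℕ}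

theorem ze_add_of [hp : Fact p.Prime] {u : Ω} (hu : u ^ p = 1) (i j : ZMod p) :
    ze u i * ze u j = ze u (i + j) := by
  haveI : NeZero p := ⟨hp.out.ne_zero⟩
  rw [ze, ze, ze, ← pow_add, ZMod.val_add]
  conv_lhs => rw [← Nat.mod_add_div (i.val + j.val) p, pow_add, pow_mul, hu, one_pow, mul_one]

theorem ze_pow_of [hp : Fact p.Prime] {u : Ω} (hu : u ^ p = 1) (i : ZMod p) (n : ℕ) :
    ze u i ^ n = ze u ((n : ZMod p) * i) := by
  induction n with
  | zero => simp [ze]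
  | succ n ih => rw [pow_succ, ih, ze_add_of hu, Nat.cast_succ, add_mul, one_mul]

theorem ze_one_of [hp : Fact p.Prime] (u : Ω) : ze u (1 : ZMod p) = u := by
  rw [ze, ZMod.val_one, pow_one]

theorem ze_zero_of [hp : Fact p.Prime] (u : Ω) : ze u (0 : ZMod p) = 1 := by
  rw [ze, ZMod.val_zero, pow_zero]

open Classical in
/-- The exponent of `x` in an element of `S`. -/
noncomputable def ex (p : ℕ) (Q : Subgroup Ω) (x e : Ω) : ZMod p :=
  if h : ∃ i : ZMod p, e * (ze x i)⁻¹ ∈ Q then h.choose else 0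

/-- The data: `x` is a conjugate of `z` outside `Q` whose centralizer is essential. -/
structure Ess (F : FusionSystem S) (p : ℕ) (Q : Subgroup Ω) (z x : Ω) : Prop where
  wc : WC F Q z
  zc : Zc F z x
  notQ : x ∉ Q
  ess : F.IsEssential p (cS S x)
  moved : ∃ β ∈ F.autGroup (cS S x), autFun β z = x

/-- The orbit of `z` in `E`. -/
def Orb (F : FusionSystem S) (E : Subgroup Ω) (z o : Ω) : Prop :=
  ∃ α ∈ F.autGroup E, autFun α z = o

/-- The intersection of the essential subgroup with `Q`. -/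
def Aq (S Q : Subgroup Ω) (x : Ω) : Subgroup Ω := Q ⊓ cS S x

namespace Ess

variable [Finite S] [hp : Fact p.Prime] {Q : Subgroup Ω} {z x : Ω} (h : Setup F p Q z)
  (d : Ess F p Q z x)
include h d

theorem xS : x ∈ S := h.zc_mem d.zc

theorem xp : x ^ p = 1 := h.zc_pow d.zc

theorem xE : x ∈ cS S x := h.self_mem_cS (d.xS h)

theorem zE : z ∈ cS S x := h.z_mem_cS (d.xS h)

theorem comm {a b : Ω} (ha : a ∈ cS S x) (hb : b ∈ cS S x) : Commute a b :=
  h.cS_abelian d.wc d.zc d.notQ a ha b hb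

theorem ex_unique {i j : ZMod p} {e : Ω} (hi : e * (ze x i)⁻¹ ∈ Q) (hj : e * (ze x j)⁻¹ ∈ Q) : i = j := by
  have h1 : ze x j * (ze x i)⁻¹ ∈ Q := by
    have := Q.mul_mem (Q.inv_mem hj) hi
    simpa [mul_assoc] using this
  have e1 : ze x (j - i) * ze x i = ze x j := by rw [ze_add_of (d.xp h), sub_add_cancel]
  rw [← e1, mul_inv_cancel_right] at h1
  by_contra hne
  haveI := h.neZero
  refine d.notQ (h.not_mem_of_pow (d.xp h) (i := ((j - i).val : ℤ)) (fun hd => hne ?_) ?_)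
  · have h0 : (j - i : ZMod p) = 0 := by
      rw [← ZMod.natCast_zmod_val (j - i), ZMod.natCast_eq_zero_iff]
      exact Int.natCast_dvd_natCast.1 hd
    exact (sub_eq_zero.1 h0).symm
  · rw [zpow_natCast]; exact h1

theorem exists_ex {e : Ω} (he : e ∈ S) : ∃ i : ZMod p, e * (ze x i)⁻¹ ∈ Q := by
  obtain ⟨k, q, hq, rfl⟩ := h.exists_decomp (d.xS h) d.notQ he
  refine ⟨(k : ZMod p), ?_⟩
  haveI := h.neZero
  have hx : x ^ k = ze x (k : ZMod p) := by
    rw [ze, ← zpow_natCast, ZMod.val_intCast,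
      ← orderOf_eq_prime (d.xp h) (h.zc_ne_one d.zc)]
    exact (zpow_mod_orderOf x k).symm
  rw [hx, mul_inv_cancel_right]; exact hq

theorem ex_spec {e : Ω} (he : e ∈ S) : e * (ze x (ex p Q x e))⁻¹ ∈ Q := by
  rw [ex, dif_pos (d.exists_ex h he)]
  exact (d.exists_ex h he).choose_spec

theorem ex_eq {e : Ω} (he : e ∈ S) {i : ZMod p} (hi : e * (ze x i)⁻¹ ∈ Q) : ex p Q x e = i :=
  d.ex_unique h (d.ex_spec h he) hi

theorem ex_Q {q : Ω} (hq : q ∈ Q) : ex p Q x q = 0 :=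
  d.ex_eq h (h.le hq) (by rwa [ze_zero_of, inv_one, mul_one])

theorem ex_x : ex p Q x x = 1 :=
  d.ex_eq h (d.xS h) (by rw [ze_one_of, mul_inv_cancel]; exact Q.one_mem)

theorem ex_mul {a b : Ω} (ha : a ∈ cS S x) (hb : b ∈ cS S x) :
    ex p Q x (a * b) = ex p Q x a + ex p Q x b := by
  refine d.ex_eq h (S.mul_mem ha.1 hb.1) ?_
  rw [← ze_add_of (d.xp h), mul_inv_rev]
  have hc : Commute b (ze x (ex p Q x b))⁻¹ :=
    (d.comm h hb ((cS S x).pow_mem (d.xE h) _)).inv_right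
  have hd : Commute (b * (ze x (ex p Q x b))⁻¹) (ze x (ex p Q x a))⁻¹ :=
    d.comm h ((cS S x).mul_mem hb ((cS S x).inv_mem ((cS S x).pow_mem (d.xE h) _)))
      ((cS S x).inv_mem ((cS S x).pow_mem (d.xE h) _))
  have := Q.mul_mem (d.ex_spec h ha.1) (d.ex_spec h hb.1)
  rwa [show a * b * ((ze x (ex p Q x b))⁻¹ * (ze x (ex p Q x a))⁻¹) =
    a * (ze x (ex p Q x a))⁻¹ * (b * (ze x (ex p Q x b))⁻¹) by
      rw [mul_assoc a, ← mul_assoc b, hd.eq]; group]

theorem mem_Aq_of_ex {e : Ω} (he : e ∈ cS S x) :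
    e * (ze x (ex p Q x e))⁻¹ ∈ Aq S Q x :=
  ⟨d.ex_spec h he.1, (cS S x).mul_mem he ((cS S x).inv_mem ((cS S x).pow_mem (d.xE h) _))⟩

theorem cen_le_Aq : cen Q ≤ Aq S Q x := fun _ hc => ⟨hc.1, h.cen_le_cS (d.xS h) hc⟩

theorem card_E : Nat.card (cS S x) = p * Nat.card (Aq S Q x) := by
  haveI := finite_of_le (cS_le (S := S) x)
  refine le_antisymm (card_le_inf h.le (cS_le x) h.idx.le) (SqCenter.eq_of_lt h.isP (cS_le x) ?_)
  exact lt_of_le_of_ne inf_le_right fun e => d.notQ (e.ge (d.xE h)).1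

/-! ### The orbit -/

theorem orb_self : Orb F (cS S x) z z := ⟨1, Subgroup.one_mem _, autFun_one (d.zE h)⟩

theorem orb_x : Orb F (cS S x) z x := d.moved

theorem orb_map {o : Ω} (ho : Orb F (cS S x) z o) {α : MulAut (cS S x)}
    (hα : α ∈ F.autGroup (cS S x)) : Orb F (cS S x) z (autFun α o) := by
  obtain ⟨γ, hγ, rfl⟩ := ho
  exact ⟨α * γ, Subgroup.mul_mem _ hα hγ, autFun_mul _ _ (d.zE h)⟩

theorem orb_mem {o : Ω} (ho : Orb F (cS S x) z o) : o ∈ cS S x := by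
  obtain ⟨γ, hγ, rfl⟩ := ho
  exact autFun_mem _ (d.zE h)

theorem orb_zc {o : Ω} (ho : Orb F (cS S x) z o) : Zc F z o := by
  obtain ⟨γ, hγ, rfl⟩ := ho
  exact h.zc_map ((isMap_autFun (cS_le x)).2 hγ) h.zc_self (d.zE h)

theorem orb_Q {o : Ω} (ho : Orb F (cS S x) z o) (hoQ : o ∈ Q) : o ∈ cen Q := d.wc o hoQ (d.orb_zc h ho)

theorem orb_conj {o g : Ω} (ho : Orb F (cS S x) z o) (hg : g ∈ S)
    (hgN : g ∈ Subgroup.normalizer (cS S x : Set Ω)) : Orb F (cS S x) z (g * o * g⁻¹) := by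
  have := d.orb_map h ho (autInducedBy_le (F := F) (cS_le x) (conjAut_mem_autInducedBy hgN hg))
  rwa [autFun_apply_mem _ (d.orb_mem h ho), conjAut_apply] at this

theorem conj_orb_fixed {o g : Ω} (ho : Orb F (cS S x) z o) (hoQ : o ∉ Q) (hg : g ∈ S)
    (hgo : g * o = o * g) : g ∈ cS S x := by
  have hab := h.cS_abelian d.wc (d.orb_zc h ho) hoQ
  have hle : ∀ e ∈ cS S x, e ∈ cS S o := fun e he =>
    mem_cS.2 ⟨he.1, (d.comm h he (d.orb_mem h ho)).eq⟩
  exact mem_cS.2 ⟨hg, hab g (mem_cS.2 ⟨hg, hgo⟩) x (hle x (d.xE h))⟩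

theorem conjAut_eq_one {g : Ω} (hgN : g ∈ Subgroup.normalizer (cS S x : Set Ω)) (hg : g ∈ cS S x) :
    conjAut (cS S x) g hgN = 1 :=
  MulEquiv.ext fun e => Subtype.ext (by
    rw [conjAut_apply, (d.comm h hg e.2).eq, mul_inv_cancel_right]; rfl)

/-- An element of `p`-power order fixes only one line of the orbit. -/
theorem fix_unique {α : MulAut (cS S x)} (hα : α ∈ F.autGroup (cS S x)) (hpow : ∃ k : ℕ, α ^ p ^ k = 1)
    (hne : α ≠ 1) {o o' : Ω} (ho : Orb F (cS S x) z o) (ho' : Orb F (cS S x) z o')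
    (hfo : autFun α o = o) (hfo' : autFun α o' = o') : o' ∈ Subgroup.zpowers o := by
  haveI := finite_of_le (cS_le (S := S) x)
  obtain ⟨-, hfa, -⟩ := fullyNormalized_props h.isP h.sat d.ess.2.1
  have hK : IsPGroup p (Subgroup.zpowers α) := by
    rintro ⟨_, i, rfl⟩
    obtain ⟨k, hk⟩ := hpow
    refine ⟨k, Subtype.ext ?_⟩
    show (α ^ i) ^ p ^ k = 1
    rw [← zpow_natCast, ← zpow_mul, mul_comm i, zpow_mul, zpow_natCast, hk, one_zpow]
  obtain ⟨χ, hχ, hχK⟩ := exists_conj_into_autS hfa hK (Subgroup.zpowers_le.2 hα)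
  obtain ⟨g, hg, eg⟩ := mem_autInducedBy.1 (hχK α (Subgroup.mem_zpowers α))
  have hgN : g ∈ Subgroup.normalizer (cS S x : Set Ω) :=
    mem_normalizer_of_mem_autInducedBy eg
  have hgE : g ∉ cS S x := fun hgE => hne (by
    have e : χ * α * χ⁻¹ = 1 := (MulEquiv.ext fun e => Subtype.ext (eg e)).trans (d.conjAut_eq_one h hgN hgE)
    rw [mul_inv_eq_one, mul_eq_left] at e
    exact e)
  have key : ∀ w, Orb F (cS S x) z w → autFun α w = w → autFun χ w ∈ cen Q := by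
    intro w hw hfw
    have hwm := d.orb_mem h hw
    have hfix : g * autFun χ w * g⁻¹ = autFun χ w := by
      rw [autFun_apply_mem χ hwm, ← eg]
      simp only [MulAut.mul_apply, MulAut.inv_apply_self]
      rw [show α ⟨w, hwm⟩ = ⟨w, hwm⟩ from Subtype.ext (by rw [← autFun_apply_mem α hwm]; exact hfw)]
    have horb := d.orb_map h hw hχ
    refine d.orb_Q h horb ?_
    by_contra hQ'
    exact hgE (d.conj_orb_fixed h horb hQ' hg (mul_inv_eq_iff_eq_mul.1 hfix))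
  obtain ⟨i, hi⟩ := h.exists_ze (key o ho hfo)
  obtain ⟨j, hj⟩ := h.exists_ze (key o' ho' hfo')
  have hi0 : i ≠ 0 := fun e => h.zc_ne_one (d.orb_zc h (d.orb_map h ho hχ)) (by rw [← hi, e, h.ze_zero])
  haveI := h.neZero
  have e : autFun χ o' = autFun χ o ^ (j * i⁻¹).val := by
    rw [← hi, ← hj, h.ze_pow, ZMod.natCast_zmod_val, mul_assoc, inv_mul_cancel₀ hi0, mul_one]
  have hm : IsMap F (cS S x) (autFun χ) := (isMap_autFun (cS_le x)).2 hχ
  rw [← hm.map_pow (d.orb_mem h ho)] at e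
  rw [hm.injOn (d.orb_mem h ho') ((cS S x).pow_mem (d.orb_mem h ho) _) e]
  exact Subgroup.npow_mem_zpowers o _

end Ess

end Cfsg.Lib.Fusion.ExIdxP
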