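import Cfsg.Agent.Fusion.ExIdxP.Closure
import Cfsg.Agent.Fusion.ExIdxP.Orbit

/-!
Further rules for the pairing and for commutators with an element of `S`.
-/

set_option autoImplicit false
set_option linter.style.haveILetI false
set_option linter.unusedSectionVars false

namespace Cfsg.Lib.Fusion.ExIdxP

open Cfsg Cfsg.FusionSystem Cfsg.Lib.Fusion Cfsg.Lib.Fusion.ExtraspecialIndex
open scoped commutatorElement

universe u

variable {Ω : Type u} [Group Ω] {S : Subgroup Ω} {F : FusionSystem S} {p : ℕ}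

theorem comm_pow_right {g a : Ω} (hc : Commute ⁅g, a⁆ a) (n : ℕ) : ⁅g, a ^ n⁆ = ⁅g, a⁆ ^ n := by
  have e : g * a * g⁻¹ = ⁅g, a⁆ * a := by rw [commutatorElement_def]; group
  rw [commutatorElement_def g, ← conj_pow, e, hc.mul_pow, mul_inv_cancel_right]

theorem comm_right_of {g a b : Ω} (hc : Commute ⁅g, b⁆ a) : ⁅g, a * b⁆ = ⁅g, a⁆ * ⁅g, b⁆ := by
  rw [comm_mul_right, ← hc.eq, mul_inv_cancel_right]

/-- The centralizer of an element in `Q`. -/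
def cQ (Q : Subgroup Ω) (y : Ω) : Subgroup Ω := Q ⊓ Subgroup.centralizer {y}

theorem mem_cQ {Q : Subgroup Ω} {y q : Ω} : q ∈ cQ Q y ↔ q ∈ Q ∧ q * y = y * q := by
  rw [cQ, Subgroup.mem_inf, Subgroup.mem_centralizer_singleton_iff]

theorem ze_neg_of [hp : Fact p.Prime] {u : Ω} (hu : u ^ p = 1) (i : ZMod p) :
    ze u (-i) = (ze u i)⁻¹ :=
  eq_inv_of_mul_eq_one_left (by rw [ze_add_of hu, neg_add_cancel, ze_zero_of])

theorem ze_pow_p [hp : Fact p.Prime] {u : Ω} (hu : u ^ p = 1) (i : ZMod p) : ze u i ^ p = 1 := by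
  rw [ze_pow_of hu, ZMod.natCast_self, zero_mul, ze_zero_of]

namespace Setup

variable [Finite S] [hp : Fact p.Prime] {Q : Subgroup Ω} {z : Ω} (h : Setup F p Q z)
include h

theorem cQ_eq_zero {y q : Ω} (hy : y ∈ Q) : q ∈ cQ Q y ↔ q ∈ Q ∧ cc p z q y = 0 :=
  mem_cQ.trans (and_congr_right fun hq => (h.cc_eq_zero hq hy).symm)

theorem cQ_le_cS (y : Ω) : cQ Q y ≤ cS S y := fun _ hq => ⟨h.le hq.1, hq.2⟩

/-- Invariance of the pairing under an element of `S`. -/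
theorem invariance {g a b : Ω} (hg : g ∈ S) (ha : a ∈ Q) (hb : b ∈ Q) :
    cc p z ⁅g, a⁆ b + cc p z a ⁅g, b⁆ + cc p z ⁅g, a⁆ ⁅g, b⁆ = 0 := by
  have e := h.cc_conj hg ha hb
  have ea : g * a * g⁻¹ = ⁅g, a⁆ * a := by rw [commutatorElement_def]; group
  have eb : g * b * g⁻¹ = ⁅g, b⁆ * b := by rw [commutatorElement_def]; group
  have hga := h.comm_S_Q hg ha
  have hgb := h.comm_S_Q hg hb
  rw [ea, eb, h.cc_mul_left hga ha (Q.mul_mem hgb hb), h.cc_mul_right hga hgb hb,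
    h.cc_mul_right ha hgb hb] at e
  linear_combination e

theorem cc_conj_right {a b v : Ω} (ha : a ∈ Q) (hb : b ∈ Q) (hv : v ∈ Q) :
    cc p z a (v * b * v⁻¹) = cc p z a b := by
  rw [show v * b * v⁻¹ = ⁅v, b⁆ * b by rw [commutatorElement_def]; group,
    h.cc_mul_right ha (h.comm_mem hv hb).1 hb, h.cc_cen_right (h.comm_mem hv hb) ha, zero_add]

theorem cc_ze_pow_left {a b : Ω} (ha : a ∈ Q) (hb : b ∈ Q) (i : ZMod p) :
    cc p z (ze a i) b = i * cc p z a b := by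
  haveI := h.neZero
  rw [ze, h.cc_pow_left ha hb, ZMod.natCast_zmod_val]

theorem cc_ze_pow_right {a b : Ω} (ha : a ∈ Q) (hb : b ∈ Q) (i : ZMod p) :
    cc p z a (ze b i) = i * cc p z a b := by
  haveI := h.neZero
  rw [ze, h.cc_pow_right ha hb, ZMod.natCast_zmod_val]

/-- Commutators with elements of `S` have order `p`. -/
theorem comm_pow_p {g q : Ω} (hg : g ∈ S) (hq : q ∈ Q) : ⁅g, q⁆ ^ p = 1 := by
  rw [commutatorElement_def, h.mul_pow_p (h.conj_Q hg hq) (Q.inv_mem hq), conj_pow, inv_pow,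
    h.conj_cen hg (h.pow_mem_cen hq), mul_inv_cancel]

/-- The elements of order dividing `p` in `Q`. -/
def omega : Subgroup Ω where
  carrier := {q | q ∈ Q ∧ q ^ p = 1}
  one_mem' := ⟨Q.one_mem, one_pow p⟩
  mul_mem' := fun {a b} ha hb => ⟨Q.mul_mem ha.1 hb.1, by rw [h.mul_pow_p ha.1 hb.1, ha.2, hb.2, one_mul]⟩
  inv_mem' := fun {a} ha => ⟨Q.inv_mem ha.1, by rw [inv_pow, ha.2, inv_one]⟩

theorem mem_omega {q : Ω} : q ∈ h.omega ↔ q ∈ Q ∧ q ^ p = 1 := Iff.rfl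

theorem finite_Q : Finite Q := finite_of_le h.le

theorem two_ne_zero' : (2 : ZMod p) ≠ 0 := fun e =>
  h.odd ((Nat.prime_dvd_prime_iff_eq hp.out Nat.prime_two).1
    (by rw [← ZMod.natCast_eq_zero_iff]; exact_mod_cast e))

/-- A strict inclusion below `S` multiplies the order by at least `p`. -/
theorem card_mul_le {A B : Subgroup Ω} (hB : B ≤ S) (hAB : A ≤ B) {w : Ω} (hw : w ∈ B) (hwA : w ∉ A) :
    p * Nat.card A ≤ Nat.card B :=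
  SqCenter.eq_of_lt h.isP hB (lt_of_le_of_ne hAB fun e => hwA (e ▸ hw))

/-- Commutation is deep as soon as the kernel of one element is small. -/
theorem deep_of_ker {x : Ω} (hx : x ∈ S) (hk : p * Nat.card (h.kerSub x hx) < Nat.card Q) : Deep S Q p := by
  intro x' hx' hx'Q H hH hcomm
  refine lt_of_le_of_lt (Nat.mul_le_mul le_rfl ?_) hk
  haveI : Finite (h.kerSub x hx) := finite_of_le fun w hw => h.le ((h.mem_kerSub hx).1 hw).1
  refine Subgroup.card_le_of_le fun a ha => ?_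
  obtain ⟨k, q, hq, he⟩ := h.exists_decomp hx' hx'Q hx
  refine (h.mem_kerSub hx).2 ⟨hH ha, ?_⟩
  let X : Subgroup Ω :=
    { carrier := {g | g ∈ S ∧ ⁅g, a⁆ ∈ cen Q}
      one_mem' := ⟨S.one_mem, by simp [(cen Q).one_mem]⟩
      mul_mem' := fun {g g'} hg hg' => ⟨S.mul_mem hg.1 hg'.1, by
        rw [comm_mul_left, h.conj_cen hg.1 hg'.2]; exact (cen Q).mul_mem hg'.2 hg.2⟩
      inv_mem' := fun {g} hg => ⟨S.inv_mem hg.1, by
        rw [show ⁅g⁻¹, a⁆ = g⁻¹ * ⁅g, a⁆⁻¹ * g⁻¹⁻¹ by simp only [commutatorElement_def]; group,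
          h.conj_cen (S.inv_mem hg.1) ((cen Q).inv_mem hg.2)]
        exact (cen Q).inv_mem hg.2⟩ }
  have hqX : q ∈ X := ⟨h.le hq, h.comm_mem hq (hH ha)⟩
  have hxX : x' ∈ X := ⟨hx', hcomm a ha⟩
  have : x ∈ X := he ▸ X.mul_mem hqX (X.zpow_mem hxX k)
  exact this.2

/-- Four elements, each detected by an element commuting with the previous ones, generate `Q` with `z`. -/
theorem le_closure_of_detect (hQ5 : Nat.card Q ≤ p ^ 5) {G : Subgroup Ω} (hzG : z ∈ G)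
    {a₁ a₂ a₃ a₄ b₁ b₂ b₃ b₄ : Ω} (ha₁ : a₁ ∈ Q) (ha₂ : a₂ ∈ Q) (ha₃ : a₃ ∈ Q) (ha₄ : a₄ ∈ Q)
    (hb₁ : b₁ ∈ Q) (hb₂ : b₂ ∈ Q) (hb₃ : b₃ ∈ Q) (hb₄ : b₄ ∈ Q)
    (g₁ : a₁ ∈ G) (g₂ : a₂ ∈ G) (g₃ : a₃ ∈ G) (g₄ : a₄ ∈ G)
    (n₁ : cc p z a₁ b₁ ≠ 0) (c₂ : cc p z a₁ b₂ = 0) (n₂ : cc p z a₂ b₂ ≠ 0)
    (c₃ : cc p z a₁ b₃ = 0) (d₃ : cc p z a₂ b₃ = 0) (n₃ : cc p z a₃ b₃ ≠ 0)
    (c₄ : cc p z a₁ b₄ = 0) (d₄ : cc p z a₂ b₄ = 0) (e₄ : cc p z a₃ b₄ = 0)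
    (n₄ : cc p z a₄ b₄ ≠ 0) : Q ≤ G := by
  haveI := h.finite_Q
  have hsub : ∀ {b : Ω}, b ∈ Q → ∀ {s : Ω}, s ∈ Q → cc p z s b = 0 →
      s ∈ Subgroup.centralizer ({b} : Set Ω) := fun hb _ hs e =>
    Subgroup.mem_centralizer_singleton_iff.2 ((h.cc_eq_zero hs hb).1 e)
  have hout : ∀ {b : Ω}, b ∈ Q → ∀ {s : Ω}, s ∈ Q → cc p z s b ≠ 0 →
      s ∉ Subgroup.centralizer ({b} : Set Ω) := fun hb _ hs e hm =>
    e ((h.cc_eq_zero hs hb).2 (Subgroup.mem_centralizer_singleton_iff.1 hm))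
  set A₀ := Subgroup.zpowers z
  set A₁ := A₀ ⊔ Subgroup.zpowers a₁
  set A₂ := A₁ ⊔ Subgroup.zpowers a₂
  set A₃ := A₂ ⊔ Subgroup.zpowers a₃
  set A₄ := A₃ ⊔ Subgroup.zpowers a₄
  have l₁ : A₁ ≤ Q := sup_le (Subgroup.zpowers_le.2 h.zQ) (Subgroup.zpowers_le.2 ha₁)
  have l₂ : A₂ ≤ Q := sup_le l₁ (Subgroup.zpowers_le.2 ha₂)
  have l₃ : A₃ ≤ Q := sup_le l₂ (Subgroup.zpowers_le.2 ha₃)
  have l₄ : A₄ ≤ Q := sup_le l₃ (Subgroup.zpowers_le.2 ha₄)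
  have hz : ∀ {b : Ω}, b ∈ Q → A₀ ≤ Subgroup.centralizer ({b} : Set Ω) := fun hb =>
    Subgroup.zpowers_le.2 (hsub hb h.zQ (h.cc_cen_left h.zmem hb))
  have s₁ : p * Nat.card A₀ ≤ Nat.card A₁ :=
    h.card_mul_le (l₁.trans h.le) le_sup_left (Subgroup.mem_sup_right (Subgroup.mem_zpowers a₁))
      fun hm => hout hb₁ ha₁ n₁ (hz hb₁ hm)
  have s₂ : p * Nat.card A₁ ≤ Nat.card A₂ :=
    h.card_mul_le (l₂.trans h.le) le_sup_left (Subgroup.mem_sup_right (Subgroup.mem_zpowers a₂))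
      fun hm => hout hb₂ ha₂ n₂ ((sup_le (hz hb₂) (Subgroup.zpowers_le.2 (hsub hb₂ ha₁ c₂))) hm)
  have s₃ : p * Nat.card A₂ ≤ Nat.card A₃ :=
    h.card_mul_le (l₃.trans h.le) le_sup_left (Subgroup.mem_sup_right (Subgroup.mem_zpowers a₃))
      fun hm => hout hb₃ ha₃ n₃ ((sup_le (sup_le (hz hb₃) (Subgroup.zpowers_le.2 (hsub hb₃ ha₁ c₃)))
        (Subgroup.zpowers_le.2 (hsub hb₃ ha₂ d₃))) hm)
  have s₄ : p * Nat.card A₃ ≤ Nat.card A₄ :=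
    h.card_mul_le (l₄.trans h.le) le_sup_left (Subgroup.mem_sup_right (Subgroup.mem_zpowers a₄))
      fun hm => hout hb₄ ha₄ n₄ ((sup_le (sup_le (sup_le (hz hb₄) (Subgroup.zpowers_le.2 (hsub hb₄ ha₁ c₄)))
        (Subgroup.zpowers_le.2 (hsub hb₄ ha₂ d₄))) (Subgroup.zpowers_le.2 (hsub hb₄ ha₃ e₄))) hm)
  have hA₀ : Nat.card A₀ = p := by rw [Nat.card_zpowers, h.order_z]
  have : p ^ 5 ≤ Nat.card A₄ := by
    refine le_trans (le_trans ?_ (Nat.mul_le_mul le_rfl (le_trans (Nat.mul_le_mul le_rfl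
      (le_trans (Nat.mul_le_mul le_rfl s₁) s₂)) s₃))) s₄
    rw [hA₀]; exact le_of_eq (by ring)
  rw [← Subgroup.eq_of_le_of_card_ge l₄ (hQ5.trans this)]
  exact sup_le (sup_le (sup_le (sup_le (Subgroup.zpowers_le.2 hzG) (Subgroup.zpowers_le.2 g₁))
    (Subgroup.zpowers_le.2 g₂)) (Subgroup.zpowers_le.2 g₃)) (Subgroup.zpowers_le.2 g₄)

end Setup

end Cfsg.Lib.Fusion.ExIdxP
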