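import Cfsg.Agent.Fusion.CharAut

/-!
An automorphism of a normal subgroup normalising a group containing the automorphisms induced by `S`
extends to `S`, after multiplication by an element of that group.
-/

set_option autoImplicit false
set_option linter.style.haveILetI false

namespace Cfsg.Lib.Fusion.ExIdxP

open Cfsg Cfsg.FusionSystem Cfsg.Lib.Fusion

universe u

variable {Ω : Type u} [Group Ω] {S : Subgroup Ω} {F : FusionSystem S} {p : ℕ}

theorem exists_lift [Finite S] [Fact p.Prime] (hS : IsPGroup p S) (hF : F.IsSaturated p)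
    {M : Subgroup Ω} (hM : M ≤ S) (hn : S ≤ Subgroup.normalizer (M : Set Ω))
    {H : Subgroup (MulAut M)} (hW : autInducedBy S M ≤ H) (hHG : H ≤ F.autGroup M)
    {β : MulAut M} (hβ : β ∈ F.autGroup M) (hnorm : ∀ η ∈ H, β * η * β⁻¹ ∈ H) :
    ∃ η ∈ H, ∃ ψ ∈ F.autGroup S, ∀ m ∈ M, autFun ψ m = autFun (η * β) m := by
  haveI := finite_of_le hM
  obtain ⟨-, hfa, hrec⟩ := fullyNormalized_props hS hF (fullyNormalized_of_normalized (F := F) hM hn)
  rw [isFullyAutomized_iff hS] at hfa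
  set W := autInducedBy S M
  have hidx : ¬ p ∣ (W.subgroupOf H).index := fun hd => hfa.2 (by
    rw [← Subgroup.relIndex_mul_relIndex W H (F.autGroup M) hW hHG]
    exact dvd_mul_of_dvd_left hd _)
  have hWp : IsPGroup p (W.subgroupOf H) :=
    (isPGroup_autInducedBy hS M).of_injective (Subgroup.subgroupOfEquivOfLe hW).toMonoidHom
      (Subgroup.subgroupOfEquivOfLe hW).injective
  let R : Sylow p H := hWp.toSylow hidx
  set W' := (W.map (MulAut.conj β).toMonoidHom).subgroupOf H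
  have hW'H : W.map (MulAut.conj β).toMonoidHom ≤ H := by
    rintro _ ⟨w, hw, rfl⟩
    exact hnorm w (hW hw)
  have hW'p : IsPGroup p W' :=
    ((isPGroup_autInducedBy hS M).map _).of_injective (Subgroup.subgroupOfEquivOfLe hW'H).toMonoidHom
      (Subgroup.subgroupOfEquivOfLe hW'H).injective
  obtain ⟨T, hT⟩ := hW'p.exists_le_sylow
  obtain ⟨η, hη⟩ := MulAction.exists_smul_eq H T R
  refine ⟨η, η.2, ?_⟩
  set γ := (η : MulAut M) * β
  have hγ : γ ∈ F.autGroup M := Subgroup.mul_mem _ (hHG η.2) hβ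
  have hγW : ∀ w ∈ W, γ * w * γ⁻¹ ∈ W := by
    intro w hw
    have hb : (η * ⟨β * w * β⁻¹, hnorm w (hW hw)⟩ * η⁻¹ : H) ∈ ((η • T : Sylow p H) : Subgroup H) :=
      ⟨⟨β * w * β⁻¹, hnorm w (hW hw)⟩, hT ⟨w, hw, rfl⟩, rfl⟩
    rw [hη] at hb
    have hb' : (η : MulAut M) * (β * w * β⁻¹) * (η : MulAut M)⁻¹ ∈ W := hb
    simpa [γ, mul_assoc, mul_inv_rev] using hb'
  have hm : IsMap F M (autFun γ) := (isMap_autFun hM).2 hγ
  obtain ⟨f, hf, hag⟩ := receptive_extend hrec hm (img_autFun γ)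
  have hle : S ≤ extSub S M (autFun γ) := fun g hg => by
    obtain ⟨s, hs, es⟩ := mem_autInducedBy.1
      (hγW _ (conjAut_mem_autInducedBy (hn hg) hg))
    refine ⟨hg, hn hg, s, hs, fun m hm' => ?_⟩
    have hγm := autFun_mem γ hm'
    have e := es ⟨autFun γ m, hγm⟩
    rw [MulAut.mul_apply, MulAut.mul_apply, show γ⁻¹ ⟨autFun γ m, hγm⟩ = ⟨m, hm'⟩ from by
      rw [MulAut.inv_apply, MulEquiv.symm_apply_eq]; exact Subtype.ext (autFun_apply_mem γ hm')] at e
    rw [← e]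
    have hgm : g * m * g⁻¹ ∈ M := conj_mem_of_mem_normalizer (hn hg) hm'
    rw [autFun_apply_mem γ hgm]
    rw [show conjAut M g (hn hg) ⟨m, hm'⟩ = ⟨g * m * g⁻¹, hgm⟩ from Subtype.ext (conjAut_apply _ _)]
  have hfS : IsMap F S f := hf.mono hle
  obtain ⟨ψ, hψ, hψf⟩ := hfS.exists_aut
    (Subgroup.eq_of_le_of_card_ge hfS.img_le (le_of_eq hfS.card_img.symm))
  exact ⟨ψ, hψ, fun m hm' => by rw [hψf m (hM hm'), hag m hm']⟩

end Cfsg.Lib.Fusion.ExIdxP
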