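import Cfsg.Agent.Fusion.ExIdxP.Algebra
import Cfsg.Agent.Fusion.ExIdxP.Torus

/-!
A conjugate of the centre inside `Q`: the order and the exponent.
-/

set_option autoImplicit false
set_option linter.style.haveILetI false
set_option linter.unusedSectionVars false

namespace Cfsg.Lib.Fusion.ExIdxP

open Cfsg Cfsg.FusionSystem Cfsg.Lib.Fusion Cfsg.Lib.Fusion.ExtraspecialIndex
open scoped commutatorElement

universe u

variable {Ω : Type u} [Group Ω] {S : Subgroup Ω} {F : FusionSystem S} {p : ℕ}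

/-- A map between the centralizers of two conjugates of `z` in `Q`. -/
structure Pair (F : FusionSystem S) (Q : Subgroup Ω) (z y y₁ : Ω) (f : Ω → Ω) : Prop where
  two : Two F Q z y
  two₁ : Two F Q z y₁
  map : IsMap F (cS S y) f
  fy : f y = z
  fz : f z = y₁
  onto : img (cS S y) f = cS S y₁

/-- What such a map gives at its target. -/
structure Side (F : FusionSystem S) (p : ℕ) (Q : Subgroup Ω) (z y x r : Ω) : Prop where
  two : Two F Q z y
  card : Nat.card Q = p ^ 5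
  xS : x ∈ S
  notQ : x ∉ Q
  xy : Commute x y
  rmem : r ∈ cQ Q y
  rp : r ^ p = 1
  xr : ⁅x, r⁆ = y

namespace Setup

variable [Finite S] [hp : Fact p.Prime] {Q : Subgroup Ω} {z : Ω} (h : Setup F p Q z)
include h

theorem card_S : Nat.card S = p * Nat.card Q := h.idx

theorem two_card {y : Ω} (ty : Two F Q z y) :
    Nat.card (cS S y) = Nat.card Q ∧ Nat.card Q ≤ p * Nat.card (cQ Q y) ∧
      p * Nat.card (cQ Q y) ≤ Nat.card Q := by
  obtain ⟨hyQ, hyZ, -, hout⟩ := ty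
  haveI := h.finite_Q
  obtain ⟨s, hs, hsQ⟩ := SetLike.not_le_iff_exists.1 hout
  have h1 : Nat.card Q ≤ p * Nat.card (cQ Q y) := h.card_le_centralizer h.le y fun w hw => h.comm_Q hyQ hw
  have h2 : p * Nat.card (cQ Q y) ≤ Nat.card (cS S y) :=
    h.card_mul_le (cS_le y) (h.cQ_le_cS y) hs fun hm => hsQ hm.1
  obtain ⟨b, hb, hb1⟩ := h.exists_pair hyQ hyZ
  have h3 : p * Nat.card (cQ Q y) ≤ Nat.card Q :=
    h.card_mul_le h.le inf_le_left hb fun hm => one_ne_zero (α := ZMod p) (by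
      rw [← hb1]; exact (h.cc_eq_zero hb hyQ).2 (mem_cQ.1 hm).2)
  have h4 : p * Nat.card (cS S y) ≤ Nat.card S :=
    h.card_mul_le le_rfl (cS_le y) (h.le hb) fun hm => one_ne_zero (α := ZMod p) (by
      rw [← hb1]; exact (h.cc_eq_zero hb hyQ).2 (mem_cS.1 hm).2)
  rw [h.card_S] at h4
  exact ⟨le_antisymm (Nat.le_of_mul_le_mul_left h4 hp.out.pos) (h1.trans h2), h1, h3⟩

theorem exists_pairing {y : Ω} (ty : Two F Q z y) : ∃ y₁ f, Pair F Q z y y₁ f := by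
  obtain ⟨hyQ, hyZ, hy, hout⟩ := id ty
  have hyS := h.le hyQ
  obtain ⟨f, hf, hfy⟩ := h.push hy
  obtain ⟨a, ha, b, hb, hab⟩ := h.nonab_cQ hyQ
  obtain ⟨hzQ, -⟩ := h.push_z_mem hyS hf ha.1 (h.cQ_le_cS y ha) hb.1 (h.cQ_le_cS y hb) hab
  have hzm := h.z_mem_cS hyS
  have hnot := h.push_z_not_cen hyZ hyS (h.zc_pow hy) hf hfy
  have himg : img (cS S y) f ≤ cS S (f z) := IsMap.img_le_iff.mpr fun u hu => mem_cS.2 ⟨hf.mem_S hu, by
    rw [← hf.map_mul hu hzm, ← hf.map_mul hzm hu, ← h.z_central h.zmem ((cS_le y) hu)]⟩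
  haveI := finite_of_le (cS_le (S := S) y)
  haveI := finite_of_le (cS_le (S := S) (f z))
  have hcy := (h.two_card ty).1
  have ty₁ : Two F Q z (f z) := by
    refine ⟨hzQ, hnot, h.zc_map hf h.zc_self hzm, fun hle => ?_⟩
    haveI := h.finite_Q
    haveI : Finite (cQ Q (f z)) := finite_of_le (inf_le_left.trans h.le)
    have h1 : Nat.card (img (cS S y) f) ≤ Nat.card (cQ Q (f z)) :=
      Subgroup.card_le_of_le (H := img (cS S y) f) (K := cQ Q (f z))
        (fun u hu => mem_cQ.2 ⟨hle (himg hu), (mem_cS.1 (himg hu)).2⟩)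
    rw [hf.card_img, hcy] at h1
    obtain ⟨c, hc, hc1⟩ := h.exists_pair hzQ hnot
    have h2 : p * Nat.card (cQ Q (f z)) ≤ Nat.card Q :=
      h.card_mul_le h.le inf_le_left hc fun hm => one_ne_zero (α := ZMod p) (by
        rw [← hc1]; exact (h.cc_eq_zero hc hzQ).2 (mem_cQ.1 hm).2)
    have := hp.out.two_le
    have := Nat.card_pos (α := Q)
    nlinarith
  exact ⟨f z, f, ty, ty₁, hf, hfy, rfl, Subgroup.eq_of_le_of_card_ge himg
    (by rw [hf.card_img, (h.two_card ty).1, (h.two_card ty₁).1])⟩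

theorem pair_symm {y y₁ : Ω} {f : Ω → Ω} (P : Pair F Q z y y₁ f) : ∃ g, Pair F Q z y₁ y g := by
  obtain ⟨g, hg, hgi, hl, -⟩ := P.map.exists_inv
  have hyS := h.le P.two.1
  rw [P.onto] at hg hgi
  refine ⟨g, P.two₁, P.two, hg, ?_, ?_, hgi⟩
  · rw [← P.fz]; exact hl z (h.z_mem_cS hyS)
  · rw [← P.fy]; exact hl y (h.self_mem_cS hyS)

theorem pair_comm {y y₁ : Ω} {f : Ω → Ω} (P : Pair F Q z y y₁ f) {a b : Ω} (ha : a ∈ cQ Q y)
    (hb : b ∈ cQ Q y) : ⁅f a, f b⁆ = ze y₁ (cc p z a b) := by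
  have hac := h.cQ_le_cS y ha
  have hbc := h.cQ_le_cS y hb
  have hzm := h.z_mem_cS (h.le P.two.1)
  rw [← P.fz, ze, ← P.map.map_pow hzm, show z ^ (cc p z a b).val = ze z (cc p z a b) from rfl,
    h.cc_spec ha.1 hb.1, commutatorElement_def, commutatorElement_def,
    P.map.map_mul ((cS S y).mul_mem ((cS S y).mul_mem hac hbc) ((cS S y).inv_mem hac))
      ((cS S y).inv_mem hbc), P.map.map_conj hac hbc, P.map.map_inv hbc]

theorem pair_pow {y y₁ : Ω} {f : Ω → Ω} (P : Pair F Q z y y₁ f) {a : Ω} (ha : a ∈ cQ Q y) :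
    ∃ i : ZMod p, f a ^ p = ze y₁ i := by
  obtain ⟨i, hi⟩ := h.exists_ze (h.pow_mem_cen ha.1)
  refine ⟨i, ?_⟩
  rw [← P.map.map_pow (h.cQ_le_cS y ha), ← hi, ze, P.map.map_pow (h.z_mem_cS (h.le P.two.1)), P.fz]
  rfl

theorem ze_two_cen {y : Ω} (ty : Two F Q z y) {i : ZMod p} (hi : ze y i ∈ cen Q) : i = 0 := by
  haveI := h.neZero
  by_contra hne
  refine ty.2.1 (h.not_mem_of_pow (h.zc_pow ty.2.2.1) (i := (i.val : ℤ)) (fun hd => hne ?_)
    (by rw [zpow_natCast]; exact hi))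
  rw [← ZMod.natCast_zmod_val i, ZMod.natCast_eq_zero_iff]
  exact Int.natCast_dvd_natCast.1 hd

/-- The side at the target of a pair. -/
theorem exists_side {y y₁ : Ω} {f : Ω → Ω} (P : Pair F Q z y y₁ f) :
    ∃ x r, Side F p Q z y₁ x r ∧ (∃ a ∈ cQ Q y, f a = x) ∧ ∃ b ∈ cQ Q y, f b = r := by
  haveI := h.finite_Q
  obtain ⟨hy₁Q, hy₁Z, -, -⟩ := id P.two₁
  have hle := h.cQ_le_cS (Q := Q) y
  have hfm : IsMap F (cQ Q y) f := P.map.mono hle
  set D := img (cQ Q y) f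
  have hD : D ≤ cS S y₁ := by
    rw [← P.onto]; exact IsMap.img_le_iff.mpr fun u hu => IsMap.apply_mem_img (hle hu)
  have hDc : Nat.card D = Nat.card (cQ Q y) := hfm.card_img
  set R := D ⊓ Q
  have hRfin : Finite R := finite_of_le (inf_le_right.trans h.le)
  have hDR : Nat.card D ≤ p * Nat.card R := by
    have := card_le_inf (H := Q) (K := D) h.le (hD.trans (cS_le y₁)) h.card_S.le
    rwa [inf_comm] at this
  have hRab : ∀ a ∈ R, ∀ b ∈ R, a * b = b * a := by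
    intro a ha b hb
    obtain ⟨c, hc, rfl⟩ := hfm.mem_img.1 ha.1
    obtain ⟨d, hd, rfl⟩ := hfm.mem_img.1 hb.1
    have hm := h.comm_mem ha.2 hb.2
    rw [h.pair_comm P hc hd] at hm
    rw [← commutatorElement_eq_one_iff_mul_comm, h.pair_comm P hc hd, h.ze_two_cen P.two₁ hm, ze_zero_of]
  have hA := h.card_abelian (A := R) inf_le_right hRab
  obtain ⟨hcy, hc1, hc2⟩ := h.two_card P.two
  rw [← hDc] at hc1
  have hQ5 : Nat.card Q = p ^ 5 := by
    refine le_antisymm (Nat.le_of_mul_le_mul_right ?_ (Nat.card_pos (α := Q))) h.big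
    calc Nat.card Q * Nat.card Q ≤ (p * (p * Nat.card R)) * (p * (p * Nat.card R)) :=
          Nat.mul_le_mul (hc1.trans (Nat.mul_le_mul le_rfl hDR)) (hc1.trans (Nat.mul_le_mul le_rfl hDR))
      _ = p ^ 4 * (Nat.card R * Nat.card R) := by ring
      _ ≤ p ^ 4 * (p * Nat.card Q) := Nat.mul_le_mul le_rfl hA
      _ = p ^ 5 * Nat.card Q := by ring
  obtain ⟨a, ha, b, hb, hab⟩ := h.nonab_cQ P.two.1
  have hfab : ⁅f a, f b⁆ ≠ 1 := fun e => hab (by
    rw [h.pair_comm P ha hb] at e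
    rw [← h.cc_spec ha.1 hb.1, h.ze_two_cen P.two₁ (i := cc p z a b) (e.symm ▸ (cen Q).one_mem), h.ze_zero])
  obtain ⟨x, hxD, hxQ⟩ : ∃ x ∈ D, x ∉ Q := by
    by_contra hno
    push Not at hno
    exact hfab (commutatorElement_eq_one_iff_mul_comm.2
      (hRab _ ⟨IsMap.apply_mem_img ha, hno _ (IsMap.apply_mem_img ha)⟩
        _ ⟨IsMap.apply_mem_img hb, hno _ (IsMap.apply_mem_img hb)⟩))
  obtain ⟨c, hc, hcx⟩ := hfm.mem_img.1 hxD
  have hxS : x ∈ S := (hD hxD).1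
  obtain ⟨r₀, hr₀, hxr₀⟩ : ∃ r₀ ∈ R, ⁅x, r₀⁆ ≠ 1 := by
    by_contra hno
    push Not at hno
    refine hfab (commutatorElement_eq_one_iff_mul_comm.2 ?_)
    have hall : ∀ d ∈ D, ∃ k : ℤ, ∃ e ∈ R, d = e * x ^ k := by
      intro d hd
      obtain ⟨k, q, hq, rfl⟩ := h.exists_decomp hxS hxQ (hD hd).1
      have hqD : q ∈ D := by
        have := D.mul_mem hd (D.inv_mem (D.zpow_mem hxD k))
        rwa [mul_inv_cancel_right] at this
      exact ⟨k, q, ⟨hqD, hq⟩, rfl⟩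
    obtain ⟨k, e, he, hea⟩ := hall _ (IsMap.apply_mem_img ha)
    obtain ⟨l, e', he', heb⟩ := hall _ (IsMap.apply_mem_img hb)
    have c1 : Commute e x := (commutatorElement_eq_one_iff_commute.1 (hno e he)).symm
    have c2 : Commute e' x := (commutatorElement_eq_one_iff_commute.1 (hno e' he')).symm
    rw [hea, heb]
    exact (((show Commute e e' from hRab e he e' he').mul_right (c1.zpow_right l)).mul_left
      (((c2.zpow_right k).symm).mul_right ((Commute.refl x).zpow_zpow k l))).eq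
  obtain ⟨d, hd, hdr⟩ := hfm.mem_img.1 hr₀.1
  set k := cc p z c d
  have hxr : ⁅x, r₀⁆ = ze y₁ k := by rw [← hcx, ← hdr, h.pair_comm P hc hd]
  have hk : k ≠ 0 := fun e => hxr₀ (by rw [hxr, e, ze_zero_of])
  have hy₁p : y₁ ^ p = 1 := h.zc_pow P.two₁.2.2.1
  refine ⟨x, ze r₀ k⁻¹, ⟨P.two₁, hQ5, hxS, hxQ, (mem_cS.1 (hD hxD)).2,
    mem_cQ.2 ⟨Q.pow_mem hr₀.2 _, ((show Commute r₀ y₁ from (mem_cS.1 (hD hr₀.1)).2).pow_left _).eq⟩,
    ?_, ?_⟩, ⟨c, hc, hcx⟩,
    ⟨ze d k⁻¹, (cQ Q y).pow_mem hd _, by rw [ze, P.map.map_pow (hle hd), hdr]; rfl⟩⟩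
  · have hrQ : ze r₀ k⁻¹ ∈ Q := Q.pow_mem hr₀.2 _
    obtain ⟨i, hi⟩ := h.pair_pow P ((cQ Q y).pow_mem hd k⁻¹.val)
    rw [P.map.map_pow (hle hd), hdr] at hi
    have := h.pow_mem_cen hrQ
    rw [ze, hi] at this
    rw [ze, hi, h.ze_two_cen P.two₁ this, ze_zero_of]
  · haveI := h.neZero
    rw [ze, comm_pow_right (by
      rw [hxr]; exact ((show Commute r₀ y₁ from (mem_cS.1 (hD hr₀.1)).2).symm.pow_left _) ), hxr,
      ze_pow_of hy₁p, ZMod.natCast_zmod_val, inv_mul_cancel₀ hk, ze_one_of]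

namespace Sd

variable {y x r : Ω} (d : Side F p Q z y x r)
include d

theorem yQ : y ∈ Q := d.two.1

theorem yp : y ^ p = 1 := h.zc_pow d.two.2.2.1

theorem rQ : r ∈ Q := d.rmem.1

theorem ry : Commute r y := (mem_cQ.1 d.rmem).2

theorem comm_mem {q : Ω} (hq : q ∈ Q) : ⁅x, q⁆ ∈ cQ Q y := by
  refine (h.cQ_eq_zero d.two.1).2 ⟨h.comm_S_Q d.xS hq, ?_⟩
  have e := h.invariance d.xS hq d.two.1
  rw [commutatorElement_eq_one_iff_commute.2 d.xy, h.cc_one_right hq,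
    h.cc_one_right (h.comm_S_Q d.xS hq), add_zero, add_zero] at e
  exact e

theorem cc_r {v : Ω} (hv : v ∈ Q) (hvy : cc p z v y = 1) : cc p z ⁅x, v⁆ r = -1 := by
  have e := h.invariance d.xS hv d.rmem.1
  rw [d.xr, hvy, ((h.cQ_eq_zero d.two.1).1 (comm_mem h d hv)).2, add_zero] at e
  exact eq_neg_of_add_eq_zero_left e

/-- The group generated by `z`, `y` and `r`. -/
theorem card_base : p ^ 3 ≤ Nat.card (Subgroup.zpowers z ⊔ Subgroup.zpowers y ⊔ Subgroup.zpowers r : Subgroup Ω) ∧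
    p ^ 2 ≤ Nat.card (Subgroup.zpowers z ⊔ Subgroup.zpowers y : Subgroup Ω) := by
  have hyQ := d.two.1
  have hrQ := d.rmem.1
  have l₁ : Subgroup.zpowers z ⊔ Subgroup.zpowers y ≤ Q :=
    sup_le (Subgroup.zpowers_le.2 h.zQ) (Subgroup.zpowers_le.2 hyQ)
  have s₁ := h.card_mul_le (A := Subgroup.zpowers z) (B := Subgroup.zpowers z ⊔ Subgroup.zpowers y)
    (l₁.trans h.le) le_sup_left (Subgroup.mem_sup_right (Subgroup.mem_zpowers y))
    (by rw [← h.cenQ_eq]; exact d.two.2.1)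
  have hle : Subgroup.zpowers z ⊔ Subgroup.zpowers y ≤ Subgroup.centralizer ({x} : Set Ω) :=
    sup_le (Subgroup.zpowers_le.2 (Subgroup.mem_centralizer_singleton_iff.2
      (h.z_central h.zmem d.xS).symm))
      (Subgroup.zpowers_le.2 (Subgroup.mem_centralizer_singleton_iff.2 d.xy.symm.eq))
  have s₂ := h.card_mul_le (B := Subgroup.zpowers z ⊔ Subgroup.zpowers y ⊔ Subgroup.zpowers r)
    ((sup_le l₁ (Subgroup.zpowers_le.2 hrQ)).trans h.le) le_sup_left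
    (Subgroup.mem_sup_right (Subgroup.mem_zpowers r)) (fun hm => h.zc_ne_one d.two.2.2.1 (by
      rw [← d.xr, commutatorElement_eq_one_iff_mul_comm]
      exact (Subgroup.mem_centralizer_singleton_iff.1 (hle hm)).symm))
  rw [Nat.card_zpowers, h.order_z] at s₁
  refine ⟨le_trans ?_ s₂, le_of_eq_of_le (by ring) s₁⟩
  exact le_of_eq_of_le (by ring) (Nat.mul_le_mul le_rfl s₁)

/-- Elements of `Q` orthogonal to `y` and `r` lie in the group generated by `z`, `y` and `r`. -/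
theorem mem_base {q : Ω} (hq : q ∈ Q) (hqy : cc p z q y = 0) (hqr : cc p z q r = 0) :
    q ∈ Subgroup.zpowers z ⊔ Subgroup.zpowers y ⊔ Subgroup.zpowers r := by
  haveI := h.finite_Q
  set A := Subgroup.zpowers z ⊔ Subgroup.zpowers y ⊔ Subgroup.zpowers r
  have hyQ := d.two.1
  have hrQ := d.rmem.1
  have hAQ : A ≤ Q := sup_le (sup_le (Subgroup.zpowers_le.2 h.zQ) (Subgroup.zpowers_le.2 hyQ))
    (Subgroup.zpowers_le.2 hrQ)
  have hcen : ∀ {b : Ω}, b ∈ Q → cc p z b y = 0 → cc p z b r = 0 →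
      A ≤ Subgroup.centralizer ({b} : Set Ω) := fun hb hby hbr => sup_le (sup_le
        (Subgroup.zpowers_le.2 (Subgroup.mem_centralizer_singleton_iff.2 (h.z_central h.zmem (h.le hb)).symm))
        (Subgroup.zpowers_le.2 (Subgroup.mem_centralizer_singleton_iff.2 ((h.cc_eq_zero hb hyQ).1 hby).symm)))
        (Subgroup.zpowers_le.2 (Subgroup.mem_centralizer_singleton_iff.2 ((h.cc_eq_zero hb hrQ).1 hbr).symm))
  set C := Q ⊓ Subgroup.centralizer (A : Set Ω)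
  have hmemC : ∀ {b : Ω}, b ∈ Q → cc p z b y = 0 → cc p z b r = 0 → b ∈ C := fun hb hby hbr =>
    ⟨hb, fun s hs => Subgroup.mem_centralizer_singleton_iff.1 (hcen hb hby hbr hs)⟩
  have hry : cc p z r y = 0 := (h.cc_eq_zero hrQ hyQ).2 (mem_cQ.1 d.rmem).2
  have hyr : cc p z y r = 0 := by rw [h.cc_swap hrQ hyQ, hry, neg_zero]
  haveI : Finite C := finite_of_le (inf_le_left.trans h.le)
  have hAC : A ≤ C := sup_le (sup_le
      (Subgroup.zpowers_le.2 (hmemC h.zQ (h.cc_cen_left h.zmem hyQ) (h.cc_cen_left h.zmem hrQ)))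
      (Subgroup.zpowers_le.2 (hmemC hyQ (h.cc_self hyQ) hyr)))
      (Subgroup.zpowers_le.2 (hmemC hrQ hry (h.cc_self hrQ)))
  have hb := h.card_perp_le (Y := A) hAQ
    (h.cenQ_eq.le.trans (le_sup_left.trans le_sup_left))
  have h3 := (card_base h d).1
  haveI : Finite A := finite_of_le (hAQ.trans h.le)
  have : Nat.card C ≤ Nat.card A := by
    refine Nat.le_of_mul_le_mul_right ?_ (Nat.card_pos (α := A))
    haveI : Finite A := finite_of_le (hAQ.trans h.le)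
    calc Nat.card C * Nat.card A ≤ p * Nat.card Q := hb
      _ = p ^ 3 * p ^ 3 := by rw [d.card]; ring
      _ ≤ _ := Nat.mul_le_mul h3 h3
  rw [Subgroup.eq_of_le_of_card_ge hAC this]
  exact hmemC hq hqy hqr

theorem cQ_pow {q : Ω} (hq : q ∈ cQ Q y) : q ^ p = 1 := by
  obtain ⟨v, hv, hvy⟩ := h.exists_pair d.two.1 d.two.2.1
  haveI := h.finite_Q
  set v₂ := ⁅x, v⁆
  have hv₂ := comm_mem h d hv
  have hrQ := d.rmem.1
  set A := Subgroup.zpowers z ⊔ Subgroup.zpowers y ⊔ Subgroup.zpowers r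
  set B := A ⊔ Subgroup.zpowers v₂
  have hzc : z ∈ cQ Q y := mem_cQ.2 ⟨h.zQ, (h.z_central h.zmem (h.le d.two.1)).symm⟩
  have hBC : B ≤ cQ Q y := sup_le (sup_le (sup_le (Subgroup.zpowers_le.2 hzc)
    (Subgroup.zpowers_le.2 (mem_cQ.2 ⟨d.two.1, rfl⟩))) (Subgroup.zpowers_le.2 d.rmem))
    (Subgroup.zpowers_le.2 hv₂)
  have hBO : B ≤ h.omega := sup_le (sup_le (sup_le (Subgroup.zpowers_le.2 ⟨h.zQ, h.z_pow h.zmem⟩)
    (Subgroup.zpowers_le.2 ⟨d.two.1, h.zc_pow d.two.2.2.1⟩)) (Subgroup.zpowers_le.2 ⟨hrQ, d.rp⟩))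
    (Subgroup.zpowers_le.2 ⟨hv₂.1, h.comm_pow_p d.xS hv⟩)
  have hry : cc p z r y = 0 := (h.cc_eq_zero hrQ d.two.1).2 (mem_cQ.1 d.rmem).2
  have hAr : A ≤ Subgroup.centralizer ({r} : Set Ω) := sup_le (sup_le
      (Subgroup.zpowers_le.2 (Subgroup.mem_centralizer_singleton_iff.2 (h.z_central h.zmem (h.le hrQ)).symm))
      (Subgroup.zpowers_le.2 (Subgroup.mem_centralizer_singleton_iff.2 (mem_cQ.1 d.rmem).2.symm)))
      (Subgroup.zpowers_le.2 (Subgroup.mem_centralizer_singleton_iff.2 rfl))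
  have hs := h.card_mul_le (A := A) (B := B) (hBC.trans (inf_le_left.trans h.le)) le_sup_left
    (Subgroup.mem_sup_right (Subgroup.mem_zpowers v₂)) (fun hm => neg_ne_zero.2 (one_ne_zero (α := ZMod p)) (by
      rw [← cc_r h d hv hvy, (h.cc_eq_zero hv₂.1 hrQ).2 (Subgroup.mem_centralizer_singleton_iff.1 (hAr hm))]))
  haveI : Finite (cQ Q y) := finite_of_le (inf_le_left.trans h.le)
  have hBeq : B = cQ Q y := Subgroup.eq_of_le_of_card_ge hBC (by
    have := (h.two_card d.two).2.2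
    rw [d.card] at this
    refine Nat.le_of_mul_le_mul_left (this.trans ?_) hp.out.pos
    calc p ^ 5 = p * (p * p ^ 3) := by ring
      _ ≤ p * (p * Nat.card A) := Nat.mul_le_mul le_rfl (Nat.mul_le_mul le_rfl (card_base h d).1)
      _ ≤ _ := Nat.mul_le_mul le_rfl hs)
  exact (hBO (hBeq.ge hq)).2

theorem deep : Deep S Q p := by
  intro x' hx' hx'Q H hH hcomm
  haveI := h.finite_Q
  obtain ⟨v, hv, hvy⟩ := h.exists_pair d.two.1 d.two.2.1
  have hker : H ≤ h.kerSub x d.xS := by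
    intro a ha
    obtain ⟨k, q, hq, he⟩ := h.exists_decomp hx' hx'Q d.xS
    refine (h.mem_kerSub d.xS).2 ⟨hH ha, ?_⟩
    let X : Subgroup Ω :=
      { carrier := {g | g ∈ S ∧ ⁅g, a⁆ ∈ cen Q}
        one_mem' := ⟨S.one_mem, by simp [(cen Q).one_mem]⟩
        mul_mem' := fun {g g'} hg hg' => ⟨S.mul_mem hg.1 hg'.1, by
          rw [comm_mul_left, h.conj_cen hg.1 hg'.2]; exact (cen Q).mul_mem hg'.2 hg.2⟩
        inv_mem' := fun {g} hg => ⟨S.inv_mem hg.1, by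
          rw [show ⁅g⁻¹, a⁆ = g⁻¹ * ⁅g, a⁆⁻¹ * g⁻¹⁻¹ by simp only [commutatorElement_def]; group,
            h.conj_cen (S.inv_mem hg.1) ((cen Q).inv_mem hg.2)]
          exact (cen Q).inv_mem hg.2⟩ }
    have hqX : q ∈ X := ⟨h.le hq, h.comm_mem hq (hH ha)⟩
    have hxX : x' ∈ X := ⟨hx', hcomm a ha⟩
    have : x ∈ X := he ▸ X.mul_mem hqX (X.zpow_mem hxX k)
    exact this.2
  have hKle : h.kerSub x d.xS ≤ Q := fun w hw => ((h.mem_kerSub d.xS).1 hw).1
  haveI : Finite (h.kerSub x d.xS) := finite_of_le (hKle.trans h.le)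
  have h1 : Nat.card H ≤ Nat.card (h.kerSub x d.xS) := Subgroup.card_le_of_le hker
  set I := h.imSub x d.xS
  have hIQ : I ≤ Q := h.imSub_le d.xS
  haveI : Finite I := finite_of_le (hIQ.trans h.le)
  have hyI : y ∈ I := d.xr ▸ h.comm_mem_imSub d.xS d.rmem.1
  have hzy : Subgroup.zpowers z ⊔ Subgroup.zpowers y ≤ I :=
    sup_le (Subgroup.zpowers_le.2 (h.cen_le_imSub d.xS h.zmem)) (Subgroup.zpowers_le.2 hyI)
  have hzr : Subgroup.zpowers z ⊔ Subgroup.zpowers y ≤ Subgroup.centralizer ({r} : Set Ω) :=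
    sup_le (Subgroup.zpowers_le.2 (Subgroup.mem_centralizer_singleton_iff.2
      (h.z_central h.zmem (h.le d.rmem.1)).symm))
      (Subgroup.zpowers_le.2 (Subgroup.mem_centralizer_singleton_iff.2 (mem_cQ.1 d.rmem).2.symm))
  have hI : p * Nat.card (Subgroup.zpowers z ⊔ Subgroup.zpowers y : Subgroup Ω) ≤ Nat.card I :=
    h.card_mul_le (hIQ.trans h.le) hzy (h.comm_mem_imSub d.xS hv) fun hm =>
      neg_ne_zero.2 (one_ne_zero (α := ZMod p)) (by
        rw [← cc_r h d hv hvy, (h.cc_eq_zero (h.comm_S_Q d.xS hv) d.rmem.1).2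
          (Subgroup.mem_centralizer_singleton_iff.1 (hzr hm))])
  have e := h.card_ker_im (g := x) d.xS
  rw [d.card] at e ⊢
  have h2 : Nat.card H * p ^ 3 ≤ p ^ 5 * p := e ▸ Nat.mul_le_mul h1
    (le_trans (le_of_eq_of_le (by ring) (Nat.mul_le_mul (le_refl p) (card_base h d).2)) hI)
  have h3 : Nat.card H ≤ p ^ 3 := Nat.le_of_mul_le_mul_right (h2.trans (le_of_eq (by ring)))
    (pow_pos hp.out.pos 3)
  calc p * Nat.card H ≤ p * p ^ 3 := Nat.mul_le_mul le_rfl h3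
    _ = p ^ 4 := by ring
    _ < p ^ 5 := Nat.pow_lt_pow_right hp.out.one_lt (by norm_num)

end Sd

end Setup

end Cfsg.Lib.Fusion.ExIdxP
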