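import Cfsg.Agent.Fusion.ExIdxP.CaseTwo

/-!
A conjugate of the centre inside `Q`: the exponent is `p`.
-/

set_option autoImplicit false
set_option linter.style.haveILetI false
set_option linter.unusedSectionVars false

namespace Cfsg.Lib.Fusion.ExIdxP

open Cfsg Cfsg.FusionSystem Cfsg.Lib.Fusion Cfsg.Lib.Fusion.ExtraspecialIndex
open scoped commutatorElement

universe u

variable {Ω : Type u} [Group Ω] {S : Subgroup Ω} {F : FusionSystem S} {p : ℕ}

theorem comm_inv_pair {y z : Ω} (hc : Commute y z) : (z * y)⁻¹ * z = y⁻¹ := by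
  rw [mul_inv_rev, mul_assoc, inv_mul_cancel, mul_one]

namespace Setup

variable [Finite S] [hp : Fact p.Prime] {Q : Subgroup Ω} {z : Ω} (h : Setup F p Q z)
include h

theorem normal_cS {y : Ω} (ty : Two F Q z y) : S ≤ Subgroup.normalizer (cS S y : Set Ω) := by
  haveI := finite_of_le (cS_le (S := S) y)
  obtain ⟨b, hb, hb1⟩ := h.exists_pair ty.1 ty.2.1
  have hne : cS S y ≠ S := fun e => one_ne_zero (α := ZMod p) (by
    rw [← hb1]; exact (h.cc_eq_zero hb ty.1).2 (mem_cS.1 (e.ge (h.le hb))).2)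
  have hlt := lt_normalizerIn h.isP (lt_of_le_of_ne (cS_le y) hne)
  have hc := SqCenter.eq_of_lt h.isP (inf_le_left : normalizerIn S (cS S y) ≤ S) hlt
  rw [(h.two_card ty).1, ← h.card_S] at hc
  haveI : Finite (normalizerIn S (cS S y)) := finite_of_le inf_le_left
  exact fun s hs => ((Subgroup.eq_of_le_of_card_ge (inf_le_left : normalizerIn S (cS S y) ≤ S) hc).ge hs).2

theorem omega_top {y : Ω} (ty : Two F Q z y)
    (hexp : ∀ q ∈ cQ Q y, q ^ p = 1) {v : Ω} (hv : v ∈ Q) (hvy : v ∉ cQ Q y) (hvp : v ^ p = 1) :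
    ∀ q ∈ Q, q ^ p = 1 := by
  haveI := h.finite_Q
  have hO : h.omega ≤ Q := fun _ ha => ((h.mem_omega).1 ha).1
  haveI : Finite h.omega := finite_of_le (hO.trans h.le)
  have hle : cQ Q y ≤ h.omega := fun a ha => ⟨ha.1, hexp a ha⟩
  have h1 := h.card_mul_le (hO.trans h.le) hle (show v ∈ h.omega from ⟨hv, hvp⟩) hvy
  have h2 := (h.two_card ty).2.1
  intro q hq
  exact (h.mem_omega.1 ((Subgroup.eq_of_le_of_card_ge hO (h2.trans h1)).ge hq)).2

/-- The exponent in the case of a moved centre inside `Q`. -/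
theorem two_exp (hwc : ¬ WC F Q z) : ∃ y x r, Side F p Q z y x r ∧ (∀ j : ZMod p, (x * ze r j) ^ p = 1) ∧
    ∀ q ∈ Q, q ^ p = 1 := by
  haveI := h.finite_Q
  obtain ⟨y₀, ty₀⟩ := h.exists_two hwc
  obtain ⟨y, f, P⟩ := h.exists_pairing ty₀
  obtain ⟨g, P'⟩ := h.pair_symm P
  obtain ⟨x, r, d, ⟨a, ha, hax⟩, ⟨b, hb, hbr⟩⟩ := h.exists_side P
  obtain ⟨x₀, r₀, d₀, -, -⟩ := h.exists_side P'
  have hyQ := d.two.1
  have hy₀Q := d₀.two.1
  have hy₀exp : ∀ q ∈ cQ Q y₀, q ^ p = 1 := fun q hq => Sd.cQ_pow h d₀ hq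
  have hyexp : ∀ q ∈ cQ Q y, q ^ p = 1 := fun q hq => Sd.cQ_pow h d hq
  refine ⟨y, x, r, d, fun j => ?_, ?_⟩
  · have hm := h.cQ_le_cS (Q := Q) y₀
    have hbj : ze b j ∈ cQ Q y₀ := (cQ Q y₀).pow_mem hb _
    have he : x * ze r j = f (a * ze b j) := by
      rw [P.map.map_mul (hm ha) (hm hbj), hax, ze, ze, P.map.map_pow (hm hb), hbr]
    rw [he, ← P.map.map_pow (hm ((cQ Q y₀).mul_mem ha hbj)), hy₀exp _ ((cQ Q y₀).mul_mem ha hbj),
      P.map.map_one]
  by_cases hsub : cQ Q y₀ ≤ cQ Q y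
  swap
  · obtain ⟨q, hq₀, hqy⟩ := SetLike.not_le_iff_exists.1 hsub
    exact h.omega_top d.two hyexp hq₀.1 hqy (hy₀exp q hq₀)
  -- the two centralizers coincide
  set C := Q ⊓ Subgroup.centralizer (cQ Q y₀ : Set Ω)
  have hZC : cen Q ≤ cQ Q y₀ := fun c hc => mem_cQ.2 ⟨hc.1, (h.z_central hc (h.le hy₀Q)).symm⟩
  haveI : Finite C := finite_of_le (inf_le_left.trans h.le)
  have hyC : y ∈ C := ⟨hyQ, fun s hs => (mem_cQ.1 (hsub hs)).2⟩
  set Y := Subgroup.zpowers z ⊔ Subgroup.zpowers y₀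
  have hYC : Y ≤ C := sup_le
    (Subgroup.zpowers_le.2 ⟨h.zQ, fun s hs => h.z_central h.zmem (h.le hs.1)⟩)
    (Subgroup.zpowers_le.2 ⟨hy₀Q, fun s hs => (mem_cQ.1 hs).2⟩)
  have hC : Nat.card C ≤ Nat.card Y := by
    have h1 := h.card_perp_le (Y := cQ Q y₀) inf_le_left hZC
    have h2 := (h.two_card d₀.two).2.1
    haveI : Finite Y := finite_of_le (hYC.trans (inf_le_left.trans h.le))
    refine le_trans (Nat.le_of_mul_le_mul_right ?_ (Nat.card_pos (α := Q))) (Sd.card_base h d₀).2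
    calc Nat.card C * Nat.card Q ≤ Nat.card C * (p * Nat.card (cQ Q y₀)) := Nat.mul_le_mul le_rfl h2
      _ = p * (Nat.card C * Nat.card (cQ Q y₀)) := by ring
      _ ≤ p * (p * Nat.card Q) := Nat.mul_le_mul le_rfl h1
      _ = p ^ 2 * Nat.card Q := by ring
  have hyY : y ∈ Y := (Subgroup.eq_of_le_of_card_ge hYC hC).ge hyC
  have hMle : cS S y₀ ≤ cS S y := fun s hs => by
    refine mem_cS.2 ⟨hs.1, ((Subgroup.mem_centralizer_singleton_iff.1 ((?_ : Y ≤
      Subgroup.centralizer ({s} : Set Ω)) hyY))).symm⟩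
    exact sup_le (Subgroup.zpowers_le.2 (Subgroup.mem_centralizer_singleton_iff.2
      (h.z_central h.zmem hs.1).symm))
      (Subgroup.zpowers_le.2 (Subgroup.mem_centralizer_singleton_iff.2 (mem_cS.1 hs).2.symm))
  haveI := finite_of_le (cS_le (S := S) y)
  have hM : cS S y₀ = cS S y := Subgroup.eq_of_le_of_card_ge hMle
    (by rw [(h.two_card d.two).1, (h.two_card d₀.two).1])
  have hfm : IsMap F (cS S y) f := hM ▸ P.map
  have hfi := (congrArg (fun X => img X f) hM.symm).trans P.onto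
  obtain ⟨M, hMdef⟩ : ∃ M, M = cS S y := ⟨_, rfl⟩
  rw [← hMdef] at hfm hfi
  obtain ⟨φ, hφ, hφf⟩ := hfm.exists_aut hfi
  have hMS : M ≤ S := hMdef.le.trans (cS_le y)
  have hn : S ≤ Subgroup.normalizer (M : Set Ω) := by rw [hMdef]; exact h.normal_cS d.two
  have hzM : z ∈ M := hMdef.ge (h.z_mem_cS (h.le hyQ))
  have hyM : y ∈ M := hMdef.ge (h.self_mem_cS (h.le hyQ))
  have hy₀M : y₀ ∈ M := hMdef.ge (hM.le (h.self_mem_cS (h.le hy₀Q)))
  have hcomm : Commute y z := h.z_central h.zmem (h.le hyQ)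
  obtain ⟨v, hv, hvy⟩ := h.exists_pair hyQ d.two.2.1
  obtain ⟨w, hw, hwy⟩ := h.exists_pair hy₀Q d₀.two.2.1
  set A := conjAut M v (hn (h.le hv))
  set B := φ * conjAut M w⁻¹ (hn (S.inv_mem (h.le hw))) * φ⁻¹
  have hAG : A ∈ F.autGroup M :=
    autInducedBy_le hMS (conjAut_mem_autInducedBy (hn (h.le hv)) (h.le hv))
  have hBG : B ∈ F.autGroup M := Subgroup.mul_mem _ (Subgroup.mul_mem _ hφ
    (autInducedBy_le hMS (conjAut_mem_autInducedBy (hn (S.inv_mem (h.le hw))) (S.inv_mem (h.le hw)))))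
    (Subgroup.inv_mem _ hφ)
  let zM : M := ⟨z, hzM⟩
  let yM : M := ⟨y, hyM⟩
  have hAz : A zM = zM := Subtype.ext (by
    show ((A zM : M) : Ω) = z
    rw [conjAut_apply]; exact h.conj_cen (h.le hv) h.zmem)
  have hAy : A yM = zM * yM := Subtype.ext (by
    show ((A yM : M) : Ω) = z * y
    rw [conjAut_apply]
    show v * y * v⁻¹ = z * y
    rw [← h.ze_one, ← hvy, h.cc_spec hv hyQ, commutatorElement_def]
    group)
  have hφz : φ zM = yM := Subtype.ext
    ((autFun_apply φ zM).symm.trans ((hφf z hzM).trans P.fz))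
  have hφy : φ ⟨y₀, hy₀M⟩ = zM := Subtype.ext
    ((autFun_apply φ (⟨y₀, hy₀M⟩ : M)).symm.trans ((hφf y₀ hy₀M).trans P.fy))
  have hBy : B yM = yM := by
    show φ (conjAut M w⁻¹ _ (φ.symm yM)) = yM
    rw [show φ.symm yM = zM from φ.symm_apply_eq.2 hφz.symm, show conjAut M w⁻¹
      (hn (S.inv_mem (h.le hw))) zM = zM from Subtype.ext (by
        rw [conjAut_apply]; exact h.conj_cen (S.inv_mem (h.le hw)) h.zmem), hφz]
  have hBz : B zM = yM⁻¹ * zM := by
    show φ (conjAut M w⁻¹ _ (φ.symm zM)) = yM⁻¹ * zM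
    rw [show φ.symm zM = ⟨y₀, hy₀M⟩ from φ.symm_apply_eq.2 hφy.symm, show conjAut M w⁻¹
      (hn (S.inv_mem (h.le hw))) ⟨y₀, hy₀M⟩ = zM⁻¹ * ⟨y₀, hy₀M⟩ from Subtype.ext (by
        rw [conjAut_apply]
        show w⁻¹ * y₀ * w⁻¹⁻¹ = z⁻¹ * y₀
        have e : ⁅w⁻¹, y₀⁆ = z⁻¹ := by
          rw [← h.cc_spec (Q.inv_mem hw) hy₀Q, h.cc_inv_left hw hy₀Q, hwy, h.ze_neg, h.ze_one]
        rw [← e, commutatorElement_def]
        group), map_mul, map_inv, hφz, hφy]
  set W := A * B * A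
  have hWz : W zM = yM⁻¹ := by
    show A (B (A zM)) = yM⁻¹
    rw [hAz, hBz, map_mul, map_inv, hAy, hAz]
    exact Subtype.ext (comm_inv_pair hcomm)
  have hWy : W yM = zM := by
    show A (B (A yM)) = zM
    rw [hAy, map_mul, hBz, hBy, mul_assoc,
      show yM⁻¹ * (zM * yM) = zM from Subtype.ext (by
        show y⁻¹ * (z * y) = z
        rw [← hcomm.eq, inv_mul_cancel_left]), hAz]
  set β := W * W
  have hWG : W ∈ F.autGroup M := Subgroup.mul_mem _ (Subgroup.mul_mem _ hAG hBG) hAG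
  have hβG : β ∈ F.autGroup M := Subgroup.mul_mem _ hWG hWG
  have hβz : β zM = zM⁻¹ := by
    show W (W zM) = zM⁻¹
    rw [hWz, map_inv, hWy]
  have hβy : β yM = yM⁻¹ := by
    show W (W yM) = yM⁻¹
    rw [hWy, hWz]
  have hβsz : β.symm zM = zM⁻¹ := β.symm_apply_eq.2 (by rw [map_inv, hβz, inv_inv])
  have hβsy : β.symm yM = yM⁻¹ := β.symm_apply_eq.2 (by rw [map_inv, hβy, inv_inv])
  -- the automorphisms fixing `z` and `y` modulo the centre
  let H : Subgroup (MulAut M) :=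
    { carrier := {η | η ∈ F.autGroup M ∧ η zM = zM ∧ ∃ i : ZMod p, η yM = zM ^ i.val * yM}
      one_mem' := ⟨Subgroup.one_mem _, rfl, 0, by simp⟩
      mul_mem' := fun {η η'} h1 h2 => by
        obtain ⟨i, hi⟩ := h1.2.2
        obtain ⟨j, hj⟩ := h2.2.2
        refine ⟨Subgroup.mul_mem _ h1.1 h2.1, by rw [MulAut.mul_apply, h2.2.1, h1.2.1], j + i, ?_⟩
        rw [MulAut.mul_apply, hj, map_mul, map_pow, h1.2.1, hi, ← mul_assoc]
        refine Subtype.ext ?_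
        show z ^ j.val * z ^ i.val * y = z ^ (j + i).val * y
        rw [show z ^ j.val * z ^ i.val = ze z (j + i) from h.ze_add j i]; rfl
      inv_mem' := fun {η} h1 => by
        obtain ⟨i, hi⟩ := h1.2.2
        refine ⟨Subgroup.inv_mem _ h1.1, by
          rw [MulAut.inv_apply, MulEquiv.symm_apply_eq, h1.2.1], -i, ?_⟩
        rw [MulAut.inv_apply, MulEquiv.symm_apply_eq, map_mul, map_pow, h1.2.1, hi, ← mul_assoc]
        refine Subtype.ext ?_
        show y = z ^ (-i).val * z ^ i.val * y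
        rw [show z ^ (-i).val * z ^ i.val = ze z (-i + i) from h.ze_add (-i) i, neg_add_cancel, h.ze_zero,
          one_mul] }
  have hW' : autInducedBy S M ≤ H := by
    intro η hη
    obtain ⟨s, hs, es⟩ := mem_autInducedBy.1 hη
    refine ⟨autInducedBy_le hMS hη, Subtype.ext (by rw [es]; exact h.conj_cen hs h.zmem), ?_⟩
    obtain ⟨k, q, hq, rfl⟩ := h.exists_decomp d.xS d.notQ hs
    refine ⟨cc p z q y, Subtype.ext ?_⟩
    rw [es]
    show q * x ^ k * y * (q * x ^ k)⁻¹ = z ^ (cc p z q y).val * y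
    rw [show z ^ (cc p z q y).val = ze z (cc p z q y) from rfl, h.cc_spec hq hyQ,
      mul_inv_rev, mul_assoc q, (d.xy.zpow_left k).eq, commutatorElement_def]
    group
  obtain ⟨η, hη, ψ, hψ, hψβ⟩ := exists_lift h.isP h.sat hMS hn hW' (fun η hη => hη.1) hβG
    (fun η hη => by
      obtain ⟨i, hi⟩ := hη.2.2
      refine ⟨Subgroup.mul_mem _ (Subgroup.mul_mem _ hβG hη.1) (Subgroup.inv_mem _ hβG), ?_, i, ?_⟩
      · rw [MulAut.mul_apply, MulAut.mul_apply, MulAut.inv_apply, hβsz, map_inv, hη.2.1, map_inv, hβz,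
          inv_inv]
      · rw [MulAut.mul_apply, MulAut.mul_apply, MulAut.inv_apply, hβsy, map_inv, hi, map_inv, map_mul,
          map_pow, hβz, hβy, mul_inv_rev, inv_pow, inv_inv, inv_inv]
        exact Subtype.ext (hcomm.pow_right _).eq)
  obtain ⟨i, hi⟩ := hη.2.2
  have hm : IsMap F S (autFun ψ) := (isMap_autFun le_rfl).2 hψ
  have hψz : autFun ψ z = z⁻¹ := by
    rw [hψβ z hzM, autFun_apply (η * β) zM, MulAut.mul_apply, hβz, map_inv, hη.2.1]; rfl
  have hψy : autFun ψ y = y⁻¹ * (ze z i)⁻¹ := by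
    rw [hψβ y hyM, autFun_apply (η * β) yM, MulAut.mul_apply, hβy, map_inv, hi, mul_inv_rev]; rfl
  have hvQ' : autFun ψ v ∈ Q := h.aut_Q (Sd.deep h d) hψ hv
  obtain ⟨v', hv'⟩ : ∃ v', autFun ψ v = v' := ⟨_, rfl⟩
  rw [hv'] at hvQ'
  have hv'y : cc p z v' y = 1 := by
    have e := hm.map_pow h.zS (1 : ZMod p).val
    rw [hψz, show z ^ (1 : ZMod p).val = ze z (1 : ZMod p) from rfl, ← hvy, h.cc_spec hv hyQ,
      commutatorElement_def, hm.map_mul (S.mul_mem (S.mul_mem (h.le hv) (h.le hyQ)) (S.inv_mem (h.le hv)))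
      (S.inv_mem (h.le hyQ)), hm.map_conj (h.le hv) (h.le hyQ), hm.map_inv (h.le hyQ), hv', hψy,
      ← commutatorElement_def, hvy, ZMod.val_one, pow_one,
      ← h.cc_spec hvQ' (Q.mul_mem (Q.inv_mem hyQ) (Q.inv_mem (h.ze_Q i))),
      h.cc_mul_right hvQ' (Q.inv_mem hyQ) (Q.inv_mem (h.ze_Q i)),
      h.cc_cen_right ((cen Q).inv_mem (h.ze_mem i)) hvQ', add_zero, h.cc_inv_right hvQ' hyQ,
      show z⁻¹ = ze z (-1 : ZMod p) by rw [h.ze_neg, h.ze_one]] at e
    exact neg_inj.1 (h.ze_inj e)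
  have hdiff : v' * v⁻¹ ∈ cQ Q y := by
    refine (h.cQ_eq_zero hyQ).2 ⟨Q.mul_mem hvQ' (Q.inv_mem hv), ?_⟩
    rw [h.cc_mul_left hvQ' (Q.inv_mem hv) hyQ, h.cc_inv_left hv hyQ, hv'y, hvy, add_neg_cancel]
  have hpow : v' ^ p = v ^ p := by
    have e := h.mul_pow_p (Q.mul_mem hvQ' (Q.inv_mem hv)) hv
    rwa [inv_mul_cancel_right, hyexp _ hdiff, one_mul] at e
  obtain ⟨m, hmz⟩ := h.exists_ze (h.pow_mem_cen hv)
  have hzero : m = 0 := by
    rw [← hv', ← hm.map_pow (h.le hv), ← hmz, ze, hm.map_pow h.zS, hψz, inv_pow,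
      show (z ^ m.val)⁻¹ = ze z (-m) by rw [h.ze_neg]; rfl] at hpow
    have h2 : (2 : ZMod p) * m = 0 := by
      have := h.ze_inj (i := -m) (j := m) hpow
      linear_combination (-1 : ZMod p) * this
    refine (mul_eq_zero.1 h2).resolve_left ?_
    intro h2
    have h2' : p ∣ 2 := by
      rw [← ZMod.natCast_eq_zero_iff]; exact_mod_cast h2
    exact h.odd ((Nat.prime_dvd_prime_iff_eq hp.out Nat.prime_two).1 h2')
  refine h.omega_top d.two hyexp hv (fun hm' => one_ne_zero (α := ZMod p) (by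
    rw [← hvy]; exact ((h.cQ_eq_zero hyQ).1 hm').2)) ?_
  rw [← hmz, hzero, h.ze_zero]

end Setup

end Cfsg.Lib.Fusion.ExIdxP
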