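import Cfsg.Agent.Fusion.ExIdxP.Tables
import Cfsg.Agent.Fusion.ExIdxP.Algebra

/-!
The possible shapes of the group, and their building from relations in `Q`.
-/

set_option autoImplicit false
set_option linter.style.haveILetI false
set_option linter.unusedSectionVars false

namespace Cfsg.Lib.Fusion.ExIdxP

open Cfsg Cfsg.FusionSystem Cfsg.Lib.Fusion Cfsg.Lib.Fusion.ExtraspecialIndex
open scoped commutatorElement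

universe u

variable {Ω : Type u} [Group Ω] {S : Subgroup Ω} {F : FusionSystem S} {p : ℕ}

/-- The group is given by the first table with the two values. -/
def TwoShape (S : Subgroup Ω) (p : ℕ) (d₁ d₂ : ZMod p) : Prop :=
  ∃ g : Fin 6 → Ω, (∀ i, g i ∈ S) ∧ NormalForm.Rels (NormalForm.TwoT p d₁ d₂) g ∧
    S ≤ Subgroup.closure (Set.range g) ∧ Nat.card S = p ^ 6 ∧
    S ⊓ Subgroup.centralizer (S : Set Ω) ≤ Subgroup.zpowers (g 5)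

/-- The group is given by the second table. -/
def G2Shape (S : Subgroup Ω) (p : ℕ) : Prop :=
  5 ≤ p ∧ ∃ g : Fin 6 → Ω, (∀ i, g i ∈ S) ∧ NormalForm.Rels (NormalForm.G2T p) g ∧
    S ≤ Subgroup.closure (Set.range g) ∧ Nat.card S = p ^ 6 ∧
    S ⊓ Subgroup.centralizer (S : Set Ω) ≤ Subgroup.zpowers (g 5)

namespace Setup

variable [Finite S] [hp : Fact p.Prime] {Q : Subgroup Ω} {z : Ω} (h : Setup F p Q z)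
include h

theorem S_le_closure {x : Ω} (hx : x ∈ S) (hxQ : x ∉ Q) {G : Subgroup Ω} (hxG : x ∈ G) (hQG : Q ≤ G) :
    S ≤ G := by
  intro s hs
  obtain ⟨k, q, hq, rfl⟩ := h.exists_decomp hx hxQ hs
  exact G.mul_mem (hQG hq) (G.zpow_mem hxG k)

theorem cenS_le {e : ZMod p} (he : e ≠ 0) :
    S ⊓ Subgroup.centralizer (S : Set Ω) ≤ Subgroup.zpowers (ze z e) := by
  haveI := h.neZero
  refine le_trans (le_of_eq h.hcen) (h.cenQ_eq.le.trans (Subgroup.zpowers_le.2 ?_))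
  have hz : ze z e ^ (e⁻¹).val = z := by
    rw [h.ze_pow, ZMod.natCast_zmod_val, inv_mul_cancel₀ he, h.ze_one]
  exact ⟨((e⁻¹).val : ℤ), by simpa only [zpow_natCast] using hz⟩

theorem two_shape {x v₁ v₂ k₁ k₂ : Ω} {d₁ d₂ : ZMod p} (hQ5 : Nat.card Q = p ^ 5) (hxS : x ∈ S)
    (hxQ : x ∉ Q) (hxp : x ^ p = 1) (hexp : ∀ q ∈ Q, q ^ p = 1) (hv₁ : v₁ ∈ Q) (hv₂ : v₂ ∈ Q)
    (e₁ : ⁅x, v₁⁆ = k₁) (e₂ : ⁅x, v₂⁆ = k₂) (c₁ : Commute x k₁) (c₂ : Commute x k₂)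
    (vv : cc p z v₁ v₂ = 0) (v₁k₁ : cc p z v₁ k₁ = d₁) (v₁k₂ : cc p z v₁ k₂ = 0)
    (v₂k₁ : cc p z v₂ k₁ = 0) (v₂k₂ : cc p z v₂ k₂ = d₂) (kk : cc p z k₁ k₂ = 0)
    (hd₁ : d₁ ≠ 0) (hd₂ : d₂ ≠ 0) : TwoShape S p d₁ d₂ := by
  have hk₁ : k₁ ∈ Q := e₁ ▸ h.comm_S_Q hxS hv₁
  have hk₂ : k₂ ∈ Q := e₂ ▸ h.comm_S_Q hxS hv₂
  have hS : ∀ {w : Ω}, w ∈ Q → w ∈ S := fun hw => h.le hw
  refine ⟨![x, v₁, v₂, k₁, k₂, z], ?_, ?_, ?_, ?_, ?_⟩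
  · intro i; fin_cases i
    exacts [hxS, hS hv₁, hS hv₂, hS hk₁, hS hk₂, h.zS]
  · haveI : Fact (1 < p) := ⟨hp.out.one_lt⟩
    refine NormalForm.TwoRel.rels ⟨hxp, hexp _ hv₁, hexp _ hv₂, hexp _ hk₁, hexp _ hk₂, h.z_pow h.zmem,
      e₁, e₂, c₁, c₂, (h.cc_eq_zero hv₁ hv₂).1 vv, ?_, (h.cc_eq_zero hv₁ hk₂).1 v₁k₂,
      (h.cc_eq_zero hv₂ hk₁).1 v₂k₁, ?_, (h.cc_eq_zero hk₁ hk₂).1 kk,
      (h.z_central h.zmem hxS).symm, (h.z_central h.zmem (hS hv₁)).symm,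
      (h.z_central h.zmem (hS hv₂)).symm, (h.z_central h.zmem (hS hk₁)).symm,
      (h.z_central h.zmem (hS hk₂)).symm⟩
    · rw [← h.cc_spec hv₁ hk₁, v₁k₁]; rfl
    · rw [← h.cc_spec hv₂ hk₂, v₂k₂]; rfl
  · have hm : ∀ i, ![x, v₁, v₂, k₁, k₂, z] i ∈ Subgroup.closure (Set.range ![x, v₁, v₂, k₁, k₂, z]) :=
      fun i => Subgroup.subset_closure ⟨i, rfl⟩
    refine h.S_le_closure hxS hxQ (hm 0) (h.le_closure_of_detect hQ5.le (hm 5) (a₁ := k₁) (a₂ := k₂)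
      (a₃ := v₁) (a₄ := v₂) (b₁ := v₁) (b₂ := v₂) (b₃ := k₁) (b₄ := k₂) hk₁ hk₂ hv₁ hv₂ hv₁ hv₂ hk₁ hk₂
      (hm 3) (hm 4) (hm 1) (hm 2) ?_ ?_ ?_ (h.cc_self hk₁) ?_ ?_ kk (h.cc_self hk₂) v₁k₂ ?_)
    · rw [h.cc_swap hv₁ hk₁, v₁k₁]; exact neg_ne_zero.2 hd₁
    · rw [h.cc_swap hv₂ hk₁, v₂k₁, neg_zero]
    · rw [h.cc_swap hv₂ hk₂, v₂k₂]; exact neg_ne_zero.2 hd₂
    · rw [h.cc_swap hk₁ hk₂, kk, neg_zero]
    · rw [v₁k₁]; exact hd₁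
    · rw [v₂k₂]; exact hd₂
  · rw [h.idx, hQ5]; ring
  · have := h.cenS_le (one_ne_zero (α := ZMod p))
    rwa [h.ze_one] at this

theorem g2_shape {x v₁ v₂ v₃ v₄ : Ω} {e : ZMod p} (h5 : 5 ≤ p) (hQ5 : Nat.card Q = p ^ 5) (hxS : x ∈ S)
    (hxQ : x ∉ Q) (hxp : x ^ p = 1) (hexp : ∀ q ∈ Q, q ^ p = 1) (hv₁ : v₁ ∈ Q)
    (e₁ : ⁅x, v₁⁆ = v₂) (e₂ : ⁅x, v₂⁆ = v₃) (e₃ : ⁅x, v₃⁆ = v₄) (c₄ : Commute x v₄)
    (he : e ≠ 0) (c₁₂ : cc p z v₁ v₂ = 0) (c₁₄ : cc p z v₁ v₄ = e) : G2Shape S p := by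
  have hv₂ : v₂ ∈ Q := e₁ ▸ h.comm_S_Q hxS hv₁
  have hv₃ : v₃ ∈ Q := e₂ ▸ h.comm_S_Q hxS hv₂
  have hv₄ : v₄ ∈ Q := e₃ ▸ h.comm_S_Q hxS hv₃
  have e₄ : ⁅x, v₄⁆ = 1 := commutatorElement_eq_one_iff_commute.2 c₄
  have c₃₄ : cc p z v₃ v₄ = 0 := by
    have := h.invariance hxS hv₂ hv₄
    rw [e₂, e₄, h.cc_one_right hv₂, h.cc_one_right hv₃, add_zero, add_zero] at this
    exact this
  have c₂₄ : cc p z v₂ v₄ = 0 := by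
    have := h.invariance hxS hv₁ hv₄
    rw [e₁, e₄, h.cc_one_right hv₁, h.cc_one_right hv₂, add_zero, add_zero] at this
    exact this
  have c₂₃ : cc p z v₂ v₃ = -e := by
    have := h.invariance hxS hv₁ hv₃
    rw [e₁, e₃, c₁₄, c₂₄, add_zero] at this
    exact eq_neg_of_add_eq_zero_left this
  have c₁₃ : cc p z v₁ v₃ = e := by
    have := h.invariance hxS hv₁ hv₂
    rw [e₁, e₂, h.cc_self hv₂, zero_add, c₂₃] at this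
    exact neg_neg e ▸ eq_neg_of_add_eq_zero_left this
  have hS : ∀ {w : Ω}, w ∈ Q → w ∈ S := fun hw => h.le hw
  set z' := ze z e
  have hz' : ∀ {s : Ω}, s ∈ S → Commute z' s := fun hs => (h.ze_comm e hs).symm
  refine ⟨h5, ![x, v₁, v₂, v₃, v₄, z'], ?_, ?_, ?_, ?_, ?_⟩
  · intro i; fin_cases i
    exacts [hxS, hS hv₁, hS hv₂, hS hv₃, hS hv₄, hS (h.ze_Q e)]
  · haveI : Fact (1 < p) := ⟨hp.out.one_lt⟩
    refine NormalForm.ChainRel.rels ⟨hxp, hexp _ hv₁, hexp _ hv₂, hexp _ hv₃, hexp _ hv₄,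
      hexp _ (h.ze_Q e), e₁, e₂, e₃, c₄, ?_, ?_, ?_, ?_, (h.cc_eq_zero hv₂ hv₄).1 c₂₄,
      (h.cc_eq_zero hv₃ hv₄).1 c₃₄, hz' hxS, hz' (hS hv₁), hz' (hS hv₂), hz' (hS hv₃), hz' (hS hv₄)⟩
    · rw [← h.cc_spec hv₁ hv₂, c₁₂, h.ze_zero, ZMod.val_zero, pow_zero]
    · rw [← h.cc_spec hv₁ hv₃, c₁₃]
    · rw [← h.cc_spec hv₁ hv₄, c₁₄]
    · rw [← h.cc_spec hv₂ hv₃, c₂₃, h.ze_neg]
  · have hm : ∀ i, ![x, v₁, v₂, v₃, v₄, z'] i ∈ Subgroup.closure (Set.range ![x, v₁, v₂, v₃, v₄, z']) :=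
      fun i => Subgroup.subset_closure ⟨i, rfl⟩
    have hzm : z ∈ Subgroup.closure (Set.range ![x, v₁, v₂, v₃, v₄, z']) := by
      haveI := h.neZero
      have hz : z' ^ (e⁻¹).val = z := by
        rw [h.ze_pow, ZMod.natCast_zmod_val, inv_mul_cancel₀ he, h.ze_one]
      have hm5 := hm 5
      exact hz ▸ Subgroup.pow_mem _ hm5 _
    refine h.S_le_closure hxS hxQ (hm 0) (h.le_closure_of_detect hQ5.le hzm (a₁ := v₄) (a₂ := v₃)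
      (a₃ := v₂) (a₄ := v₁) (b₁ := v₁) (b₂ := v₂) (b₃ := v₃) (b₄ := v₄) hv₄ hv₃ hv₂ hv₁ hv₁ hv₂ hv₃ hv₄
      (hm 4) (hm 3) (hm 2) (hm 1) ?_ ?_ ?_ ?_ (h.cc_self hv₃) ?_ (h.cc_self hv₄) c₃₄ c₂₄ ?_)
    · rw [h.cc_swap hv₁ hv₄, c₁₄]; exact neg_ne_zero.2 he
    · rw [h.cc_swap hv₂ hv₄, c₂₄, neg_zero]
    · rw [h.cc_swap hv₂ hv₃, c₂₃, neg_neg]; exact he
    · rw [h.cc_swap hv₃ hv₄, c₃₄, neg_zero]
    · rw [c₂₃]; exact neg_ne_zero.2 he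
    · rw [c₁₄]; exact he
  · rw [h.idx, hQ5]; ring
  · exact h.cenS_le he

end Setup

end Cfsg.Lib.Fusion.ExIdxP
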