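import Cfsg.Agent.Fusion.ExIdxP.CaseTwoExp
import Cfsg.Agent.Fusion.ExIdxP.Shapes

/-!
A conjugate of the centre inside `Q`: the shape.
-/

set_option autoImplicit false
set_option linter.style.haveILetI false
set_option linter.unusedSectionVars false

namespace Cfsg.Lib.Fusion.ExIdxP

open Cfsg Cfsg.FusionSystem Cfsg.Lib.Fusion Cfsg.Lib.Fusion.ExtraspecialIndex
open scoped commutatorElement

universe u

variable {Ω : Type u} [Group Ω] {S : Subgroup Ω} {F : FusionSystem S} {p : ℕ}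

namespace Setup

variable [Finite S] [hp : Fact p.Prime] {Q : Subgroup Ω} {z : Ω} (h : Setup F p Q z)
include h

/-- An element of the group generated by two commuting elements of order `p`. -/
theorem exists_ze_pair {y q : Ω} (hy : y ∈ Q) (hyp : y ^ p = 1)
    (hq : q ∈ Subgroup.zpowers z ⊔ Subgroup.zpowers y) : ∃ i j : ZMod p, q = ze z i * ze y j := by
  have hn : Subgroup.zpowers y ≤ Subgroup.normalizer (Subgroup.zpowers z : Set Ω) := by
    haveI := finite_of_le (Subgroup.zpowers_le.2 h.zS)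
    refine Subgroup.zpowers_le.2 (mem_normalizer_of_maps_finite fun c hc => ?_)
    rw [h.conj_cen (h.le hy) (h.cenQ_eq.ge hc)]; exact hc
  obtain ⟨a, ha, _, ⟨k, rfl⟩, rfl⟩ := (Cfsg.Lib.Coprime.mem_sup_of_le_normalizer hn).mp hq
  obtain ⟨i, hi⟩ := h.exists_ze (h.cenQ_eq.ge ha)
  refine ⟨i, (k : ZMod p), ?_⟩
  rw [hi]
  congr 1
  haveI := h.neZero
  rw [ze, ← zpow_natCast, ZMod.val_intCast]
  rcases (Nat.dvd_prime hp.out).1 (orderOf_dvd_of_pow_eq_one hyp) with h1 | h1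
  · simp only [orderOf_eq_one_iff.1 h1, one_zpow]
  · rw [← h1]; exact (zpow_mod_orderOf y k).symm

namespace Sd

variable {y x r : Ω} (d : Side F p Q z y x r)
include d

theorem comm_ze_y (i : ZMod p) : ⁅x, ze y i⁆ = 1 :=
  commutatorElement_eq_one_iff_commute.2 (d.xy.pow_right _)

theorem comm_ze_r (i : ZMod p) : ⁅x, ze r i⁆ = ze y i := by
  rw [ze, comm_pow_right (by rw [d.xr]; exact (ry h d).symm), d.xr]; rfl

theorem three_ne {v : Ω} (hv : v ∈ Q) (hxp : x ^ p = 1)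
    (hne : cc p z v ⁅x, ⁅x, ⁅x, v⁆⁆⁆ ≠ 0) : 5 ≤ p := by
  by_contra hlt
  push Not at hlt
  have h3 : p = 3 := by
    have h2 := hp.out.two_le
    have hodd := h.odd
    interval_cases p
    · exact absurd rfl hodd
    · rfl
    · exact absurd hp.out (by norm_num)
  subst h3
  obtain ⟨a, ha⟩ : ∃ a, ⁅x, v⁆ = a := ⟨_, rfl⟩
  obtain ⟨b, hb⟩ : ∃ b, ⁅x, a⁆ = b := ⟨_, rfl⟩
  obtain ⟨c, hc⟩ : ∃ c, ⁅x, b⁆ = c := ⟨_, rfl⟩
  rw [ha, hb, hc] at hne
  have haQ : a ∈ Q := ha ▸ h.comm_S_Q d.xS hv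
  have hbQ : b ∈ Q := hb ▸ h.comm_S_Q d.xS haQ
  have hcQ : c ∈ Q := hc ▸ h.comm_S_Q d.xS hbQ
  have e1 : x * v * x⁻¹ = a * v := by rw [← ha, commutatorElement_def]; group
  have e2 : x * a * x⁻¹ = b * a := by rw [← hb, commutatorElement_def]; group
  have e3 : x * b * x⁻¹ = c * b := by rw [← hc, commutatorElement_def]; group
  have hx3 : x * (x * (x * v * x⁻¹) * x⁻¹) * x⁻¹ = v := by
    calc x * (x * (x * v * x⁻¹) * x⁻¹) * x⁻¹ = x ^ 3 * v * (x ^ 3)⁻¹ := by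
          simp only [pow_succ, pow_zero, one_mul, mul_inv_rev, mul_assoc]
      _ = v := by rw [hxp, one_mul, inv_one, mul_one]
  have f1 : x * (a * v) * x⁻¹ = b * a * (a * v) := by
    rw [← conj_mul, e2, e1]
  have f2 : x * (b * a * (a * v)) * x⁻¹ = c * b * (b * a) * ((b * a) * (a * v)) := by
    rw [← conj_mul, f1, ← conj_mul, e3, e2]
  rw [e1, f1, f2] at hx3
  have e := congrArg (cc 3 z v) hx3
  have mba := Q.mul_mem hbQ haQ
  have mav := Q.mul_mem haQ hv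
  rw [h.cc_self hv, h.cc_mul_right hv (Q.mul_mem (Q.mul_mem hcQ hbQ) mba) (Q.mul_mem mba mav),
    h.cc_mul_right hv (Q.mul_mem hcQ hbQ) mba, h.cc_mul_right hv hcQ hbQ, h.cc_mul_right hv hbQ haQ,
    h.cc_mul_right hv mba mav, h.cc_mul_right hv hbQ haQ, h.cc_mul_right hv haQ hv, h.cc_self hv] at e
  refine hne ?_
  have h30 : (3 : ZMod 3) = 0 := rfl
  linear_combination e - (cc 3 z v a + cc 3 z v b) * h30

theorem shape (hxp : ∀ j : ZMod p, (x * ze r j) ^ p = 1) (hexp : ∀ q ∈ Q, q ^ p = 1) :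
    (∃ d₁ d₂ : ZMod p, d₁ ≠ 0 ∧ d₂ ≠ 0 ∧ IsSquare (-(d₁ * d₂)) ∧ TwoShape S p d₁ d₂) ∨ G2Shape S p := by
  haveI := h.neZero
  have hxp₀ : x ^ p = 1 := by
    have := hxp 0
    rwa [ze_zero_of, mul_one] at this
  have hyQ := d.two.1
  have hrQ := d.rmem.1
  have hyp : y ^ p = 1 := h.zc_pow d.two.2.2.1
  have hrp := d.rp
  have hyr : cc p z y r = 0 := (h.cc_eq_zero hyQ hrQ).2 (ry h d).symm.eq
  have hy4 : ∀ {v : Ω}, v ∈ Q → ∃ k : ZMod p, ⁅x, ⁅x, ⁅x, v⁆⁆⁆ = ze y k := by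
    intro v hv
    have h2 := comm_mem h d hv
    have h3 := comm_mem h d h2.1
    have hb : ⁅x, ⁅x, v⁆⁆ ∈ Subgroup.zpowers z ⊔ Subgroup.zpowers y ⊔ Subgroup.zpowers r := by
      refine mem_base h d h3.1 ((h.cQ_eq_zero hyQ).1 h3).2 ?_
      have e := h.invariance d.xS h2.1 hrQ
      rw [d.xr, ((h.cQ_eq_zero hyQ).1 h2).2, ((h.cQ_eq_zero hyQ).1 h3).2, add_zero, add_zero] at e
      exact e
    have hn : Subgroup.zpowers r ≤
        Subgroup.normalizer ((Subgroup.zpowers z ⊔ Subgroup.zpowers y : Subgroup Ω) : Set Ω) := by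
      have hle : Subgroup.zpowers z ⊔ Subgroup.zpowers y ≤ Q :=
        sup_le (Subgroup.zpowers_le.2 h.zQ) (Subgroup.zpowers_le.2 hyQ)
      haveI := finite_of_le (hle.trans h.le)
      refine Subgroup.zpowers_le.2 (mem_normalizer_of_maps_finite fun q hq => ?_)
      have hc : (Subgroup.zpowers z ⊔ Subgroup.zpowers y : Subgroup Ω) ≤ Subgroup.centralizer ({r} : Set Ω) :=
        sup_le (Subgroup.zpowers_le.2 (Subgroup.mem_centralizer_singleton_iff.2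
          (h.z_central h.zmem (h.le hrQ)).symm))
          (Subgroup.zpowers_le.2 (Subgroup.mem_centralizer_singleton_iff.2 (ry h d).symm.eq))
      rw [← Subgroup.mem_centralizer_singleton_iff.1 (hc hq), mul_inv_cancel_right]; exact hq
    obtain ⟨a, ha, _, ⟨k, rfl⟩, hab⟩ := (Cfsg.Lib.Coprime.mem_sup_of_le_normalizer hn).mp hb
    obtain ⟨i, j, rfl⟩ := h.exists_ze_pair hyQ hyp ha
    refine ⟨(k : ZMod p), ?_⟩
    have hax : ⁅x, ze z i * ze y j⁆ = 1 := commutatorElement_eq_one_iff_commute.2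
      ((h.ze_comm i d.xS).mul_right (d.xy.pow_right _))
    have hrk : r ^ k = ze r (k : ZMod p) := by
      rw [ze, ← zpow_natCast, ZMod.val_intCast]
      rcases (Nat.dvd_prime hp.out).1 (orderOf_dvd_of_pow_eq_one hrp) with h1 | h1
      · simp only [orderOf_eq_one_iff.1 h1, one_zpow]
      · rw [← h1]; exact (zpow_mod_orderOf r k).symm
    rw [← hab]
    show ⁅x, ze z i * ze y j * r ^ k⁆ = ze y (k : ZMod p)
    rw [comm_mul_right, hax, one_mul, hrk, comm_ze_r h d]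
    exact mul_inv_eq_iff_eq_mul.2
      ((((h.ze_comm i (h.le hyQ)).pow_left _).symm).mul_left ((Commute.refl y).pow_pow _ _)).eq
  by_cases hA : ∃ v ∈ Q, cc p z v y = 1 ∧ ⁅x, ⁅x, ⁅x, v⁆⁆⁆ ≠ 1
  · right
    obtain ⟨v, hv, hvy, hne⟩ := hA
    obtain ⟨k, hk⟩ := hy4 hv
    have hk0 : k ≠ 0 := fun e => hne (by rw [hk, e, ze_zero_of])
    obtain ⟨v₂, hv₂⟩ : ∃ a, ⁅x, v⁆ = a := ⟨_, rfl⟩
    obtain ⟨v₃, hv₃⟩ : ∃ a, ⁅x, v₂⁆ = a := ⟨_, rfl⟩
    rw [hv₂, hv₃] at hk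
    have hv₂Q : v₂ ∈ cQ Q y := hv₂ ▸ comm_mem h d hv
    have hv₃Q : v₃ ∈ cQ Q y := hv₃ ▸ comm_mem h d hv₂Q.1
    have hv₄Q : ze y k ∈ Q := Q.pow_mem hyQ _
    have c₁₄ : cc p z v (ze y k) = k := by rw [h.cc_ze_pow_right hv hyQ, hvy, mul_one]
    have hc4 : Commute x (ze y k) := d.xy.pow_right _
    have c₃₄ : cc p z v₃ (ze y k) = 0 := by
      rw [h.cc_ze_pow_right hv₃Q.1 hyQ, ((h.cQ_eq_zero hyQ).1 hv₃Q).2, mul_zero]
    have c₂₄ : cc p z v₂ (ze y k) = 0 := by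
      rw [h.cc_ze_pow_right hv₂Q.1 hyQ, ((h.cQ_eq_zero hyQ).1 hv₂Q).2, mul_zero]
    have c₂₃ : cc p z v₂ v₃ = -k := by
      have := h.invariance d.xS hv hv₃Q.1
      rw [hv₂, hk, c₁₄, c₂₄, add_zero] at this
      exact eq_neg_of_add_eq_zero_left this
    set s := -(cc p z v v₂) / (2 * k)
    set u := v * ze v₃ s
    have hsQ : ze v₃ s ∈ Q := Q.pow_mem hv₃Q.1 _
    have hu : u ∈ Q := Q.mul_mem hv hsQ
    have hc3 : Commute ⁅x, v₃⁆ v₃ := by
      rw [hk]; exact ((h.cc_eq_zero hv₄Q hv₃Q.1).1 (by rw [h.cc_swap hv₃Q.1 hv₄Q, c₃₄, neg_zero]))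
    have hxs : ⁅x, ze v₃ s⁆ = ze y (s * k) := by
      rw [ze, comm_pow_right hc3, hk, ze_pow_of hyp, ZMod.natCast_zmod_val]
    have hs4Q : ze y (s * k) ∈ Q := Q.pow_mem hyQ _
    have hu₂ : ⁅x, u⁆ = v₂ * (v * ze y (s * k) * v⁻¹) := by rw [comm_mul_right, hv₂, hxs]
    have hxconj : ⁅x, v * ze y (s * k) * v⁻¹⁆ = 1 := by
      rw [show v * ze y (s * k) * v⁻¹ = ⁅v, ze y (s * k)⁆ * ze y (s * k) by
        rw [commutatorElement_def]; group]
      exact commutatorElement_eq_one_iff_commute.2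
        (Commute.mul_right (h.z_central (h.comm_mem hv hs4Q) d.xS) (d.xy.pow_right _))
    have hu₃ : ⁅x, ⁅x, u⁆⁆ = v₃ := by
      rw [hu₂, comm_mul_right, hxconj, hv₃]; group
    have hu₄ : ⁅x, ⁅x, ⁅x, u⁆⁆⁆ = ze y k := by rw [hu₃, hk]
    have cu : cc p z u ⁅x, u⁆ = 0 := by
      have hcQ : v * ze y (s * k) * v⁻¹ ∈ Q := Q.mul_mem (Q.mul_mem hv hs4Q) (Q.inv_mem hv)
      rw [hu₂, h.cc_mul_right hu hv₂Q.1 hcQ, h.cc_conj_right hu hs4Q hv, h.cc_mul_left hv hsQ hv₂Q.1,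
        h.cc_ze_pow_left hv₃Q.1 hv₂Q.1, h.cc_swap hv₂Q.1 hv₃Q.1, c₂₃, h.cc_ze_pow_right hu hyQ,
        h.cc_mul_left hv hsQ hyQ, hvy, h.cc_ze_pow_left hv₃Q.1 hyQ, ((h.cQ_eq_zero hyQ).1 hv₃Q).2]
      have h2k : (2 : ZMod p) * k ≠ 0 := mul_ne_zero (fun e => h.odd ((Nat.prime_dvd_prime_iff_eq hp.out
        Nat.prime_two).1 (by rw [← ZMod.natCast_eq_zero_iff]; exact_mod_cast e))) hk0
      have hs : (2 * k) * s = -(cc p z v v₂) := mul_div_cancel₀ _ h2k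
      linear_combination hs
    have cu₄ : cc p z u (ze y k) = k := by
      rw [h.cc_mul_left hv hsQ hv₄Q, c₁₄, h.cc_ze_pow_left hv₃Q.1 hv₄Q, c₃₄, mul_zero, add_zero]
    refine h.g2_shape (three_ne h d hu hxp₀ ?_) d.card d.xS d.notQ hxp₀ hexp hu rfl rfl rfl
      (by rw [hu₄]; exact hc4) hk0 cu (by rw [hu₄]; exact cu₄)
    rw [hu₄, cu₄]; exact hk0
  left
  push Not at hA
  obtain ⟨v₀, hv₀, hv₀y⟩ := h.exists_pair hyQ d.two.2.1
  obtain ⟨v₂, hv₂⟩ : ∃ a, ⁅x, v₀⁆ = a := ⟨_, rfl⟩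
  have hv₂Q : v₂ ∈ cQ Q y := hv₂ ▸ comm_mem h d hv₀
  have hv₂r : cc p z v₂ r = -1 := hv₂ ▸ cc_r h d hv₀ hv₀y
  have h3 : ⁅x, v₂⁆ ∈ cQ Q y := comm_mem h d hv₂Q.1
  have hb : ⁅x, v₂⁆ ∈ Subgroup.zpowers z ⊔ Subgroup.zpowers y := by
    have hbase : ⁅x, v₂⁆ ∈ Subgroup.zpowers z ⊔ Subgroup.zpowers y ⊔ Subgroup.zpowers r := by
      refine mem_base h d h3.1 ((h.cQ_eq_zero hyQ).1 h3).2 ?_
      have e := h.invariance d.xS hv₂Q.1 hrQ
      rw [d.xr, ((h.cQ_eq_zero hyQ).1 hv₂Q).2, ((h.cQ_eq_zero hyQ).1 h3).2, add_zero, add_zero] at e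
      exact e
    by_contra hout
    have hle : Subgroup.zpowers z ⊔ Subgroup.zpowers y ≤ Q :=
      sup_le (Subgroup.zpowers_le.2 h.zQ) (Subgroup.zpowers_le.2 hyQ)
    have hA' := hA v₀ hv₀ hv₀y
    rw [hv₂] at hA'
    set A := Subgroup.zpowers z ⊔ Subgroup.zpowers y ⊔ Subgroup.zpowers r
    have hAQ : A ≤ Q := sup_le hle (Subgroup.zpowers_le.2 hrQ)
    set K := (Subgroup.zpowers z ⊔ Subgroup.zpowers y) ⊔ Subgroup.zpowers ⁅x, v₂⁆
    haveI : Finite A := finite_of_le (hAQ.trans h.le)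
    have hKA : K ≤ A := sup_le le_sup_left (Subgroup.zpowers_le.2 hbase)
    have h1 := h.card_mul_le (A := Subgroup.zpowers z ⊔ Subgroup.zpowers y) (B := K)
      ((hKA.trans hAQ).trans h.le) le_sup_left (Subgroup.mem_sup_right (Subgroup.mem_zpowers _)) hout
    have hAle : Nat.card A ≤ Nat.card K := by
      have hab : ∀ a ∈ A, ∀ b ∈ A, a * b = b * a := by
        have hc : ∀ {s : Ω}, s ∈ Q → Commute s y → Commute s r → A ≤ Subgroup.centralizer ({s} : Set Ω) :=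
          fun hs h1 h2 => sup_le (sup_le
            (Subgroup.zpowers_le.2 (Subgroup.mem_centralizer_singleton_iff.2 (h.z_central h.zmem (h.le hs)).symm))
            (Subgroup.zpowers_le.2 (Subgroup.mem_centralizer_singleton_iff.2 h1.symm.eq)))
            (Subgroup.zpowers_le.2 (Subgroup.mem_centralizer_singleton_iff.2 h2.symm.eq))
        have hcz := hc h.zQ (h.z_central h.zmem (h.le hyQ)).symm (h.z_central h.zmem (h.le hrQ)).symm
        have hcy := hc hyQ (Commute.refl y) (ry h d).symm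
        have hcr := hc hrQ (ry h d) (Commute.refl r)
        intro a ha b hb'
        have : A ≤ Subgroup.centralizer ({a} : Set Ω) := hc (hAQ ha)
          (Subgroup.mem_centralizer_singleton_iff.1 (hcy ha))
          (Subgroup.mem_centralizer_singleton_iff.1 (hcr ha))
        exact (Subgroup.mem_centralizer_singleton_iff.1 (this hb')).symm
      have hA2 := h.card_abelian hAQ hab
      rw [d.card] at hA2
      have hA3 : Nat.card A ≤ p ^ 3 := Nat.mul_self_le_mul_self_iff.1 (hA2.trans (le_of_eq (by ring)))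
      exact hA3.trans (le_trans (le_of_eq_of_le (by ring) (Nat.mul_le_mul (le_refl p) (card_base h d).2)) h1)
    have hrK : r ∈ K := (Subgroup.eq_of_le_of_card_ge hKA hAle).ge
      (Subgroup.mem_sup_right (Subgroup.mem_zpowers r))
    have hK : K ≤ Subgroup.centralizer ({x} : Set Ω) := sup_le (sup_le
      (Subgroup.zpowers_le.2 (Subgroup.mem_centralizer_singleton_iff.2 (h.z_central h.zmem d.xS).symm))
      (Subgroup.zpowers_le.2 (Subgroup.mem_centralizer_singleton_iff.2 d.xy.symm.eq)))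
      (Subgroup.zpowers_le.2 (Subgroup.mem_centralizer_singleton_iff.2
        (commutatorElement_eq_one_iff_mul_comm.1 hA').symm))
    exact h.zc_ne_one d.two.2.2.1 (by
      rw [← d.xr, commutatorElement_eq_one_iff_mul_comm]
      exact (Subgroup.mem_centralizer_singleton_iff.1 (hK hrK)).symm)
  obtain ⟨e, b, heb⟩ := h.exists_ze_pair hyQ hyp hb
  set w := v₂ * ze r (-b)
  have hrbQ : ze r (-b) ∈ Q := Q.pow_mem hrQ _
  have hwQ : w ∈ Q := Q.mul_mem hv₂Q.1 hrbQ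
  have hxw : ⁅x, w⁆ = ze z e := by
    rw [comm_mul_right, comm_ze_r h d, heb,
      show v₂ * ze y (-b) * v₂⁻¹ = ze y (-b) from mul_inv_eq_iff_eq_mul.2
        ((show Commute v₂ y from (mem_cQ.1 hv₂Q).2).pow_right _).eq,
      mul_assoc, ze_add_of hyp, add_neg_cancel, ze_zero_of, mul_one]
  have hwy : cc p z w y = 0 := by
    rw [h.cc_mul_left hv₂Q.1 hrbQ hyQ, ((h.cQ_eq_zero hyQ).1 hv₂Q).2, h.cc_ze_pow_left hrQ hyQ,
      h.cc_swap hyQ hrQ, hyr, neg_zero, mul_zero, add_zero]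
  have hwr : cc p z w r = -1 := by
    rw [h.cc_mul_left hv₂Q.1 hrbQ hrQ, hv₂r, h.cc_ze_pow_left hrQ hrQ, h.cc_self hrQ, mul_zero, add_zero]
  set X := x * ze r (-e)
  have hreQ : ze r (-e) ∈ Q := Q.pow_mem hrQ _
  have hXS : X ∈ S := S.mul_mem d.xS (h.le hreQ)
  have hXQ : X ∉ Q := fun hX => d.notQ (by
    have := Q.mul_mem hX (Q.inv_mem hreQ)
    rwa [mul_inv_cancel_right] at this)
  have hXy : Commute X y := d.xy.mul_left ((ry h d).pow_left _)
  have hXw : Commute X w := by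
    rw [← commutatorElement_eq_one_iff_commute, comm_mul_left, ← h.cc_spec hreQ hwQ, h.cc_ze_pow_left hrQ hwQ,
      h.cc_swap hwQ hrQ, hwr, neg_neg, mul_one, h.conj_cen d.xS (h.ze_mem _), hxw, h.ze_add, neg_add_cancel,
      h.ze_zero]
  have hXr : ⁅X, r⁆ = y := by
    rw [comm_mul_left, show ⁅ze r (-e), r⁆ = 1 from commutatorElement_eq_one_iff_commute.2
      ((Commute.refl r).pow_left _), mul_one, mul_inv_cancel, one_mul, d.xr]
  set v := v₀ * ze w (cc p z v₀ r)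
  have hwtQ : ze w (cc p z v₀ r) ∈ Q := Q.pow_mem hwQ _
  have hvQ : v ∈ Q := Q.mul_mem hv₀ hwtQ
  have hvy : cc p z v y = 1 := by
    rw [h.cc_mul_left hv₀ hwtQ hyQ, hv₀y, h.cc_ze_pow_left hwQ hyQ, hwy, mul_zero, add_zero]
  have hvr : cc p z v r = 0 := by
    rw [h.cc_mul_left hv₀ hwtQ hrQ, h.cc_ze_pow_left hwQ hrQ, hwr]; ring
  obtain ⟨k, hk⟩ : ∃ a, ⁅X, v⁆ = a := ⟨_, rfl⟩
  have hkQ : k ∈ Q := hk ▸ h.comm_S_Q hXS hvQ
  have hker : ∀ {q : Ω}, q ∈ Q → cc p z ⁅X, q⁆ y = 0 ∧ cc p z ⁅X, q⁆ w = 0 := by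
    intro q hq
    constructor
    · exact h.cc_im_ker hXS (h.comm_mem_imSub hXS hq) ((h.mem_kerSub hXS).2 ⟨hyQ, by
        rw [commutatorElement_eq_one_iff_commute.2 hXy]; exact (cen Q).one_mem⟩)
    · exact h.cc_im_ker hXS (h.comm_mem_imSub hXS hq) ((h.mem_kerSub hXS).2 ⟨hwQ, by
        rw [commutatorElement_eq_one_iff_commute.2 hXw]; exact (cen Q).one_mem⟩)
  have hky : cc p z k y = 0 := hk ▸ (hker hvQ).1
  have hrk : cc p z r k = 1 := by
    have e := h.invariance hXS hvQ hrQ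
    rw [hXr, hk, hvy, hky, add_zero] at e
    rw [h.cc_swap hkQ hrQ, eq_neg_of_add_eq_zero_left e, neg_neg]
  set s := -(cc p z v k) / 2
  have h20 : (2 : ZMod p) ≠ 0 := fun e => h.odd ((Nat.prime_dvd_prime_iff_eq hp.out
    Nat.prime_two).1 (by rw [← ZMod.natCast_eq_zero_iff]; exact_mod_cast e))
  have hs : (2 : ZMod p) * s = -(cc p z v k) := mul_div_cancel₀ _ h20
  set a₁ := v * ze r (s + 1)
  set a₂ := v * ze r (s - 1)
  have hra : ∀ i : ZMod p, ze r i ∈ Q := fun i => Q.pow_mem hrQ _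
  have hya : ∀ i : ZMod p, ze y i ∈ Q := fun i => Q.pow_mem hyQ _
  have ha₁ : a₁ ∈ Q := Q.mul_mem hvQ (hra _)
  have ha₂ : a₂ ∈ Q := Q.mul_mem hvQ (hra _)
  have hXze : ∀ i : ZMod p, ⁅X, ze r i⁆ = ze y i := fun i => by
    rw [ze, comm_pow_right (by rw [hXr]; exact (ry h d).symm), hXr]; rfl
  have hk₁ : ⁅X, a₁⁆ = k * (v * ze y (s + 1) * v⁻¹) := by rw [comm_mul_right, hk, hXze]
  have hk₂ : ⁅X, a₂⁆ = k * (v * ze y (s - 1) * v⁻¹) := by rw [comm_mul_right, hk, hXze]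
  have hcc : ∀ i j, cc p z (v * ze r i) (k * (v * ze y j * v⁻¹)) = cc p z v k + i + j := by
    intro i j
    have hcQ : v * ze y j * v⁻¹ ∈ Q := Q.mul_mem (Q.mul_mem hvQ (hya j)) (Q.inv_mem hvQ)
    have hq : v * ze r i ∈ Q := Q.mul_mem hvQ (hra i)
    rw [h.cc_mul_right hq hkQ hcQ, h.cc_conj_right hq (hya j) hvQ, h.cc_ze_pow_right hq hyQ,
      h.cc_mul_left hvQ (hra i) hkQ, h.cc_mul_left hvQ (hra i) hyQ, h.cc_ze_pow_left hrQ hkQ,
      h.cc_ze_pow_left hrQ hyQ, hrk, hvy, h.cc_swap hyQ hrQ, hyr]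
    ring
  have hKab : ∀ {q : Ω}, q ∈ Q → ⁅X, q⁆ ∈ Subgroup.zpowers z ⊔ Subgroup.zpowers y ⊔ Subgroup.zpowers w := by
    intro q hq
    have hqQ := h.comm_S_Q hXS hq
    set A := Subgroup.zpowers z ⊔ Subgroup.zpowers y ⊔ Subgroup.zpowers w
    have hzy : Subgroup.zpowers z ⊔ Subgroup.zpowers y ≤ Q :=
      sup_le (Subgroup.zpowers_le.2 h.zQ) (Subgroup.zpowers_le.2 hyQ)
    have hAQ : A ≤ Q := sup_le hzy (Subgroup.zpowers_le.2 hwQ)
    haveI : Finite A := finite_of_le (hAQ.trans h.le)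
    set C := Q ⊓ Subgroup.centralizer (A : Set Ω)
    haveI : Finite C := finite_of_le (inf_le_left.trans h.le)
    have hmemC : ∀ {b : Ω}, b ∈ Q → cc p z b y = 0 → cc p z b w = 0 → b ∈ C := fun hb hby hbw =>
      ⟨hb, fun t ht => Subgroup.mem_centralizer_singleton_iff.1 ((sup_le (sup_le
        (Subgroup.zpowers_le.2 (Subgroup.mem_centralizer_singleton_iff.2 (h.z_central h.zmem (h.le hb)).symm))
        (Subgroup.zpowers_le.2 (Subgroup.mem_centralizer_singleton_iff.2 ((h.cc_eq_zero hb hyQ).1 hby).symm)))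
        (Subgroup.zpowers_le.2 (Subgroup.mem_centralizer_singleton_iff.2 ((h.cc_eq_zero hb hwQ).1 hbw).symm)) :
          A ≤ Subgroup.centralizer {_}) ht)⟩
    have hAC : A ≤ C := sup_le (sup_le
      (Subgroup.zpowers_le.2 (hmemC h.zQ (h.cc_cen_left h.zmem hyQ) (h.cc_cen_left h.zmem hwQ)))
      (Subgroup.zpowers_le.2 (hmemC hyQ (h.cc_self hyQ) (by rw [h.cc_swap hwQ hyQ, hwy, neg_zero]))))
      (Subgroup.zpowers_le.2 (hmemC hwQ hwy (h.cc_self hwQ)))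
    have h1 : p * Nat.card (Subgroup.zpowers z ⊔ Subgroup.zpowers y : Subgroup Ω) ≤ Nat.card A :=
      h.card_mul_le (hAQ.trans h.le) le_sup_left (Subgroup.mem_sup_right (Subgroup.mem_zpowers w))
        fun hm => by
          have hc : (Subgroup.zpowers z ⊔ Subgroup.zpowers y : Subgroup Ω) ≤
              Subgroup.centralizer ({r} : Set Ω) :=
            sup_le (Subgroup.zpowers_le.2 (Subgroup.mem_centralizer_singleton_iff.2
              (h.z_central h.zmem (h.le hrQ)).symm))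
              (Subgroup.zpowers_le.2 (Subgroup.mem_centralizer_singleton_iff.2 (ry h d).symm.eq))
          have := (h.cc_eq_zero hwQ hrQ).2 (Subgroup.mem_centralizer_singleton_iff.1 (hc hm))
          exact neg_ne_zero.2 (one_ne_zero (α := ZMod p)) (hwr.symm.trans this)
    have h3 : p ^ 3 ≤ Nat.card A :=
      le_trans (le_of_eq_of_le (by ring) (Nat.mul_le_mul (le_refl p) (card_base h d).2)) h1
    have hb := h.card_perp_le (Y := A) hAQ (h.cenQ_eq.le.trans (le_sup_left.trans le_sup_left))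
    have : Nat.card C ≤ Nat.card A := by
      refine Nat.le_of_mul_le_mul_right ?_ (Nat.card_pos (α := A))
      calc Nat.card C * Nat.card A ≤ p * Nat.card Q := hb
        _ = p ^ 3 * p ^ 3 := by rw [d.card]; ring
        _ ≤ _ := Nat.mul_le_mul h3 h3
    exact (Subgroup.eq_of_le_of_card_ge hAC this).ge (hmemC hqQ (hker hq).1 (hker hq).2)
  have hcomm : ∀ {c : Ω}, c ∈ Q → Commute c y → Commute c w →
      (Subgroup.zpowers z ⊔ Subgroup.zpowers y ⊔ Subgroup.zpowers w : Subgroup Ω) ≤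
        Subgroup.centralizer ({c} : Set Ω) := fun hc h1 h2 => sup_le (sup_le
      (Subgroup.zpowers_le.2 (Subgroup.mem_centralizer_singleton_iff.2 (h.z_central h.zmem (h.le hc)).symm))
      (Subgroup.zpowers_le.2 (Subgroup.mem_centralizer_singleton_iff.2 h1.symm.eq)))
      (Subgroup.zpowers_le.2 (Subgroup.mem_centralizer_singleton_iff.2 h2.symm.eq))
  have hXc : ∀ {q : Ω}, q ∈ Q → Commute X ⁅X, q⁆ := fun {q} hq => by
    have hle : (Subgroup.zpowers z ⊔ Subgroup.zpowers y ⊔ Subgroup.zpowers w : Subgroup Ω) ≤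
        Subgroup.centralizer ({X} : Set Ω) := sup_le (sup_le
      (Subgroup.zpowers_le.2 (Subgroup.mem_centralizer_singleton_iff.2 (h.z_central h.zmem hXS).symm))
      (Subgroup.zpowers_le.2 (Subgroup.mem_centralizer_singleton_iff.2 hXy.symm.eq)))
      (Subgroup.zpowers_le.2 (Subgroup.mem_centralizer_singleton_iff.2 hXw.symm.eq))
    exact (Subgroup.mem_centralizer_singleton_iff.1 (hle (hKab hq))).symm
  refine ⟨2, -2, h20, neg_ne_zero.2 h20, ⟨2, by ring⟩, h.two_shape d.card hXS hXQ (hxp _) hexp ha₁ ha₂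
    rfl rfl (hXc ha₁) (hXc ha₂) ?_ ?_ ?_ ?_ ?_ ?_ h20 (neg_ne_zero.2 h20)⟩
  · rw [h.cc_mul_left hvQ (hra _) ha₂, h.cc_mul_right hvQ hvQ (hra _), h.cc_self hvQ,
      h.cc_ze_pow_right hvQ hrQ, hvr, h.cc_ze_pow_left hrQ ha₂, h.cc_mul_right hrQ hvQ (hra _),
      h.cc_swap hvQ hrQ, hvr, h.cc_ze_pow_right hrQ hrQ, h.cc_self hrQ]
    ring
  · rw [hk₁, hcc]; linear_combination hs
  · rw [hk₂, hcc]; linear_combination hs
  · rw [hk₁, hcc]; linear_combination hs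
  · rw [hk₂, hcc]; linear_combination hs
  · refine (h.cc_eq_zero (h.comm_S_Q hXS ha₁) (h.comm_S_Q hXS ha₂)).2 ?_
    have h1 := hcomm (h.comm_S_Q hXS ha₂)
      ((h.cc_eq_zero (h.comm_S_Q hXS ha₂) hyQ).1 (hker ha₂).1)
      ((h.cc_eq_zero (h.comm_S_Q hXS ha₂) hwQ).1 (hker ha₂).2) (hKab ha₁)
    exact Subgroup.mem_centralizer_singleton_iff.1 h1

end Sd

/-- The case of a moved centre inside `Q`. -/
theorem two_case (hwc : ¬ WC F Q z) :
    (∃ d₁ d₂ : ZMod p, d₁ ≠ 0 ∧ d₂ ≠ 0 ∧ IsSquare (-(d₁ * d₂)) ∧ TwoShape S p d₁ d₂) ∨ G2Shape S p := by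
  obtain ⟨y, x, r, d, hxp, hexp⟩ := h.two_exp hwc
  exact Sd.shape h d hxp hexp

end Setup

end Cfsg.Lib.Fusion.ExIdxP
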