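import Cfsg.Agent.Fusion.ExIdxP.Pairing
import Cfsg.Agent.Fusion.CharAut

/-!
The conjugates of the centre: the dichotomy between weak closure in `Q` and a moved centre inside `Q`.
-/

set_option autoImplicit false
set_option linter.style.haveILetI false
set_option linter.unusedSectionVars false

namespace Cfsg.Lib.Fusion.ExIdxP

open Cfsg Cfsg.FusionSystem Cfsg.Lib.Fusion Cfsg.Lib.Fusion.ExtraspecialIndex
open scoped commutatorElement

universe u

variable {Ω : Type u} [Group Ω] {S : Subgroup Ω} {F : FusionSystem S} {p : ℕ}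

/-- `y` is conjugate to `z`. -/
def Zc (F : FusionSystem S) (z y : Ω) : Prop := ∃ f, IsMap F (Subgroup.zpowers z) f ∧ f z = y

/-- The centralizer of an element in `S`. -/
def cS (S : Subgroup Ω) (y : Ω) : Subgroup Ω := S ⊓ Subgroup.centralizer {y}

theorem mem_cS {y s : Ω} : s ∈ cS S y ↔ s ∈ S ∧ s * y = y * s := by
  rw [cS, Subgroup.mem_inf, Subgroup.mem_centralizer_singleton_iff]

theorem cS_le (y : Ω) : cS S y ≤ S := inf_le_left

/-- The centre is weakly closed in `Q`. -/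
def WC (F : FusionSystem S) (Q : Subgroup Ω) (z : Ω) : Prop := ∀ y ∈ Q, Zc F z y → y ∈ cen Q

/-- A conjugate of `z` in `Q` which is not central, with centralizer outside `Q`. -/
def Two (F : FusionSystem S) (Q : Subgroup Ω) (z y : Ω) : Prop :=
  y ∈ Q ∧ y ∉ cen Q ∧ Zc F z y ∧ ¬ cS S y ≤ Q

/-- Commutation with an element outside `Q` moves `Q` modulo the centre by more than a hyperplane. -/
def Deep (S Q : Subgroup Ω) (p : ℕ) : Prop :=
  ∀ x ∈ S, x ∉ Q → ∀ H : Subgroup Ω, H ≤ Q → (∀ r ∈ H, ⁅x, r⁆ ∈ cen Q) → p * Nat.card H < Nat.card Q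

namespace Setup

variable [Finite S] [hp : Fact p.Prime] {Q : Subgroup Ω} {z : Ω} (h : Setup F p Q z)
include h

theorem zc_self : Zc F z z := ⟨id, isMap_id (Subgroup.zpowers_le.2 h.zS), rfl⟩

theorem zc_map {P : Subgroup Ω} {g : Ω → Ω} (hg : IsMap F P g) {y : Ω} (hy : Zc F z y) (hyP : y ∈ P) :
    Zc F z (g y) := by
  obtain ⟨f, hf, rfl⟩ := hy
  refine ⟨g ∘ f, hf.comp hg fun w hw => ?_, rfl⟩
  obtain ⟨k, rfl⟩ := hw
  obtain ⟨φ, -, e⟩ := hf
  have e1 : φ ⟨z ^ k, k, rfl⟩ = φ ⟨z, Subgroup.mem_zpowers z⟩ ^ k := by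
    rw [← map_zpow]; rfl
  rw [e, e] at e1
  show f (z ^ k) ∈ P
  rw [e1]
  exact P.zpow_mem hyP k

theorem zc_mem {y : Ω} (hy : Zc F z y) : y ∈ S := by
  obtain ⟨f, hf, rfl⟩ := hy
  exact hf.mem_S (Subgroup.mem_zpowers z)

theorem zc_pow {y : Ω} (hy : Zc F z y) : y ^ p = 1 := by
  obtain ⟨f, hf, rfl⟩ := hy
  rw [← hf.map_pow (Subgroup.mem_zpowers z), h.z_pow h.zmem, hf.map_one]

theorem zc_ne_one {y : Ω} (hy : Zc F z y) : y ≠ 1 := by
  obtain ⟨f, hf, rfl⟩ := hy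
  intro e
  exact h.z1 (hf.injOn (Subgroup.mem_zpowers z) (one_mem _) (e.trans hf.map_one.symm))

theorem z_mem_cS {y : Ω} (hy : y ∈ S) : z ∈ cS S y :=
  mem_cS.2 ⟨h.zS, (h.z_central h.zmem hy).symm⟩

theorem cen_le_cS {y : Ω} (hy : y ∈ S) : cen Q ≤ cS S y := fun c hc =>
  mem_cS.2 ⟨h.z_le hc, (h.z_central hc hy).symm⟩

theorem self_mem_cS {y : Ω} (hy : y ∈ S) : y ∈ cS S y := mem_cS.2 ⟨hy, rfl⟩

/-- A conjugate of `z` is sent back to `z` by a map on its centralizer. -/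
theorem push {y : Ω} (hy : Zc F z y) : ∃ f, IsMap F (cS S y) f ∧ f y = z := by
  obtain ⟨f, hf, rfl⟩ := hy
  haveI := finite_of_le (Subgroup.zpowers_le.2 h.zS)
  have hfc : F.IsFullyCentralized (Subgroup.zpowers z) := by
    refine ⟨Subgroup.zpowers_le.2 h.zS, fun R _ => ?_⟩
    haveI : Finite (centralizerIn S (Subgroup.zpowers z)) := finite_of_le inf_le_left
    refine Subgroup.card_le_of_le fun s hs => ⟨hs.1, fun w hw => ?_⟩
    obtain ⟨k, rfl⟩ := hw
    exact ((show Commute z s from (h.z_central h.zmem hs.1).symm).zpow_left k).eq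
  have hrec := receptive_of_fullyCentralized h.isP h.sat hfc
  obtain ⟨g, hg, hgi, hl, -⟩ := hf.exists_inv
  obtain ⟨f', hf', hag⟩ := receptive_extend hrec hg hgi
  refine ⟨f', hf'.mono fun s hs => centralizerIn_le_extSub _ _ ?_, ?_⟩
  · obtain ⟨hsS, hsc⟩ := mem_cS.1 hs
    refine ⟨hsS, fun w hw => ?_⟩
    obtain ⟨v, hv, rfl⟩ := hf.mem_img.1 hw
    obtain ⟨k, rfl⟩ := hv
    obtain ⟨φ, -, e⟩ := hf
    have e1 : φ ⟨z ^ k, k, rfl⟩ = φ ⟨z, Subgroup.mem_zpowers z⟩ ^ k := by rw [← map_zpow]; rfl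
    rw [e, e] at e1
    rw [e1]
    exact ((show Commute (f z) s from hsc.symm).zpow_left k).eq
  · rw [hag _ (IsMap.apply_mem_img (Subgroup.mem_zpowers z)), hl z (Subgroup.mem_zpowers z)]

theorem push_z_not_cen {y : Ω} (hyZ : y ∉ cen Q) (hyS : y ∈ S) (hy : y ^ p = 1) {f : Ω → Ω}
    (hf : IsMap F (cS S y) f) (hfy : f y = z) : f z ∉ cen Q := by
  intro hc
  obtain ⟨i, hi⟩ := h.exists_ze hc
  have hzm := h.z_mem_cS hyS
  have hym := h.self_mem_cS hyS
  have e : z = y ^ i.val := hf.injOn hzm ((cS S y).pow_mem hym _) (by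
    rw [hf.map_pow hym, hfy]; exact hi.symm)
  by_cases hd : (p : ℤ) ∣ (i.val : ℤ)
  · obtain ⟨m, hm⟩ := Int.natCast_dvd_natCast.1 hd
    exact h.z1 (by rw [e, hm, pow_mul, hy, one_pow])
  · refine hyZ (h.not_mem_of_pow hy hd ?_)
    rw [zpow_natCast, ← e]
    exact h.zmem

theorem comm_SS {a b : Ω} (ha : a ∈ S) (hb : b ∈ S) : ⁅a, b⁆ ∈ Q := by
  haveI : (Q.subgroupOf S).Normal := ⟨fun q hq g => h.conj_Q g.2 hq⟩
  haveI := finite_of_le h.le
  have hc : Nat.card (S ⧸ Q.subgroupOf S) = p := by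
    have e := (Q.subgroupOf S).card_mul_index
    rw [Nat.card_congr (Subgroup.subgroupOfEquivOfLe h.le).toEquiv, h.idx, mul_comm p,
      Subgroup.index_eq_card] at e
    exact Nat.eq_of_mul_eq_mul_left Nat.card_pos e
  haveI : IsCyclic (S ⧸ Q.subgroupOf S) := isCyclic_of_prime_card hc
  have e : ((⁅(⟨a, ha⟩ : S), ⟨b, hb⟩⁆ : S) : S ⧸ Q.subgroupOf S) = 1 := by
    show QuotientGroup.mk' (Q.subgroupOf S) ⁅(⟨a, ha⟩ : S), ⟨b, hb⟩⁆ = 1
    rw [map_commutatorElement, commutatorElement_eq_one_iff_mul_comm]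
    exact (IsCyclic.commutative (α := S ⧸ Q.subgroupOf S)).is_comm.comm _ _
  exact (QuotientGroup.eq_one_iff (N := Q.subgroupOf S) ⁅(⟨a, ha⟩ : S), ⟨b, hb⟩⁆).1 e

/-- Every element of `S` is a power of an element outside `Q` times an element of `Q`. -/
theorem exists_decomp {y : Ω} (hyS : y ∈ S) (hyQ : y ∉ Q) {s : Ω} (hs : s ∈ S) :
    ∃ k : ℤ, ∃ q ∈ Q, s = q * y ^ k := by
  have hlt : Q < Q ⊔ Subgroup.zpowers y := lt_of_le_of_ne le_sup_left fun e =>
    hyQ (e.symm ▸ Subgroup.mem_sup_right (Subgroup.mem_zpowers y))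
  have hle : Q ⊔ Subgroup.zpowers y ≤ S := sup_le h.le (Subgroup.zpowers_le.2 hyS)
  have htop : Q ⊔ Subgroup.zpowers y = S := Subgroup.eq_of_le_of_card_ge hle
    (by rw [h.idx]; exact SqCenter.eq_of_lt h.isP hle hlt)
  haveI := finite_of_le h.le
  have hn : Subgroup.zpowers y ≤ Subgroup.normalizer (Q : Set Ω) := Subgroup.zpowers_le.2
    (mem_normalizer_of_maps_finite fun q hq => h.conj_Q hyS hq)
  obtain ⟨q, hq, _, ⟨k, rfl⟩, rfl⟩ := (Cfsg.Lib.Coprime.mem_sup_of_le_normalizer hn).mp (htop.ge hs)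
  exact ⟨k, q, hq, rfl⟩

theorem nonab_cQ {y : Ω} (hy : y ∈ Q) : ∃ a ∈ Q ⊓ Subgroup.centralizer {y},
    ∃ b ∈ Q ⊓ Subgroup.centralizer {y}, ⁅a, b⁆ ≠ 1 := by
  by_contra hno
  push Not at hno
  haveI := finite_of_le h.le
  set C : Subgroup Ω := Q ⊓ Subgroup.centralizer {y}
  have h1 := h.card_abelian (A := C) inf_le_left fun a ha b hb =>
    commutatorElement_eq_one_iff_mul_comm.1 (hno a ha b hb)
  have h2 := h.card_le_centralizer h.le y fun w hw => h.comm_Q hy hw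
  have h3 : Nat.card Q * Nat.card Q ≤ p ^ 3 * Nat.card Q :=
    (Nat.mul_le_mul h2 h2).trans (le_of_eq_of_le (by ring : _ = p ^ 2 * (Nat.card C * Nat.card C))
      ((Nat.mul_le_mul le_rfl h1).trans (le_of_eq (by ring))))
  exact absurd (h.big.trans (Nat.le_of_mul_le_mul_right h3 Nat.card_pos))
    (not_le.mpr (Nat.pow_lt_pow_right hp.out.one_lt (by norm_num)))

/-- If a commutator is pushed, the image of `z` lies in `Q`. -/
theorem push_z_mem {y : Ω} (hyS : y ∈ S) {f : Ω → Ω} (hf : IsMap F (cS S y) f) {a b : Ω}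
    (ha : a ∈ Q) (hac : a ∈ cS S y) (hb : b ∈ Q) (hbc : b ∈ cS S y) (hab : ⁅a, b⁆ ≠ 1) :
    f z ∈ Q ∧ ⁅f a, f b⁆ = f z ^ (cc p z a b).val := by
  have hzm := h.z_mem_cS hyS
  have hfab : ⁅f a, f b⁆ = f z ^ (cc p z a b).val := by
    rw [← hf.map_pow hzm, show z ^ (cc p z a b).val = ze z (cc p z a b) from rfl, h.cc_spec ha hb,
      commutatorElement_def, commutatorElement_def,
      hf.map_mul ((cS S y).mul_mem ((cS S y).mul_mem hac hbc) ((cS S y).inv_mem hac)) ((cS S y).inv_mem hbc),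
      hf.map_conj hac hbc, hf.map_inv hbc]
  refine ⟨h.not_mem_of_pow (y := f z) (i := ((cc p z a b).val : ℤ)) ?_ ?_ ?_, hfab⟩
  · rw [← hf.map_pow hzm, h.z_pow h.zmem, hf.map_one]
  · intro hd
    haveI := h.neZero
    have h0 : cc p z a b = 0 := by
      rw [← ZMod.natCast_zmod_val (cc p z a b), ZMod.natCast_eq_zero_iff]
      exact Int.natCast_dvd_natCast.1 hd
    exact hab (by rw [← h.cc_spec ha hb, h0, h.ze_zero])
  · rw [zpow_natCast, ← hfab]
    exact h.comm_SS (hf.mem_S hac) (hf.mem_S hbc)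

/-- A moved centre in `Q` can be chosen with centralizer outside `Q`. -/
theorem exists_two (hwc : ¬ WC F Q z) : ∃ y, Two F Q z y := by
  rw [WC] at hwc
  push Not at hwc
  obtain ⟨y, hyQ, hy, hyZ⟩ := hwc
  by_cases hC : cS S y ≤ Q
  swap
  · exact ⟨y, hyQ, hyZ, hy, hC⟩
  have hyS := h.le hyQ
  obtain ⟨f, hf, hfy⟩ := h.push hy
  obtain ⟨a, ha, b, hb, hab⟩ := h.nonab_cQ hyQ
  have hzm := h.z_mem_cS hyS
  have hac : a ∈ cS S y := ⟨h.le ha.1, ha.2⟩
  have hbc : b ∈ cS S y := ⟨h.le hb.1, hb.2⟩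
  obtain ⟨hzQ, hpow⟩ := h.push_z_mem hyS hf ha.1 hac hb.1 hbc hab
  have hnot := h.push_z_not_cen hyZ hyS (h.zc_pow hy) hf hfy
  refine ⟨f z, hzQ, hnot, h.zc_map hf h.zc_self hzm, fun hle => ?_⟩
  have himg : ∀ u ∈ cS S y, f u ∈ Q := fun u hu => hle (mem_cS.2 ⟨hf.mem_S hu, by
    rw [← hf.map_mul hu hzm, ← hf.map_mul hzm hu, ← h.z_central h.zmem ((cS_le y) hu)]⟩)
  have hc := h.comm_mem (himg a hac) (himg b hbc)
  rw [hpow] at hc
  haveI := h.neZero
  have hd : ¬ (p : ℤ) ∣ ((cc p z a b).val : ℤ) := fun hd => hab (by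
    have h0 : cc p z a b = 0 := by
      rw [← ZMod.natCast_zmod_val (cc p z a b), ZMod.natCast_eq_zero_iff]
      exact Int.natCast_dvd_natCast.1 hd
    rw [← h.cc_spec ha.1 hb.1, h0, h.ze_zero])
  exact hnot (h.not_mem_of_pow (by rw [← hf.map_pow hzm, h.z_pow h.zmem, hf.map_one]) hd
    (by rw [zpow_natCast]; exact hc))

/-- Some essential automorphism moves the centre. -/
theorem exists_mover (hO : F.core = ⊥) :
    ∃ E, F.IsEssential p E ∧ ∃ β ∈ F.autGroup E, ∃ w : E, (w : Ω) ∈ cen Q ∧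
      ((β w : E) : Ω) ∉ cen Q := by
  by_contra hno
  push Not at hno
  have hn : F.IsNormal (cen Q) := isNormal_of_essential h.isP h.sat h.z_le
    (fun s hs => by
      haveI := finite_of_le h.z_le
      exact mem_normalizer_of_maps_finite fun c hc => by rw [h.conj_cen hs hc]; exact hc)
    (fun φ _ x hx => ?_) (fun P _ hP => ⟨h.z_le_cen.trans (h.cen_le_essential hP), hno P hP⟩)
  · have hle : cen Q ≤ ⊥ := hO ▸ le_sSup hn
    exact h.z1 (Subgroup.mem_bot.1 (hle h.zmem))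
  · rw [← h.hcen]
    refine ⟨(φ x).2, fun y hy => ?_⟩
    have e := congrArg (fun w : S => ((φ w : S) : Ω))
      (show φ.symm ⟨y, hy⟩ * x = x * φ.symm ⟨y, hy⟩ from
        Subtype.ext ((h.hcen.ge hx).2 _ (φ.symm ⟨y, hy⟩).2))
    simpa using e

/-- Under weak closure, the centralizers of the conjugates outside `Q` are abelian. -/
theorem cS_abelian (hwc : WC F Q z) {y : Ω} (hy : Zc F z y) (hyQ : y ∉ Q) :
    ∀ a ∈ cS S y, ∀ b ∈ cS S y, a * b = b * a := by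
  have hyS := h.zc_mem hy
  obtain ⟨f, hf, hfy⟩ := h.push hy
  have hyZ : y ∉ cen Q := fun hc => hyQ hc.1
  have hQab : ∀ a ∈ cS S y, a ∈ Q → ∀ b ∈ cS S y, b ∈ Q → a * b = b * a := by
    intro a hac ha b hbc hb
    by_contra hne
    obtain ⟨hzQ, -⟩ := h.push_z_mem hyS hf ha hac hb hbc fun e =>
      hne (commutatorElement_eq_one_iff_mul_comm.1 e)
    exact h.push_z_not_cen hyZ hyS (h.zc_pow hy) hf hfy
      (hwc _ hzQ (h.zc_map hf h.zc_self (h.z_mem_cS hyS)))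
  intro a ha b hb
  obtain ⟨k, q, hq, rfl⟩ := h.exists_decomp hyS hyQ (cS_le y ha)
  obtain ⟨l, r, hr, rfl⟩ := h.exists_decomp hyS hyQ (cS_le y hb)
  have hky := (cS S y).zpow_mem (h.self_mem_cS hyS)
  have hqc : q ∈ cS S y := by
    have := (cS S y).mul_mem ha ((cS S y).inv_mem (hky k))
    rwa [mul_inv_cancel_right] at this
  have hrc : r ∈ cS S y := by
    have := (cS S y).mul_mem hb ((cS S y).inv_mem (hky l))
    rwa [mul_inv_cancel_right] at this
  have cq : Commute q r := hQab q hqc hq r hrc hr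
  have c1 : Commute q y := (mem_cS.1 hqc).2
  have c2 : Commute r y := (mem_cS.1 hrc).2
  exact ((cq.mul_right (c1.zpow_right l)).mul_left
    (((c2.zpow_right k).symm).mul_right ((Commute.refl y).zpow_zpow k l))).eq

/-- Under weak closure, the essential subgroup moving the centre is the centralizer of a conjugate. -/
theorem exists_essential (hO : F.core = ⊥) (hwc : WC F Q z) :
    ∃ x, Zc F z x ∧ x ∉ Q ∧ F.IsEssential p (cS S x) ∧
      ∃ β ∈ F.autGroup (cS S x), autFun β z = x := by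
  obtain ⟨E, hE, β, hβ, w, hw, hβw⟩ := h.exists_mover hO
  have hES := hE.1.1
  obtain ⟨i, hi⟩ := h.exists_ze hw
  have hzE : z ∈ E := h.z_le_cen.trans (h.cen_le_essential hE) h.zmem
  obtain ⟨x, hxdef⟩ : ∃ x, ((β ⟨z, hzE⟩ : E) : Ω) = x := ⟨_, rfl⟩
  have hxZ : x ∉ cen Q := fun hx => hβw (by
    rw [← hxdef] at hx
    rw [show w = ⟨z, hzE⟩ ^ i.val from Subtype.ext (by rw [Subgroup.coe_pow]; exact hi.symm), map_pow,
      Subgroup.coe_pow]
    exact (cen Q).pow_mem hx _)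
  have hm : IsMap F E (autFun β) := (isMap_autFun hES).2 hβ
  have hx : Zc F z x := by
    have := h.zc_map hm h.zc_self hzE
    rwa [autFun_apply_mem _ hzE, hxdef] at this
  have hxQ : x ∉ Q := fun e => hxZ (hwc x e hx)
  have hle : E ≤ cS S x := fun e he => mem_cS.2 ⟨hES he, by
    have h1 : β.symm ⟨e, he⟩ * ⟨z, hzE⟩ = ⟨z, hzE⟩ * β.symm ⟨e, he⟩ :=
      Subtype.ext (h.z_central h.zmem (hES (β.symm ⟨e, he⟩).2))
    simpa [hxdef] using congrArg (fun v : E => ((β v : E) : Ω)) h1⟩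
  have hge : cS S x ≤ E := fun c hc => hE.1.2 E (isConj_refl hES) (mem_centralizerIn.mpr
    ⟨hc.1, fun e he => by rw [h.cS_abelian hwc hx hxQ c hc e (hle he), mul_inv_cancel_right]⟩)
  obtain rfl : E = cS S x := le_antisymm hle hge
  exact ⟨x, hx, hxQ, hE, β, hβ, by rw [autFun_apply_mem _ hzE]; exact hxdef⟩

/-- If commutation is deep then `Q` is invariant under the automorphisms of the system on `S`. -/
theorem aut_Q (hd : Deep S Q p) {φ : MulAut S} (hφ : φ ∈ F.autGroup S) {q : Ω} (hq : q ∈ Q) :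
    autFun φ q ∈ Q := by
  by_contra hbad
  have hm : IsMap F S (autFun φ) := (isMap_autFun le_rfl).2 hφ
  haveI := finite_of_le h.le
  set x := autFun φ q
  set Q' := img Q (autFun φ)
  have hQ' : Q' ≤ S := (hm.mono h.le).img_le
  have h1 := card_le_inf (H := Q) (K := Q') h.le hQ' h.idx.le
  rw [(hm.mono h.le).card_img] at h1
  refine absurd h1 (not_le.2 (hd x (hm.mem_S (h.le hq)) hbad _ inf_le_left fun r hr => ?_))
  obtain ⟨r₀, hr₀, he⟩ := (hm.mono h.le).mem_img.1 hr.2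
  rw [← he, commutatorElement_def, show x = autFun φ q from rfl, ← hm.map_conj (h.le hq) (h.le hr₀),
    ← hm.map_inv (h.le hr₀),
    ← hm.map_mul (h.le (Q.mul_mem (Q.mul_mem hq hr₀) (Q.inv_mem hq))) (S.inv_mem (h.le hr₀))]
  have hc := h.comm_Q hq hr₀
  rw [← h.hcen] at hc ⊢
  have hcS := hc.1
  refine ⟨hm.mem_S hcS, fun y hy => ?_⟩
  obtain ⟨y', hy', hye⟩ : ∃ y' ∈ S, autFun φ y' = y := by
    refine ⟨((φ.symm ⟨y, hy⟩ : S) : Ω), (φ.symm ⟨y, hy⟩).2, ?_⟩
    rw [autFun_apply, MulEquiv.apply_symm_apply]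
  rw [← hye, ← hm.map_mul hy' hcS, ← hm.map_mul hcS hy', hc.2 y' hy']

end Setup

end Cfsg.Lib.Fusion.ExIdxP
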