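import Cfsg.Agent.Fusion.ExIdxP.PearlClimb
import Cfsg.Agent.Fusion.ExIdxP.Shapes

/-!
The weights of the torus of a pearl.
-/

set_option autoImplicit false
set_option linter.style.haveILetI false
set_option linter.unusedSectionVars false

namespace Cfsg.Lib.Fusion.ExIdxP

open Cfsg Cfsg.FusionSystem Cfsg.Lib.Fusion Cfsg.Lib.Fusion.ExtraspecialIndex
open scoped commutatorElement

universe u

variable {Ω : Type u} [Group Ω] {S : Subgroup Ω} {F : FusionSystem S} {p : ℕ}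

/-- Iterated commutators with `x`. -/
def vs (x v : Ω) : ℕ → Ω
  | 0 => v
  | j + 1 => ⁅x, vs x v j⁆

/-- Congruence modulo a level. -/
def Cg (S Q : Subgroup Ω) (j : ℕ) (a b : Ω) : Prop := a * b⁻¹ ∈ lev S Q j

/-- The shift of a sequence as a linear map. -/
def seqShift (p : ℕ) : Module.End (ZMod p) (ℕ → ZMod p) where
  toFun g := fun j => g (j + 1)
  map_add' _ _ := rfl
  map_smul' _ _ := rfl

theorem seqShift_pow (p : ℕ) : ∀ (n : ℕ) (g : ℕ → ZMod p) (j : ℕ), (seqShift p ^ n) g j = g (j + n)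
  | 0, g, j => by simp
  | n + 1, g, j => by
    rw [pow_succ', Module.End.mul_apply]
    show (seqShift p ^ n) g (j + 1) = _
    rw [seqShift_pow p n]
    congr 1
    omega

theorem seq_period [hp : Fact p.Prime] (G : ℕ → ℕ → ZMod p) (hG : ∀ n j, G (n + 1) j = G n j + G n (j + 1)) :
    G p 0 = G 0 0 + G 0 p := by
  have hiter : ∀ n, G n = ((1 + seqShift p) ^ n) (G 0) := by
    intro n
    induction n with
    | zero => simp
    | succ n ih =>
      rw [pow_succ', Module.End.mul_apply, ← ih]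
      funext j
      exact hG n j
  obtain ⟨r, hr⟩ := (Commute.one_left (seqShift p)).exists_add_pow_prime_eq hp.out
  rw [hiter p, hr, show ((p : ℕ) : Module.End (ZMod p) (ℕ → ZMod p)) = 0 by
    ext g j; simp, one_pow]
  simp [seqShift_pow]

namespace Pl

variable [Finite S] [hp : Fact p.Prime] {Q : Subgroup Ω} {z x : Ω} {N : ℕ} {h : Setup F p Q z}
  (d : Pl F p Q z x N h)
include d

theorem lev_zero {u : Ω} (hu : u ∈ Q) : u ∈ lev S Q 0 := by rw [lev, if_pos rfl]; exact hu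

theorem cg_rfl {j : ℕ} (a : Ω) : Cg S Q j a a := by
  show a * a⁻¹ ∈ _; rw [mul_inv_cancel]; exact one_mem _

theorem cg_trans {j : ℕ} {a b c : Ω} (h1 : Cg S Q j a b) (h2 : Cg S Q j b c) : Cg S Q j a c := by
  show a * c⁻¹ ∈ _
  rw [show a * c⁻¹ = a * b⁻¹ * (b * c⁻¹) by group]
  exact mul_mem h1 h2

theorem cg_mul {j : ℕ} {a b a' b' : Ω} (hb : b ∈ S) (h1 : Cg S Q j a b) (h2 : Cg S Q j a' b') :
    Cg S Q j (a * a') (b * b') := by
  show a * a' * (b * b')⁻¹ ∈ _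
  rw [show a * a' * (b * b')⁻¹ = a * b⁻¹ * (b * (a' * b'⁻¹) * b⁻¹) by group]
  exact mul_mem h1 (d.lev_conj hb h2)

theorem cg_pow {j : ℕ} {a b : Ω} (hb : b ∈ S) (h1 : Cg S Q j a b) : ∀ n : ℕ, Cg S Q j (a ^ n) (b ^ n)
  | 0 => by simpa using d.cg_rfl (1 : Ω)
  | n + 1 => by rw [pow_succ, pow_succ]; exact d.cg_mul (S.pow_mem hb n) (cg_pow hb h1 n) h1

theorem cg_conj {j : ℕ} {g w : Ω} (hg : g ∈ S) (hw : w ∈ lev S Q j) :
    Cg S Q (j + 1) (g * w * g⁻¹) w := by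
  show g * w * g⁻¹ * w⁻¹ ∈ _
  rw [← commutatorElement_def]
  exact d.lev_comm hg hw

theorem cg_comm {j : ℕ} {g a b : Ω} (hg : g ∈ S) (hb : b ∈ lev S Q j) (h1 : Cg S Q (j + 1) a b) :
    Cg S Q (j + 2) ⁅g, a⁆ ⁅g, b⁆ := by
  obtain ⟨k, hk, rfl⟩ : ∃ k ∈ lev S Q (j + 1), a = k * b := ⟨_, h1, (inv_mul_cancel_right a b).symm⟩
  rw [comm_mul_right]
  have h2 := d.lev_comm hg hk
  have h3 := d.cg_conj (h.le (d.lev_le _ hk)) (d.lev_comm hg hb)
  show ⁅g, k⁆ * (k * ⁅g, b⁆ * k⁻¹) * ⁅g, b⁆⁻¹ ∈ _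
  rw [mul_assoc]
  exact mul_mem h2 h3

theorem cg_comm_pow {j : ℕ} {g b : Ω} (hg : g ∈ S) (hb : b ∈ lev S Q j) :
    ∀ n : ℕ, Cg S Q (j + 2) ⁅g, b ^ n⁆ (⁅g, b⁆ ^ n)
  | 0 => by simpa using d.cg_rfl (1 : Ω)
  | n + 1 => by
    rw [pow_succ, comm_mul_right, pow_succ]
    exact d.cg_mul (S.pow_mem (h.le (d.lev_le _ (d.lev_comm hg hb))) n) (cg_comm_pow hg hb n)
      (d.cg_conj (S.pow_mem (h.le (d.lev_le _ hb)) n) (d.lev_comm hg hb))

theorem cg_pow_comm {j : ℕ} {u : Ω} (hu : u ∈ lev S Q j) :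
    ∀ n : ℕ, Cg S Q (j + 2) ⁅x ^ n, u⁆ (⁅x, u⁆ ^ n)
  | 0 => by simpa using d.cg_rfl (1 : Ω)
  | n + 1 => by
    have hxS := d.ess.xS h
    rw [pow_succ', comm_mul_left, pow_succ]
    refine d.cg_mul (S.pow_mem (h.le (d.lev_le _ (d.lev_comm hxS hu))) n) ?_ (d.cg_rfl _)
    exact d.cg_trans (d.cg_conj hxS (d.lev_comm (S.pow_mem hxS n) hu)) (cg_pow_comm hu n)

theorem pow_lev {j : ℕ} (hj : j ≤ N - 2) {u : Ω} (hu : u ∈ lev S Q j) : u ^ p ∈ lev S Q (j + 1) := by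
  rcases Nat.lt_or_ge j (N - 2) with h1 | h1
  · exact d.cen_le_lev (by omega) (h.pow_mem_cen (d.lev_le _ hu))
  · rw [show j = N - 2 by omega, d.lev_top] at hu
    rw [h.z_pow hu]; exact one_mem _

theorem cg_nat {j : ℕ} (hj : j ≤ N - 2) {u : Ω} (hu : u ∈ lev S Q j) (n : ℕ) :
    Cg S Q (j + 1) (u ^ n) (ze u (n : ZMod p)) := by
  show u ^ n * (u ^ (n : ZMod p).val)⁻¹ ∈ _
  rw [ZMod.val_natCast, show u ^ n = (u ^ p) ^ (n / p) * u ^ (n % p) by
    rw [← pow_mul, ← pow_add, Nat.div_add_mod], mul_inv_cancel_right]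
  exact Subgroup.pow_mem _ (d.pow_lev hj hu) _

theorem cg_ze_ze {j : ℕ} (hj : j ≤ N - 2) {u : Ω} (hu : u ∈ lev S Q j) (s t : ZMod p) :
    Cg S Q (j + 1) (ze (ze u s) t) (ze u (t * s)) := by
  haveI := h.neZero
  have e := d.cg_nat hj hu (s.val * t.val)
  rw [Nat.cast_mul, ZMod.natCast_zmod_val, ZMod.natCast_zmod_val, pow_mul, mul_comm s] at e
  exact e

theorem ze_lev_zero {j : ℕ} (hj : j ≤ N - 2) {u : Ω} (hu : u ∈ lev S Q j) (hu' : u ∉ lev S Q (j + 1))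
    {t : ZMod p} (ht : ze u t ∈ lev S Q (j + 1)) : t = 0 := by
  by_contra hne
  haveI := h.neZero
  refine hu' ?_
  have e := d.cg_ze_ze hj hu t t⁻¹
  rw [inv_mul_cancel₀ hne, ze_one_of] at e
  have h1 : ze (ze u t) t⁻¹ ∈ lev S Q (j + 1) := Subgroup.pow_mem _ ht _
  have := mul_mem (Subgroup.inv_mem _ e) h1
  simpa using this

theorem lev_decomp {j : ℕ} (hj : j ≤ N - 2) {v : Ω} (hv : v ∈ lev S Q j) (hv' : v ∉ lev S Q (j + 1))
    {u : Ω} (hu : u ∈ lev S Q j) : ∃ t : ZMod p, Cg S Q (j + 1) u (ze v t) := by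
  haveI := d.finite_lev (j + 1)
  haveI := d.finite_lev j
  set B := lev S Q (j + 1) ⊔ Subgroup.zpowers v
  have hB : B ≤ lev S Q j := sup_le (d.lev_succ_le j) (Subgroup.zpowers_le.2 hv)
  have h1 := h.card_mul_le (hB.trans ((d.lev_le j).trans h.le)) le_sup_left
    (Subgroup.mem_sup_right (Subgroup.mem_zpowers v)) hv'
  rw [d.lev_card (show j + 1 ≤ N - 1 by have := d.six_le; omega), ← pow_succ',
    show N - 1 - (j + 1) + 1 = N - 1 - j by have := d.six_le; omega,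
    ← d.lev_card (show j ≤ N - 1 by omega)] at h1
  have hu' : u ∈ B := (Subgroup.eq_of_le_of_card_ge hB h1).ge hu
  have hn : Subgroup.zpowers v ≤ Subgroup.normalizer (lev S Q (j + 1) : Set Ω) := Subgroup.zpowers_le.2
    (mem_normalizer_of_maps_finite fun w hw => d.lev_conj (h.le (d.lev_le _ hv)) hw)
  obtain ⟨k, hk, _, ⟨m, rfl⟩, rfl⟩ := (Cfsg.Lib.Coprime.mem_sup_of_le_normalizer hn).mp hu'
  haveI := h.neZero
  refine ⟨(m : ZMod p), ?_⟩
  show k * v ^ m * (v ^ ((m : ZMod p)).val)⁻¹ ∈ _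
  rw [mul_assoc]
  refine mul_mem hk ?_
  rw [← zpow_natCast, ZMod.val_intCast, ← zpow_neg, ← zpow_add,
    show m + -(m % (p : ℤ)) = (p : ℤ) * (m / (p : ℤ)) by have := Int.mul_ediv_add_emod m p; omega,
    zpow_mul, zpow_natCast]
  exact Subgroup.zpow_mem _ (d.pow_lev hj hv) _

variable {v : Ω} (hv : v ∈ Q) (hv' : v ∉ lev S Q 1)
include hv hv'

theorem vs_mem : ∀ j, vs x v j ∈ lev S Q j
  | 0 => d.lev_zero hv
  | j + 1 => d.lev_comm (d.ess.xS h) (vs_mem j)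

theorem vs_Q (j : ℕ) : vs x v j ∈ Q := d.lev_le j (d.vs_mem hv hv' j)

theorem vs_not : ∀ j, j ≤ N - 2 → vs x v j ∉ lev S Q (j + 1)
  | 0, _ => hv'
  | j + 1, hj => fun hm => vs_not j (by omega) (d.lev_desc (by omega) (d.vs_mem hv hv' j) hm)

theorem vs_last : ∃ m : ZMod p, m ≠ 0 ∧ vs x v (N - 2) = ze z m := by
  have h1 := d.vs_mem hv hv' (N - 2)
  rw [d.lev_top] at h1
  obtain ⟨m, hm⟩ := h.exists_ze h1
  refine ⟨m, fun e => d.vs_not hv hv' (N - 2) le_rfl ?_, hm.symm⟩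
  rw [← hm, e, h.ze_zero]; exact one_mem _

theorem vs_pair : cc p z v (vs x v (N - 3)) ≠ 0 := by
  intro h0
  have hN := d.six_le
  have hxS := d.ess.xS h
  have hw := d.vs_mem hv hv' (N - 3)
  have hwQ := d.lev_le _ hw
  refine d.vs_not hv hv' (N - 3) (by omega) ?_
  rw [show N - 3 + 1 = N - 2 by omega, d.lev_top]
  refine h.mem_cen_of_cc hwQ fun q hq => ?_
  rw [h.cc_swap hq hwQ]
  obtain ⟨t, ht⟩ := d.lev_decomp (j := 0) (by omega) (d.lev_zero hv) hv' (d.lev_zero hq)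
  obtain ⟨u, hu, hue⟩ := d.lev_surj (show 0 < N - 2 by omega) ht
  have hker : vs x v (N - 3) ∈ h.kerSub x hxS := (h.mem_kerSub hxS).2 ⟨hwQ, by
    have := d.lev_comm hxS hw
    rwa [show N - 3 + 1 = N - 2 by omega, d.lev_top] at this⟩
  have e1 := h.cc_im_ker hxS (h.comm_mem_imSub hxS (d.lev_le 0 hu)) hker
  have hzt : ze v t ∈ Q := Q.pow_mem hv _
  rw [hue, h.cc_mul_left hq (Q.inv_mem hzt) hwQ, h.cc_inv_left hzt hwQ, h.cc_ze_pow_left hv hwQ, h0, mul_zero,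
    neg_zero, add_zero] at e1
  rw [e1, neg_zero]

theorem length_le : N - 2 ≤ p := by
  by_contra hlt
  push Not at hlt
  have hxS := d.ess.xS h
  refine d.vs_not hv hv' p (by omega) (d.cen_le_lev (by omega) (h.mem_cen_of_cc (d.vs_Q hv hv' p) fun u hu => ?_))
  let G : ℕ → ℕ → ZMod p := fun n j => cc p z (x ^ n * vs x v j * (x ^ n)⁻¹) u
  have hG : ∀ n j, G (n + 1) j = G n j + G n (j + 1) := by
    intro n j
    have hc : ∀ i, x ^ n * vs x v i * (x ^ n)⁻¹ ∈ Q := fun i => h.conj_Q (S.pow_mem hxS n) (d.vs_Q hv hv' i)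
    have e : x ^ (n + 1) * vs x v j * (x ^ (n + 1))⁻¹ =
        x ^ n * vs x v (j + 1) * (x ^ n)⁻¹ * (x ^ n * vs x v j * (x ^ n)⁻¹) := by
      rw [show vs x v (j + 1) = ⁅x, vs x v j⁆ from rfl, commutatorElement_def, pow_succ]
      group
    show cc p z (x ^ (n + 1) * vs x v j * (x ^ (n + 1))⁻¹) u = _
    rw [e, h.cc_mul_left (hc (j + 1)) (hc j) hu, add_comm]
  have e := seq_period G hG
  simp only [G, d.ess.xp h, pow_zero, one_mul, inv_one, mul_one] at e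
  exact left_eq_add.1 e

theorem lev_one_pow {k : Ω} (hk : k ∈ lev S Q 1) : k ^ p = 1 := by
  have hN := d.six_le
  obtain ⟨u, hu, rfl⟩ := d.lev_surj (show 0 < N - 2 by omega) hk
  exact h.comm_pow_p (d.ess.xS h) (d.lev_le 0 hu)

/-- The weights. -/
theorem weights {a : ZMod p} (ha : a ≠ 0) : ∃ ψ ∈ F.autGroup S, autFun ψ x = ze x a⁻¹ ∧
    autFun ψ z = ze z a ∧ (∀ k ∈ lev S Q 1, autFun ψ k ∈ lev S Q 1) ∧
    a ^ N = 1 ∧ Cg S Q 1 (autFun ψ v) (ze v a⁻¹) ∧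
    Cg S Q (N - 2) (autFun ψ (vs x v (N - 3))) (ze (vs x v (N - 3)) (a⁻¹ ^ (N - 2))) := by
  haveI := h.neZero
  have hN := d.six_le
  have hxS := d.ess.xS h
  obtain ⟨ψ, hψ, hψx, hψz, hψQ⟩ := d.exists_torus ha
  have hm : IsMap F S (autFun ψ) := (isMap_autFun le_rfl).2 hψ
  set b := a⁻¹
  have hbS : ze x b ∈ S := S.pow_mem hxS _
  have hcomm : ∀ {u : Ω}, u ∈ S → autFun ψ ⁅x, u⁆ = ⁅ze x b, autFun ψ u⁆ := fun {u} hu => by
    rw [commutatorElement_def, hm.map_mul (S.mul_mem (S.mul_mem hxS hu) (S.inv_mem hxS)) (S.inv_mem hu),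
      hm.map_conj hxS hu, hm.map_inv hu, hψx, commutatorElement_def]
  have hlev1 : ∀ k ∈ lev S Q 1, autFun ψ k ∈ lev S Q 1 := by
    intro k hk
    obtain ⟨u, hu, rfl⟩ := d.lev_surj (show 0 < N - 2 by omega) hk
    rw [hcomm (h.le (d.lev_le 0 hu))]
    exact d.lev_comm hbS (d.lev_zero (hψQ u (d.lev_le 0 hu)))
  obtain ⟨w, hw⟩ := d.lev_decomp (j := 0) (by omega) (d.lev_zero hv) hv' (d.lev_zero (hψQ v hv))
  have claim : ∀ j, j ≤ N - 2 → Cg S Q (j + 1) (autFun ψ (vs x v j)) (ze (vs x v j) (w * b ^ j)) := by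
    intro j hj
    induction j with
    | zero => rw [pow_zero, mul_one]; exact hw
    | succ j ih =>
      have ih' := ih (by omega)
      have hvj := d.vs_mem hv hv' j
      have hvj1 := d.vs_mem hv hv' (j + 1)
      show Cg S Q (j + 2) (autFun ψ ⁅x, vs x v j⁆) (ze (vs x v (j + 1)) (w * b ^ (j + 1)))
      rw [hcomm (h.le (d.vs_Q hv hv' j))]
      refine d.cg_trans (d.cg_comm hbS (ze_in hvj _) ih') ?_
      refine d.cg_trans (d.cg_comm_pow hbS hvj _) ?_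
      refine d.cg_trans (d.cg_pow (S.pow_mem (h.le (d.vs_Q hv hv' (j + 1))) b.val)
        (d.cg_pow_comm hvj b.val) (w * b ^ j).val) ?_
      have e := d.cg_ze_ze (show j + 1 ≤ N - 2 from hj) hvj1 b (w * b ^ j)
      rwa [mul_assoc, ← pow_succ] at e
  obtain ⟨m, hm0, hlast⟩ := d.vs_last hv hv'
  have htop := claim (N - 2) le_rfl
  rw [show N - 2 + 1 = N - 1 by omega, Cg, d.lev_bot, Subgroup.mem_bot, mul_inv_eq_one, hlast,
    map_ze hm h.zS, hψz] at htop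
  change ze z a ^ m.val = ze z m ^ (w * b ^ (N - 2)).val at htop
  rw [h.ze_pow, h.ze_pow, ZMod.natCast_zmod_val, ZMod.natCast_zmod_val] at htop
  have e1 : a = w * b ^ (N - 2) := mul_left_cancel₀ hm0 (by linear_combination h.ze_inj htop)
  have hu3 := d.vs_Q hv hv' (N - 3)
  set u₃ := vs x v (N - 3)
  have hc0 := d.vs_pair hv hv'
  have hc3 := claim (N - 3) (by omega)
  rw [show N - 3 + 1 = N - 2 by omega] at hc3
  have hψu := hψQ u₃ hu3
  have e2 : a * cc p z v u₃ = w * (w * b ^ (N - 3)) * cc p z v u₃ := by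
    have hcu : cc p z (autFun ψ v) (autFun ψ u₃) = a * cc p z v u₃ := by
      refine h.ze_inj ?_
      have e := map_ze hm h.zS (cc p z v u₃)
      rw [hψz, h.cc_spec hv hu3] at e
      rw [h.cc_spec (hψQ v hv) hψu, mul_comm a]
      have e' : ze (ze z a) (cc p z v u₃) = ze z (cc p z v u₃ * a) := by
        show ze z a ^ _ = _
        rw [h.ze_pow, ZMod.natCast_zmod_val]
      rw [← e', ← e, commutatorElement_def, commutatorElement_def,
        hm.map_mul (S.mul_mem (S.mul_mem (h.le hv) (h.le hu3)) (S.inv_mem (h.le hv))) (S.inv_mem (h.le hu3)),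
        hm.map_conj (h.le hv) (h.le hu3), hm.map_inv (h.le hu3)]
    rw [← hcu]
    obtain ⟨k, hk, hke⟩ : ∃ k ∈ lev S Q 1, autFun ψ v = k * ze v w := ⟨_, hw, (inv_mul_cancel_right _ _).symm⟩
    obtain ⟨k', hk', hke'⟩ : ∃ k' ∈ cen Q, autFun ψ u₃ = k' * ze u₃ (w * b ^ (N - 3)) :=
      ⟨_, d.lev_top.le hc3, (inv_mul_cancel_right _ _).symm⟩
    have hker : u₃ ∈ h.kerSub x hxS := (h.mem_kerSub hxS).2 ⟨hu3, by
      have := d.lev_comm hxS (d.vs_mem hv hv' (N - 3))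
      rwa [show N - 3 + 1 = N - 2 by omega, d.lev_top] at this⟩
    have hku : cc p z k u₃ = 0 := by
      obtain ⟨u, hu, rfl⟩ := d.lev_surj (show 0 < N - 2 by omega) hk
      exact h.cc_im_ker hxS (h.comm_mem_imSub hxS (d.lev_le 0 hu)) hker
    have hzv : ze v w ∈ Q := Q.pow_mem hv _
    rw [hke, hke', h.cc_mul_right (Q.mul_mem (d.lev_le 1 hk) hzv) hk'.1 (show ze u₃ (w * b ^ (N - 3)) ∈ Q from Q.pow_mem hu3 _),
      h.cc_cen_right hk' (Q.mul_mem (d.lev_le 1 hk) hzv), zero_add,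
      h.cc_ze_pow_right (Q.mul_mem (d.lev_le 1 hk) hzv) hu3, h.cc_mul_left (d.lev_le 1 hk) hzv hu3, hku,
      h.cc_ze_pow_left hv hu3, zero_add]
    ring
  have e3 := mul_right_cancel₀ hc0 e2
  have hwv : w = a ^ (N - 1) := by
    have hb : b ^ (N - 2) * a ^ (N - 2) = 1 := by rw [← mul_pow, inv_mul_cancel₀ ha, one_pow]
    calc w = w * (b ^ (N - 2) * a ^ (N - 2)) := by rw [hb, mul_one]
      _ = a * a ^ (N - 2) := by rw [← mul_assoc, ← e1]
      _ = _ := by rw [← pow_succ']; congr 1; omega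
  have haN : a ^ N = 1 := by
    have hb : b ^ (N - 3) * a ^ (N - 3) = 1 := by rw [← mul_pow, inv_mul_cancel₀ ha, one_pow]
    have e4 : a ^ (N - 2) = a ^ (N - 2) * a ^ N := by
      calc a ^ (N - 2) = a * a ^ (N - 3) := by rw [← pow_succ']; congr 1; omega
        _ = w * w * (b ^ (N - 3) * a ^ (N - 3)) := by rw [e3]; ring
        _ = _ := by rw [hb, mul_one, hwv, ← pow_add, ← pow_add]; congr 1; omega
    exact (mul_eq_left₀ (pow_ne_zero _ ha)).1 e4.symm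
  have hwb : w = b := eq_inv_of_mul_eq_one_left (by rw [hwv, ← pow_succ, show N - 1 + 1 = N by omega, haN])
  refine ⟨ψ, hψ, hψx, hψz, hlev1, haN, hwb ▸ hw, ?_⟩
  rwa [hwb, ← pow_succ', show N - 3 + 1 = N - 2 by omega] at hc3

theorem index_eq : p = N + 1 := by
  have hN := d.six_le
  have hl := d.length_le hv hv'
  have hd : p - 1 ∣ N := by
    have hall : ∀ a : (ZMod p)ˣ, a ^ N = 1 := fun a => Units.ext (by
      obtain ⟨_, -, -, -, -, ha, -⟩ := d.weights hv hv' (a := (a : ZMod p)) a.ne_zero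
      rw [Units.val_pow_eq_pow_val, ha, Units.val_one])
    have e := (FiniteField.forall_pow_eq_one_iff (ZMod p) N).1 hall
    rwa [ZMod.card] at e
  obtain ⟨k, hk⟩ := hd
  have hk1 : k ≠ 0 := by rintro rfl; omega
  by_contra hne
  have hk2 : 2 ≤ k := by
    by_contra hlt
    obtain rfl : k = 1 := by omega
    have := hp.out.two_le
    omega
  have h5 : (p - 1) * 2 ≤ N := hk ▸ Nat.mul_le_mul le_rfl hk2
  have h4 : p ≠ 4 := fun e => absurd (e ▸ hp.out) (by norm_num)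
  omega

theorem exponent (s : Ω) (hs : s ∈ S) : s ^ p = 1 := by
  haveI := h.neZero
  have hN := d.six_le
  have hxS := d.ess.xS h
  have hp7 : 7 ≤ p := by have := d.index_eq hv hv'; omega
  have hnz : ∀ n : ℕ, 0 < n → n < 7 → ((n : ZMod p)) ≠ 0 := fun n h1 h2 e => by
    have := Nat.le_of_dvd h1 ((ZMod.natCast_eq_zero_iff n p).1 e)
    omega
  obtain ⟨a, ha⟩ : ∃ a : ZMod p, a = -2 := ⟨_, rfl⟩
  have ha0 : a ≠ 0 := ha ▸ neg_ne_zero.2 h.two_ne_zero'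
  have ha2 : a * a ≠ 1 := fun e => hnz 3 (by norm_num) (by norm_num) (by
    rw [ha] at e; push_cast; linear_combination e)
  have ha3 : a * a * a ≠ 1 := fun e => hnz 3 (by norm_num) (by norm_num) (by
    rw [ha] at e
    have h9 : (3 : ZMod p) * 3 = 0 := by linear_combination -e
    exact_mod_cast (mul_self_eq_zero.1 h9))
  obtain ⟨ψ, hψ, hψx, hψz, hψ1, haN, hψv, hψu⟩ := d.weights hv hv' ha0
  have hm : IsMap F S (autFun ψ) := (isMap_autFun le_rfl).2 hψ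
  -- `Q` has exponent `p`
  have hvp : v ^ p = 1 := by
    obtain ⟨m, hmz⟩ := h.exists_ze (h.pow_mem_cen hv)
    obtain ⟨k, hk, hke⟩ : ∃ k ∈ lev S Q 1, autFun ψ v = k * ze v a⁻¹ :=
      ⟨_, hψv, (inv_mul_cancel_right _ _).symm⟩
    have e := hm.map_pow (h.le hv) p
    rw [← hmz, map_ze hm h.zS, hψz, hke, h.mul_pow_p (d.lev_le 1 hk) (show ze v a⁻¹ ∈ Q from Q.pow_mem hv _), d.lev_one_pow hv hv' hk,
      one_mul, show ze v a⁻¹ ^ p = ze (v ^ p) a⁻¹ from by unfold ze; rw [← pow_mul, mul_comm, pow_mul], ← hmz] at e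
    change ze z a ^ m.val = ze z m ^ (a⁻¹).val at e
    rw [h.ze_pow, h.ze_pow, ZMod.natCast_zmod_val, ZMod.natCast_zmod_val] at e
    have e' := h.ze_inj e
    have : (a * a - 1) * m = 0 := by
      have hai := mul_inv_cancel₀ ha0
      linear_combination a * e' + m * hai
    rw [← hmz, (mul_eq_zero.1 this).resolve_left (sub_ne_zero.2 ha2), h.ze_zero]
  have hQexp : ∀ q ∈ Q, q ^ p = 1 := by
    intro q hq
    obtain ⟨t, ht⟩ := d.lev_decomp (j := 0) (by omega) (d.lev_zero hv) hv' (d.lev_zero hq)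
    rw [show q = q * (ze v t)⁻¹ * ze v t by rw [inv_mul_cancel_right],
      h.mul_pow_p (d.lev_le 1 ht) (show ze v t ∈ Q from Q.pow_mem hv _), d.lev_one_pow hv hv' ht, one_mul, ze, ← pow_mul, mul_comm,
      pow_mul, hvp, one_pow]
  have hpform : ∀ (q : Ω), q ∈ Q → ∀ n : ℕ, ∃ q' ∈ Q, Cg S Q 1 q' (q ^ n) ∧ (q * x) ^ n = q' * x ^ n := by
    intro q hq n
    induction n with
    | zero => exact ⟨1, Q.one_mem, by simpa using d.cg_rfl (1 : Ω), by simp⟩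
    | succ n ih =>
      obtain ⟨q', hq', hc, he⟩ := ih
      refine ⟨q' * (x ^ n * q * (x ^ n)⁻¹), Q.mul_mem hq' (h.conj_Q (S.pow_mem hxS n) hq), ?_, ?_⟩
      · rw [pow_succ]
        exact d.cg_mul (S.pow_mem (h.le hq) n) hc (d.cg_conj (S.pow_mem hxS n) (d.lev_zero hq))
      · rw [pow_succ (q * x), he, pow_succ x]; group
  have hpq : ∀ q ∈ Q, (q * x) ^ p ∈ Q := fun q hq => by
    obtain ⟨q', hq', -, e⟩ := hpform q hq p
    rw [e, d.ess.xp h, mul_one]; exact hq'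
  -- the power depends on the coset of the first level only up to conjugation
  have hinv : ∀ {V k : Ω}, V ∈ Q → k ∈ lev S Q 1 → ∃ u ∈ Q, (k * V * x) ^ p = u * (V * x) ^ p * u⁻¹ := by
    intro V k hV hk
    obtain ⟨u, hu, hue⟩ := d.lev_surj (show 0 < N - 2 by omega) (Subgroup.inv_mem _ hk)
    have huQ := d.lev_le 0 hu
    have hkQ := d.lev_le 1 hk
    obtain ⟨r, hr⟩ := h.exists_ze ((cen Q).mul_mem (h.comm_mem huQ hV) (h.comm_mem hV hkQ))
    have hux : ⁅u, x⁆ = k := by rw [← commutatorElement_inv x u, hue, inv_inv]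
    have hkVS : k * V * x ∈ S := S.mul_mem (S.mul_mem (h.le hkQ) (h.le hV)) hxS
    have e : u * (V * x) * u⁻¹ = ze z r * (k * V * x) := by
      calc u * (V * x) * u⁻¹ = ⁅u, V⁆ * (V * ⁅u, x⁆ * x) := by rw [commutatorElement_def, commutatorElement_def]; group
        _ = ⁅u, V⁆ * ⁅V, k⁆ * (k * V * x) := by rw [hux, commutatorElement_def V k]; group
        _ = _ := by rw [hr]
    refine ⟨u, huQ, ?_⟩
    rw [← conj_pow, e, (show Commute (ze z r) (k * V * x) from (h.ze_comm r hkVS).symm).mul_pow,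
      h.z_pow (h.ze_mem r), one_mul]
  have hzero : ∀ c : ZMod p, (ze v c * x) ^ p = 1 := by
    intro c
    obtain ⟨V, hVdef⟩ : ∃ V, ze v c = V := ⟨_, rfl⟩
    have hV : V ∈ Q := hVdef ▸ Q.pow_mem hv _
    rw [hVdef]
    obtain ⟨t, ht⟩ : ∃ t, (V * x) ^ p = t := ⟨_, rfl⟩
    rw [ht]
    have htQ : t ∈ Q := ht ▸ hpq V hV
    have htcomm : Commute (V * x) t := ht ▸ Commute.self_pow _ _
    have htz : ⁅x, t⁆ ∈ cen Q := by
      have e2 : x * t * x⁻¹ = V⁻¹ * t * V := by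
        calc x * t * x⁻¹ = V⁻¹ * ((V * x) * t) * x⁻¹ := by group
          _ = V⁻¹ * (t * (V * x)) * x⁻¹ := by rw [htcomm.eq]
          _ = _ := by group
      rw [show ⁅x, t⁆ = ⁅V⁻¹, t⁆ by rw [commutatorElement_def, commutatorElement_def, e2, inv_inv]]
      exact h.comm_mem (Q.inv_mem hV) htQ
    have htlev : ∀ j, j ≤ N - 3 → t ∈ lev S Q j := by
      intro j hj
      induction j with
      | zero => exact d.lev_zero htQ
      | succ j ih => exact d.lev_desc (by omega) (ih (by omega)) (d.cen_le_lev (by omega) htz)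
    obtain ⟨r, hr⟩ := d.lev_decomp (j := N - 3) (by omega) (d.vs_mem hv hv' (N - 3))
      (d.vs_not hv hv' (N - 3) (by omega)) (htlev _ le_rfl)
    obtain ⟨u₃, hu₃⟩ : ∃ u₃, vs x v (N - 3) = u₃ := ⟨_, rfl⟩
    have hu3Q : u₃ ∈ Q := hu₃ ▸ d.vs_Q hv hv' (N - 3)
    rw [hu₃, show N - 3 + 1 = N - 2 by omega] at hr
    rw [hu₃] at hψu
    have hu3lev : u₃ ∈ lev S Q (N - 3) := hu₃ ▸ d.vs_mem hv hv' (N - 3)
    have hu3not : u₃ ∉ lev S Q (N - 3 + 1) := hu₃ ▸ d.vs_not hv hv' (N - 3) (by omega)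
    -- apply the automorphism to a power
    obtain ⟨q', hq', hcq, hqe⟩ := hpform V hV a.val
    have hk : ∃ k ∈ lev S Q 1, autFun ψ ((V * x) ^ a.val) = k * V * x := by
      refine ⟨autFun ψ q' * V⁻¹, ?_, ?_⟩
      · have h1 : Cg S Q 1 (autFun ψ q') (autFun ψ (V ^ a.val)) := by
          have := hψ1 _ hcq
          rwa [hm.map_mul (h.le hq') (S.inv_mem (S.pow_mem (h.le hV) _)), hm.map_inv (S.pow_mem (h.le hV) _)] at this
        refine d.cg_trans h1 ?_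
        rw [hm.map_pow (h.le hV), ← hVdef, map_ze hm (h.le hv)]
        refine d.cg_trans (d.cg_pow (S.pow_mem (S.pow_mem (h.le hv) _) _)
          (d.cg_pow (S.pow_mem (h.le hv) _) hψv c.val) a.val) ?_
        have e1 := d.cg_nat (j := 0) (by omega) (d.lev_zero hv) ((a⁻¹).val * c.val * a.val)
        rw [Nat.cast_mul, Nat.cast_mul, ZMod.natCast_zmod_val, ZMod.natCast_zmod_val, ZMod.natCast_zmod_val,
          mul_right_comm a⁻¹ c a, inv_mul_cancel₀ ha0, one_mul, pow_mul, pow_mul] at e1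
        exact e1
      · have hax : ze (ze x a⁻¹) a = x := by
          show ze x a⁻¹ ^ a.val = x
          rw [ze_pow_of (d.ess.xp h), ZMod.natCast_zmod_val, mul_inv_cancel₀ ha0, ze_one_of]
        rw [inv_mul_cancel_right, hqe, hm.map_mul (h.le hq') (S.pow_mem hxS _), hm.map_pow hxS, hψx]
        exact congrArg (fun w => autFun ψ q' * w) hax
    obtain ⟨k, hk, hke⟩ := hk
    obtain ⟨u, hu, hue⟩ := hinv hV hk
    have hkey : autFun ψ t ^ a.val = u * t * u⁻¹ := by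
      rw [← ht, ← hue, ← hke, ← hm.map_pow (S.pow_mem (S.mul_mem (h.le hV) hxS) _),
        ← hm.map_pow (S.pow_mem (S.mul_mem (h.le hV) hxS) _), ← pow_mul, ← pow_mul, mul_comm]
    have hr0 : r = 0 := by
      have h1 : Cg S Q (N - 2) (u * t * u⁻¹) (ze u₃ r) := by
        refine d.cg_trans ?_ hr
        show u * t * u⁻¹ * t⁻¹ ∈ _
        rw [← commutatorElement_def]
        exact d.cen_le_lev le_rfl (h.comm_mem hu htQ)
      obtain ⟨k', hk', hk'e⟩ : ∃ k' ∈ lev S Q (N - 2), t = k' * ze u₃ r := ⟨_, hr, (inv_mul_cancel_right _ _).symm⟩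
      have h2 : Cg S Q (N - 2) (autFun ψ t) (ze (ze u₃ (a⁻¹ ^ (N - 2))) r) := by
        rw [hk'e, hm.map_mul (h.le (d.lev_le _ hk')) (show ze u₃ r ∈ S from S.pow_mem (h.le hu3Q) _), map_ze hm (h.le hu3Q)]
        refine d.cg_trans ?_ (d.cg_pow (S.pow_mem (h.le hu3Q) _) hψu r.val)
        show autFun ψ k' * ze (autFun ψ u₃) r * (ze (autFun ψ u₃) r)⁻¹ ∈ _
        rw [mul_inv_cancel_right, d.lev_top]
        rw [d.lev_top] at hk'
        obtain ⟨i, rfl⟩ := h.exists_ze hk'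
        rw [map_ze hm h.zS, hψz]
        exact Subgroup.pow_mem _ (h.ze_mem a) _
      have h3 := d.cg_pow (S.pow_mem (S.pow_mem (h.le hu3Q) _) _) h2 a.val
      rw [hkey] at h3
      have e1 := d.cg_nat (j := N - 3) (by omega) hu3lev ((a⁻¹ ^ (N - 2)).val * r.val * a.val)
      rw [Nat.cast_mul, Nat.cast_mul, ZMod.natCast_zmod_val, ZMod.natCast_zmod_val, ZMod.natCast_zmod_val,
        pow_mul, pow_mul] at e1
      have haN2 : a⁻¹ ^ (N - 2) = a * a := by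
        rw [inv_pow]
        refine inv_eq_of_mul_eq_one_right ?_
        rw [← pow_two, ← pow_add, show N - 2 + 2 = N by omega, haN]
      rw [show N - 3 + 1 = N - 2 by omega, haN2] at e1
      rw [haN2] at h3
      have h4 : Cg S Q (N - 2) (ze u₃ r) (ze u₃ (a * a * r * a)) := by
        refine d.cg_trans ?_ (d.cg_trans h3 e1)
        show ze u₃ r * (u * t * u⁻¹)⁻¹ ∈ _
        have := Subgroup.inv_mem _ h1
        rwa [mul_inv_rev, inv_inv] at this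
      by_contra hr0
      have h5 : ze u₃ (r - a * a * r * a) ∈ lev S Q (N - 3 + 1) := by
        have e2 := d.cg_nat (j := N - 3) (by omega) hu3lev ((r - a * a * r * a).val + (a * a * r * a).val)
        rw [Nat.cast_add, ZMod.natCast_zmod_val, ZMod.natCast_zmod_val, sub_add_cancel, pow_add] at e2
        rw [show N - 3 + 1 = N - 2 by omega] at e2 ⊢
        have := d.cg_trans e2 h4
        show u₃ ^ (r - a * a * r * a).val ∈ _
        change u₃ ^ (r - a * a * r * a).val * u₃ ^ (a * a * r * a).val * (u₃ ^ (a * a * r * a).val)⁻¹ ∈ _ at this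
        rwa [mul_inv_cancel_right] at this
      have h6 := d.ze_lev_zero (show N - 3 ≤ N - 2 by omega) hu3lev hu3not h5
      refine ha3 (mul_left_cancel₀ hr0 ?_)
      linear_combination -h6
    rw [hr0, ze_zero_of] at hr
    have htc : t ∈ cen Q := by
      have : t * (1 : Ω)⁻¹ ∈ lev S Q (N - 2) := hr
      rwa [inv_one, mul_one, d.lev_top] at this
    obtain ⟨m, hm'⟩ := h.exists_ze htc
    rw [h.conj_cen (h.le hu) htc, ← hm', map_ze hm h.zS, hψz] at hkey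
    change (ze z a ^ m.val) ^ a.val = ze z m at hkey
    rw [h.ze_pow, h.ze_pow, ZMod.natCast_zmod_val, ZMod.natCast_zmod_val] at hkey
    have e' := h.ze_inj hkey
    have : (a * a - 1) * m = 0 := by linear_combination e'
    rw [← hm', (mul_eq_zero.1 this).resolve_left (sub_ne_zero.2 ha2), h.ze_zero]
  obtain ⟨k, q, hq, rfl⟩ := h.exists_decomp hxS d.ess.notQ hs
  by_cases hk : (p : ℤ) ∣ k
  · obtain ⟨l, rfl⟩ := hk
    rw [zpow_mul, zpow_natCast, d.ess.xp h, one_zpow, mul_one]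
    exact hQexp q hq
  · obtain ⟨e, he⟩ : ∃ e, q * x ^ k = e := ⟨_, rfl⟩
    rw [he]
    have he' : e ∈ lp S Q x 0 := by rw [d.lp_zero, ← he]; exact hs
    obtain ⟨q₁, hq₁, t, ht⟩ := d.mem_lp.1 he'
    have hq₁Q := d.lev_le 0 hq₁
    have ht0 : t ≠ 0 := by
      intro e0
      rw [e0, ze_zero_of, mul_one] at ht
      refine hk ?_
      by_contra hndvd
      exact d.ess.notQ (h.not_mem_of_pow (d.ess.xp h) hndvd (by
        have := Q.mul_mem (Q.inv_mem hq) (show q * x ^ k ∈ Q from he.symm ▸ ht.symm ▸ hq₁Q)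
        rwa [inv_mul_cancel_left] at this))
    obtain ⟨q₂, hq₂, e2⟩ := d.pow_form hq₁ t (t⁻¹).val
    rw [ZMod.natCast_zmod_val, inv_mul_cancel₀ ht0, ze_one_of, ← ht] at e2
    have hq₂Q := d.lev_le 0 hq₂
    obtain ⟨c, hc⟩ := d.lev_decomp (j := 0) (by omega) (d.lev_zero hv) hv' hq₂
    have hpow : (e ^ (t⁻¹).val) ^ p = 1 := by
      obtain ⟨u, hu, hue⟩ := hinv (show ze v c ∈ Q from Q.pow_mem hv _) hc
      rw [e2, show q₂ * x = q₂ * (ze v c)⁻¹ * ze v c * x by rw [inv_mul_cancel_right], hue, hzero, mul_one,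
        mul_inv_cancel]
    obtain ⟨q₃, hq₃, e3⟩ := d.pow_form hq₁ t p
    rw [ZMod.natCast_self, zero_mul, ze_zero_of, mul_one, ← ht] at e3
    rw [← pow_mul, mul_comm, pow_mul] at hpow
    exact Subgroup.mem_bot.1 (mem_of_ze_mem (X := (⊥ : Subgroup Ω)) (e := e ^ p) (i := t⁻¹)
      (hQexp _ (e3 ▸ d.lev_le 0 hq₃)) (inv_ne_zero ht0) (Subgroup.mem_bot.2 hpow))

/-- For `p = 7` the group has the second shape. -/
theorem seven (h7 : p = 7) : G2Shape S p := by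
  haveI := h.neZero
  have hN := d.six_le
  have hN6 : N = 6 := by have := d.index_eq hv hv'; omega
  subst hN6
  have hxS := d.ess.xS h
  obtain ⟨m, hm0, hlast⟩ := d.vs_last hv hv'
  obtain ⟨v₁, hv₁⟩ : ∃ a, vs x v 1 = a := ⟨_, rfl⟩
  obtain ⟨v₂, hv₂⟩ : ∃ a, vs x v 2 = a := ⟨_, rfl⟩
  obtain ⟨v₃, hv₃⟩ : ∃ a, vs x v 3 = a := ⟨_, rfl⟩
  have q₁ : v₁ ∈ Q := hv₁ ▸ d.vs_Q hv hv' 1
  have q₂ : v₂ ∈ Q := hv₂ ▸ d.vs_Q hv hv' 2
  have q₃ : v₃ ∈ Q := hv₃ ▸ d.vs_Q hv hv' 3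
  have e₁ : ⁅x, v⁆ = v₁ := hv₁
  have e₂ : ⁅x, v₁⁆ = v₂ := by rw [← hv₁]; exact hv₂
  have e₃ : ⁅x, v₂⁆ = v₃ := by rw [← hv₂]; exact hv₃
  have e₄ : ⁅x, v₃⁆ = ze z m := by rw [← hv₃]; exact hlast
  have hc : cc p z v v₃ ≠ 0 := hv₃ ▸ d.vs_pair hv hv'
  set c := cc p z v v₃
  set j := -m / c
  have hvj : ze v j ∈ Q := Q.pow_mem hv _
  set X := x * ze v j
  have hXS : X ∈ S := S.mul_mem hxS (h.le hvj)
  have hXQ : X ∉ Q := fun hX => d.ess.notQ (by
    have := Q.mul_mem hX (Q.inv_mem hvj)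
    rwa [mul_inv_cancel_right] at this)
  have hX : ∀ {q : Ω}, q ∈ Q → ⁅X, q⁆ = ze z (j * cc p z v q) * ⁅x, q⁆ := fun {q} hq => by
    rw [comm_mul_left, ← h.cc_spec hvj hq, h.cc_ze_pow_left hv hq, h.conj_cen hxS (h.ze_mem _)]
  have f₀ : ⁅X, v⁆ = v₁ := by rw [hX hv, h.cc_self hv, mul_zero, h.ze_zero, one_mul, e₁]
  set w₂ := ze z (j * cc p z v v₁) * v₂
  have f₁ : ⁅X, v₁⁆ = w₂ := by rw [hX q₁, e₂]
  have hzc : ∀ i : ZMod p, ⁅X, ze z i⁆ = 1 := fun i => h.comm_cen hXS (h.ze_mem i)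
  set w₃ := ze z (j * cc p z v v₂) * v₃
  have f₂ : ⁅X, w₂⁆ = w₃ := by
    have hw : ze z (j * cc p z v v₂) * v₃ ∈ Q := Q.mul_mem (h.ze_Q _) q₃
    rw [comm_mul_right, hzc, one_mul, hX q₂, e₃]
    exact mul_inv_eq_iff_eq_mul.2 (h.ze_comm _ (h.le hw)).symm.eq
  have f₃ : Commute X w₃ := by
    rw [← commutatorElement_eq_one_iff_commute, comm_mul_right, hzc, one_mul, hX q₃, e₄, h.ze_add]
    have : j * c + m = 0 := by simp only [j]; field_simp; ring
    rw [show j * cc p z v v₃ + m = 0 from this, h.ze_zero, mul_one, mul_inv_cancel]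
  have qw₂ : w₂ ∈ Q := Q.mul_mem (h.ze_Q _) q₂
  have qw₃ : w₃ ∈ Q := Q.mul_mem (h.ze_Q _) q₃
  have hcw₃ : cc p z v w₃ = c := by
    rw [h.cc_mul_right hv (h.ze_Q _) q₃, h.cc_ze_right hv, zero_add]
  have hker : w₃ ∈ h.kerSub X hXS := (h.mem_kerSub hXS).2 ⟨qw₃, by
    rw [commutatorElement_eq_one_iff_commute.2 f₃]; exact (cen Q).one_mem⟩
  have c₁₃ : cc p z v₁ w₃ = 0 := h.cc_im_ker hXS (f₀ ▸ h.comm_mem_imSub hXS hv) hker
  have c₂₃ : cc p z w₂ w₃ = 0 := h.cc_im_ker hXS (f₁ ▸ h.comm_mem_imSub hXS q₁) hker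
  have c₁₂ : cc p z v₁ w₂ = -c := by
    have := h.invariance hXS hv qw₂
    rw [f₀, f₂, hcw₃, c₁₃, add_zero] at this
    exact eq_neg_of_add_eq_zero_left this
  set s := -(cc p z v v₁) / (2 * c)
  have hs : (2 * c) * s = -(cc p z v v₁) := mul_div_cancel₀ _ (mul_ne_zero h.two_ne_zero' hc)
  have hsQ : ze w₂ s ∈ Q := Q.pow_mem qw₂ _
  have hs3Q : ze w₃ s ∈ Q := Q.pow_mem qw₃ _
  have hw23 : Commute w₃ w₂ := ((h.cc_eq_zero qw₂ qw₃).1 c₂₃).symm
  have g₀ : ⁅X, v * ze w₂ s⁆ = v₁ * (v * ze w₃ s * v⁻¹) := by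
    rw [comm_mul_right, f₀, ze, comm_pow_right (by rw [f₂]; exact hw23), f₂]
    rfl
  have g₁ : ⁅X, v₁ * (v * ze w₃ s * v⁻¹)⁆ = w₂ := by
    rw [show v * ze w₃ s * v⁻¹ = ⁅v, ze w₃ s⁆ * ze w₃ s by rw [commutatorElement_def]; group]
    have hz1 : Commute X ⁅v, ze w₃ s⁆ := h.z_central (h.comm_mem hv hs3Q) hXS
    rw [comm_mul_right, f₁,
      show ⁅X, ⁅v, ze w₃ s⁆ * ze w₃ s⁆ = 1 from
        commutatorElement_eq_one_iff_commute.2 (hz1.mul_right (f₃.pow_right _)),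
      mul_one, mul_inv_cancel, mul_one]
  refine h.g2_shape (by omega) (by rw [d.card_Q']) hXS hXQ
    (d.exponent hv hv' X hXS) (fun q hq => d.exponent hv hv' q (h.le hq)) (Q.mul_mem hv hsQ)
    g₀ g₁ f₂ f₃ hc ?_ ?_
  · have hq : v * ze w₃ s * v⁻¹ ∈ Q := Q.mul_mem (Q.mul_mem hv hs3Q) (Q.inv_mem hv)
    rw [h.cc_mul_right (Q.mul_mem hv hsQ) q₁ hq, h.cc_conj_right (Q.mul_mem hv hsQ) hs3Q hv,
      h.cc_ze_pow_right (Q.mul_mem hv hsQ) qw₃, h.cc_mul_left hv hsQ q₁, h.cc_ze_pow_left qw₂ q₁,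
      h.cc_swap q₁ qw₂, c₁₂, h.cc_mul_left hv hsQ qw₃, h.cc_ze_pow_left qw₂ qw₃, c₂₃, hcw₃]
    linear_combination hs
  · rw [h.cc_mul_left hv hsQ qw₃, h.cc_ze_pow_left qw₂ qw₃, c₂₃, hcw₃, mul_zero, add_zero]

omit hv hv'

/-- The case of a pearl. -/
theorem pearl_case : G2Shape S p ∨
    (11 ≤ p ∧ Nat.card S = p ^ (p - 1) ∧ (∀ s ∈ S, s ^ p = 1) ∧ Group.nilpotencyClass S = p - 2) := by
  have hN := d.six_le
  obtain ⟨v, hv, hv'⟩ : ∃ v ∈ Q, v ∉ lev S Q 1 := by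
    by_contra hno
    push Not at hno
    haveI := d.finite_lev 1
    have h1 := Subgroup.card_le_of_le (H := Q) (K := lev S Q 1) hno
    rw [d.card_Q', d.lev_card (by omega)] at h1
    have := (Nat.pow_le_pow_iff_right hp.out.one_lt).1 h1
    omega
  have hp1 := d.index_eq hv hv'
  by_cases h7 : p = 7
  · exact Or.inl (d.seven hv hv' h7)
  · refine Or.inr ⟨?_, ?_, d.exponent hv hv', ?_⟩
    · by_contra hlt
      have h' := hp.out
      interval_cases p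
      all_goals first
        | omega
        | exact absurd h' (by norm_num)
    · rw [d.card]; congr 1; omega
    · rw [d.cls]; omega

end Pl

end Cfsg.Lib.Fusion.ExIdxP
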