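import Cfsg.Agent.Fusion.ExIdxP.QuadricForm
import Cfsg.Agent.Fusion.ExIdxP.Shapes
import Cfsg.Agent.Fusion.ExIdxP.Torus

/-!
The elliptic quadric gives exponent `p` and the unitary shape.
-/

set_option autoImplicit false
set_option linter.style.haveILetI false
set_option linter.unusedSectionVars false

namespace Cfsg.Lib.Fusion.ExIdxP

open Cfsg Cfsg.FusionSystem Cfsg.Lib.Fusion Cfsg.Lib.Fusion.ExtraspecialIndex
open scoped commutatorElement

universe u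

variable {Ω : Type u} [Group Ω] {S : Subgroup Ω} {F : FusionSystem S} {p : ℕ}

/-- An orthogonal pair spanning `Q` modulo `A`. -/
structure Frame (S : Subgroup Ω) (p : ℕ) [Fact p.Prime] (Q : Subgroup Ω) (z x k k' : Ω) : Prop where
  kQ : k ∈ Q
  kQ' : k' ∈ Q
  kA : k ∉ Aq S Q x
  kA' : k' ∉ Aq S Q x
  orth : bb p z x k k' = 0
  b0 : bb p z x k k ≠ 0
  b0' : bb p z x k' k' ≠ 0
  perp : ∀ r ∈ Q, bb p z x k r = 0 → bb p z x k' r = 0 → r ∈ Aq S Q x
  card : Nat.card Q = p ^ 5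

namespace Quad

variable [Finite S] [hp : Fact p.Prime] {Q : Subgroup Ω} {z x : Ω} {h : Setup F p Q z}
  (d : Quad F p Q z x h)
include d

theorem exists_mover' : ∃ γ ∈ F.autGroup (cS S x), autFun γ z = x := d.ess.moved

theorem anis {q : Ω} (hq : q ∈ Q) (hqA : q ∉ Aq S Q x) : bb p z x q q ≠ 0 := by
  obtain ⟨γ, hγ, hγz⟩ := d.exists_mover'
  exact (d.key hγ hγz hq hqA).1

theorem exists_notA : ∃ k ∈ Q, k ∉ Aq S Q x := by
  by_contra hno
  push Not at hno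
  obtain ⟨a, ha, b, hb, hab⟩ := h.nonab_cQ Q.one_mem
  exact hab (commutatorElement_eq_one_iff_commute.2 (d.comm (hno a ha.1).2 (hno b hb.1).2))

theorem exists_frame : ∃ k k', Frame S p Q z x k k' := by
  haveI := h.finite_Q
  haveI := h.neZero
  obtain ⟨k, hk, hkA⟩ := d.exists_notA
  have hb := d.anis hk hkA
  set A := Aq S Q x
  haveI : Finite A := finite_of_le (inf_le_left.trans h.le)
  have hA2 : Nat.card A * Nat.card A ≤ p * Nat.card Q :=
    h.card_abelian (A := A) inf_le_left fun a ha b hb => (d.comm ha.2 hb.2).eq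
  have hstep : ∀ {k : Ω}, k ∈ Q → ∀ (P : Subgroup Ω), P ≤ Q →
      Nat.card P ≤ p * Nat.card (P ⊓ Subgroup.centralizer {hh p z x k} : Subgroup Ω) :=
    fun hk P hP => h.card_le_centralizer (hP.trans h.le) _ fun y hy => h.comm_Q (d.hh_mem hk).1 (hP hy)
  have hperp : ∀ {k r : Ω}, k ∈ Q → r ∈ Q → r * hh p z x k = hh p z x k * r → bb p z x k r = 0 :=
    fun hk hr e => by rw [d.bb_symm hk hr, ← d.cc_hh hr hk]; exact (h.cc_eq_zero hr (d.hh_mem hk).1).2 e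
  obtain ⟨k', hk', hkA', horth⟩ : ∃ k' ∈ Q, k' ∉ A ∧ bb p z x k k' = 0 := by
    by_contra hno
    push Not at hno
    have h1 : Nat.card Q ≤ p * Nat.card A := (hstep hk Q le_rfl).trans (Nat.mul_le_mul le_rfl
      (Subgroup.card_le_of_le fun r hr => by
        by_contra hrA
        exact hno r hr.1 hrA (hperp hk hr.1 (Subgroup.mem_centralizer_singleton_iff.1 hr.2))))
    have h2 : Nat.card Q * Nat.card Q ≤ p ^ 3 * Nat.card Q :=
      (Nat.mul_le_mul h1 h1).trans (le_of_eq_of_le (by ring : _ = p ^ 2 * (Nat.card A * Nat.card A))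
        ((Nat.mul_le_mul le_rfl hA2).trans (le_of_eq (by ring))))
    exact absurd (h.big.trans (Nat.le_of_mul_le_mul_right h2 Nat.card_pos))
      (not_le.mpr (Nat.pow_lt_pow_right hp.out.one_lt (by norm_num)))
  have hb' := d.anis hk' hkA'
  have hthree : ∀ r ∈ Q, bb p z x k r = 0 → bb p z x k' r = 0 → r ∈ A := by
    intro r hr h1 h2
    by_contra hrA
    have hr0 := d.anis hr hrA
    obtain ⟨a, b, hab⟩ := exists_two_squares h.odd hb hb' (-(bb p z x r r))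
    have hka : ze k a ∈ Q := Q.pow_mem hk _
    have hkb : ze k' b ∈ Q := Q.pow_mem hk' _
    have hkab := Q.mul_mem hka hkb
    have hq := Q.mul_mem hkab hr
    refine d.anis hq (fun hA => hr0 ?_) ?_
    · have e := d.bb_A_right hA hr
      rw [d.bb_mul_right hkab hr hr, d.bb_mul_right hka hkb hr, d.bb_ze_right hk hr, d.bb_ze_right hk' hr,
        d.bb_symm hr hk, d.bb_symm hr hk', h1, h2, mul_zero, mul_zero, zero_add, zero_add] at e
      exact e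
    · rw [d.bb_mul_left hkab hr hq, d.bb_mul_left hka hkb hq,
        d.bb_ze_left hk hq, d.bb_ze_left hk' hq, d.bb_mul_right hkab hr hk, d.bb_mul_right hka hkb hk,
        d.bb_mul_right hkab hr hk', d.bb_mul_right hka hkb hk', d.bb_mul_right hkab hr hr,
        d.bb_mul_right hka hkb hr, d.bb_ze_right hk hk, d.bb_ze_right hk' hk, d.bb_ze_right hk hk',
        d.bb_ze_right hk' hk', d.bb_ze_right hk hr, d.bb_ze_right hk' hr,
        d.bb_symm hr hk, d.bb_symm hr hk', d.bb_symm hk' hk, h1, h2, horth]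
      linear_combination hab
  refine ⟨k, k', hk, hk', hkA, hkA', horth, hb, hb', hthree, le_antisymm ?_ h.big⟩
  set P := Q ⊓ Subgroup.centralizer ({hh p z x k} : Set Ω)
  haveI : Finite P := finite_of_le (inf_le_left.trans h.le)
  have h1 : Nat.card Q ≤ p * (p * Nat.card A) :=
    (hstep hk Q le_rfl).trans (Nat.mul_le_mul le_rfl ((hstep hk' P inf_le_left).trans
      (Nat.mul_le_mul le_rfl (Subgroup.card_le_of_le fun r hr => hthree r hr.1.1
        (hperp hk hr.1.1 (Subgroup.mem_centralizer_singleton_iff.1 hr.1.2))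
        (hperp hk' hr.1.1 (Subgroup.mem_centralizer_singleton_iff.1 hr.2))))))
  refine Nat.le_of_mul_le_mul_right ?_ (Nat.card_pos (α := Q))
  calc Nat.card Q * Nat.card Q ≤ p * (p * Nat.card A) * (p * (p * Nat.card A)) := Nat.mul_le_mul h1 h1
    _ = p ^ 4 * (Nat.card A * Nat.card A) := by ring
    _ ≤ p ^ 4 * (p * Nat.card Q) := Nat.mul_le_mul le_rfl hA2
    _ = p ^ 5 * Nat.card Q := by ring

variable {k k' : Ω} (fr : Frame S p Q z x k k')
include fr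

theorem ln_base {m : ZMod p} (hl : Ln F p z x (pt p z x 1 1 m)) : m = 0 := by
  by_contra hm
  obtain ⟨γ, hγ, hγz⟩ := d.exists_mover'
  obtain ⟨a, b, hab⟩ := exists_two_squares h.odd fr.b0 fr.b0' (-(2 * m))
  have hka : ze k a ∈ Q := Q.pow_mem fr.kQ _
  have hkb : ze k' b ∈ Q := Q.pow_mem fr.kQ' _
  set q := ze k a * ze k' b
  have hq : q ∈ Q := Q.mul_mem hka hkb
  have hbq : bb p z x q q = -(2 * m) := by
    rw [d.bb_mul_left hka hkb hq, d.bb_ze_left fr.kQ hq, d.bb_ze_left fr.kQ' hq, d.bb_mul_right hka hkb fr.kQ,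
      d.bb_mul_right hka hkb fr.kQ', d.bb_ze_right fr.kQ fr.kQ, d.bb_ze_right fr.kQ' fr.kQ,
      d.bb_ze_right fr.kQ fr.kQ', d.bb_ze_right fr.kQ' fr.kQ', d.bb_symm fr.kQ' fr.kQ, fr.orth]
    linear_combination hab
  have hqA : q ∉ Aq S Q x := fun hA => by
    rw [d.bb_A_left hA hq] at hbq
    exact hm ((mul_eq_zero.1 (neg_eq_zero.1 hbq.symm)).resolve_left h.two_ne_zero')
  have hU := (d.key hγ hγz hq hqA).2
  have hl' : Ln F p z x (pt p z x 1 q 0) := by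
    rw [d.ln_shift hq, hbq]
    convert hl using 2
    field_simp [h.two_ne_zero']
    ring
  have hγi : γ⁻¹ ∈ F.autGroup (cS S x) := Subgroup.inv_mem _ hγ
  have hm' : IsMap F (cS S x) (autFun γ⁻¹) := (isMap_autFun (cS_le x)).2 hγi
  have e : pt p z x 1 q 0 = x * pt p z x 0 q 0 := by rw [d.x_mul_pt hq, add_zero]
  have hxz : autFun γ⁻¹ x = z := by
    have e1 := congrArg (autFun γ⁻¹) hγz
    rw [← autFun_mul _ _ d.zE, inv_mul_cancel, autFun_one d.zE] at e1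
    exact e1.symm
  have hA : autFun γ⁻¹ (pt p z x 1 q 0) ∈ Aq S Q x := by
    rw [e, hm'.map_mul d.xE (d.pt_mem _ hq _), hxz]
    exact (Aq S Q x).mul_mem (d.cen_A h.zmem) hU
  obtain ⟨i, hi⟩ := h.exists_ze (d.ln_cen (d.ln_map hγi (d.pt_mem _ hq _) hl') hA)
  have e2 : ze x i = pt p z x 1 q 0 := by
    refine (congrArg (fun w => ze w i) hγz).symm.trans ?_
    rw [← map_ze ((isMap_autFun (cS_le x)).2 hγ) d.zE, hi, ← autFun_mul _ _ (d.pt_mem _ hq _),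
      mul_inv_cancel, autFun_one (d.pt_mem _ hq _)]
  rw [d.ze_x_pt] at e2
  obtain ⟨-, hA', -⟩ := d.pt_inj Q.one_mem hq e2
  rw [one_mul] at hA'
  exact hqA (inv_mem_iff.1 hA')

theorem null {t c : ZMod p} {q : Ω} (hq : q ∈ Q) (hl : Ln F p z x (pt p z x t q c)) :
    2 * t * c = bb p z x q q := by
  by_cases ht : t = 0
  · subst ht
    obtain ⟨i, hi⟩ := h.exists_ze (d.ln_cen hl (d.pt_mem_A hq c))
    rw [d.ze_z_pt] at hi
    obtain ⟨-, hA, -⟩ := d.pt_inj Q.one_mem hq hi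
    rw [one_mul] at hA
    rw [d.bb_A_left (inv_mem_iff.1 hA) hq, mul_zero, zero_mul]
  · have hl' := d.ln_ze (d.pt_mem _ hq _) hl (inv_ne_zero ht)
    have hqt : ze q t⁻¹ ∈ Q := Q.pow_mem hq _
    rw [d.pt_ze _ hq, inv_mul_cancel₀ ht, d.ln_shift hqt, d.bb_ze_left hq hqt, d.bb_ze_right hq hq] at hl'
    have e := d.ln_base fr hl'
    have h2 := h.two_ne_zero'
    field_simp at e
    linear_combination e

theorem exists_s {k₀ : Ω} (hk₀ : k₀ ∈ Q) (hk₀A : k₀ ∉ Aq S Q x) : ∃ α ∈ F.autGroup (cS S x),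
    ∀ t : ZMod p, ∀ q ∈ Q, ∀ c : ZMod p, autFun α (pt p z x t q c) =
      pt p z x (t + bb p z x k₀ q + c * bb p z x k₀ k₀ / 2) (q * ze k₀ c) c := by
  haveI := h.neZero
  obtain ⟨γ, hγ, hγz⟩ := d.exists_mover'
  have hγi : γ⁻¹ ∈ F.autGroup (cS S x) := Subgroup.inv_mem _ hγ
  have hmi : IsMap F (cS S x) (autFun γ⁻¹) := (isMap_autFun (cS_le x)).2 hγi
  have hmγ : IsMap F (cS S x) (autFun γ) := (isMap_autFun (cS_le x)).2 hγ
  have hinv : ∀ {w : Ω}, w ∈ cS S x → autFun γ (autFun γ⁻¹ w) = w := fun {w} hw => by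
    rw [← autFun_mul _ _ hw, mul_inv_cancel, autFun_one hw]
  have hxz : autFun γ⁻¹ x = z := by
    have e1 := congrArg (autFun γ⁻¹) hγz
    rw [← autFun_mul _ _ d.zE, inv_mul_cancel, autFun_one d.zE] at e1
    exact e1.symm
  set b := bb p z x k₀ k₀
  have hb : b ≠ 0 := d.anis hk₀ hk₀A
  -- the hyperplane
  have hU : ∀ t : ZMod p, ∀ q ∈ Q, autFun γ⁻¹ (pt p z x t q 0) ∈ Aq S Q x := by
    intro t q hq
    have e : pt p z x t q 0 = pt p z x t 1 0 * pt p z x 0 q 0 := by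
      rw [d.pt_mul _ _ Q.one_mem hq, add_zero, one_mul, add_zero]
    rw [e, hmi.map_mul (d.pt_mem _ Q.one_mem _) (d.pt_mem _ hq _), ← d.ze_x_pt, map_ze hmi d.xE, hxz]
    refine (Aq S Q x).mul_mem (d.cen_A (h.ze_mem t)) ?_
    by_cases hqA : q ∈ Aq S Q x
    · rw [pt, ze_zero_of, d.hh_A hqA, one_mul, one_mul, h.ze_zero, hmi.map_one]
      exact one_mem _
    · exact (d.key hγ hγz hq hqA).2
  have hzA : autFun γ⁻¹ z ∉ Aq S Q x := by
    intro hA
    obtain ⟨i, hi⟩ := h.exists_ze (d.ln_cen (d.ln_map hγi d.zE (d.ln_orb (d.ess.orb_self h))) hA)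
    have e : z = ze x i := by rw [← hinv d.zE, ← hi, map_ze hmγ d.zE, hγz]
    have h0 := d.ess.ex_Q h h.zQ
    rw [e, d.ess.ex_ze h d.xE, d.ess.ex_x h, mul_one] at h0
    exact h.z1 (by rw [e, h0, ze_zero_of])
  have hUc : ∀ t : ZMod p, ∀ q ∈ Q, ∀ c : ZMod p, autFun γ⁻¹ (pt p z x t q c) ∈ Aq S Q x → c = 0 := by
    intro t q hq c hc
    have e : pt p z x t q c = pt p z x t q 0 * ze z c := by rw [pt, pt, h.ze_zero, mul_one]
    rw [e, hmi.map_mul (d.pt_mem _ hq _) (ze_in d.zE c), Subgroup.mul_mem_cancel_left _ (hU t q hq),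
      map_ze hmi d.zE] at hc
    by_contra hc0
    exact hzA (mem_of_ze_mem (d.E_pow (autFun_mem _ d.zE)) hc0 hc)
  -- the target line
  set q₁ := ze k₀ (2 / b)
  have hq₁ : q₁ ∈ Q := Q.pow_mem hk₀ _
  have h2b : b / 2 ≠ 0 := div_ne_zero hb h.two_ne_zero'
  have hN : Ln F p z x (pt p z x (b / 2) k₀ 1) := by
    have hl := d.ln_ze (d.pt_mem _ hq₁ _) (d.ln_point hq₁) h2b
    have h2 := h.two_ne_zero'
    rw [d.pt_ze _ hq₁, mul_one, d.bb_ze_left hk₀ hq₁, d.bb_ze_right hk₀ hk₀,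
      d.pt_congr hk₀ (q' := k₀) ?_] at hl
    · convert hl using 2
      show (1 : ZMod p) = b / 2 * (2 / b * (2 / b * b) / 2)
      field_simp
    · have e := d.ze_ze hk₀ (2 / b) (b / 2)
      rwa [show b / 2 * (2 / b) = 1 by field_simp, ze_one_of] at e
  set N := pt p z x (b / 2) k₀ 1
  have hNE : N ∈ cS S x := d.pt_mem _ hk₀ _
  have hpoint : ∀ {w : Ω}, w ∈ cS S x → Ln F p z x w → autFun γ⁻¹ w ∉ Aq S Q x →
      ∃ q ∈ Q, ∃ t : ZMod p, t ≠ 0 ∧ autFun γ⁻¹ w = ze (q * x * q⁻¹) t := by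
    intro w hw hl hwA
    obtain ⟨r, hr, c, he⟩ := d.exists_pt (autFun_mem γ⁻¹ hw)
    obtain ⟨t, ht⟩ : ∃ t, ex p Q x (autFun γ⁻¹ w) = t := ⟨_, rfl⟩
    rw [ht] at he
    have ht0 : t ≠ 0 := fun e => hwA (by rw [he, e]; exact d.pt_mem_A hr c)
    have hl' := d.ln_map hγi hw hl
    rw [he] at hl'
    have hn := d.null fr hr hl'
    have hrt : ze r t⁻¹ ∈ Q := Q.pow_mem hr _
    refine ⟨ze r t⁻¹, hrt, t, ht0, ?_⟩
    have hx : ze r t⁻¹ * x * (ze r t⁻¹)⁻¹ = ze r t⁻¹ * pt p z x 1 1 0 * (ze r t⁻¹)⁻¹ := by rw [d.pt_x']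
    rw [hx, d.conj_pt hrt Q.one_mem, ze_one_of, mul_one, d.bb_A_right (Subgroup.one_mem _) hrt, add_zero,
      zero_add, one_mul, d.pt_ze _ hrt, mul_one, d.bb_ze_left hr hrt, d.bb_ze_right hr hr, he]
    have e2 : ze (ze r t⁻¹) t * r⁻¹ ∈ Aq S Q x := by
      have e := d.ze_ze hr t⁻¹ t
      rwa [mul_inv_cancel₀ ht0, ze_one_of] at e
    rw [d.pt_congr hr e2]
    congr 1
    have h2 := h.two_ne_zero'
    field_simp
    linear_combination hn
  obtain ⟨a₁, ha₁, t₁, ht₁, e₁⟩ := hpoint d.zE (d.ln_orb (d.ess.orb_self h)) hzA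
  obtain ⟨a₂, ha₂, t₂, ht₂, e₂⟩ := hpoint hNE hN fun hA => one_ne_zero (hUc _ k₀ hk₀ 1 hA)
  set r := a₂ * a₁⁻¹
  have hr : r ∈ Q := Q.mul_mem ha₂ (Q.inv_mem ha₁)
  set C := conjAut (cS S x) r (d.norm r hr)
  have hC : ∀ {w : Ω}, w ∈ cS S x → autFun C w = r * w * r⁻¹ := fun hw => by
    rw [autFun_apply_mem _ hw, conjAut_apply]
  set α := γ * C * γ⁻¹
  have hαG : α ∈ F.autGroup (cS S x) := Subgroup.mul_mem _ (Subgroup.mul_mem _ hγ (d.conj_aut hr)) hγi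
  have hmα : IsMap F (cS S x) (autFun α) := (isMap_autFun (cS_le x)).2 hαG
  have hα : ∀ {w : Ω}, w ∈ cS S x → autFun α w = autFun γ (r * autFun γ⁻¹ w * r⁻¹) := fun {w} hw => by
    rw [autFun_mul _ _ hw, autFun_mul _ _ (autFun_mem _ hw), hC (autFun_mem _ hw)]
  have hαx : autFun α x = x := by
    rw [hα d.xE, hxz, h.conj_cen (h.le hr) h.zmem, hγz]
  obtain ⟨i, hαz⟩ : ∃ i : ZMod p, autFun α z = ze N i := by
    refine ⟨t₁ * t₂⁻¹, ?_⟩
    rw [hα d.zE, e₁]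
    have e3 : r * ze (a₁ * x * a₁⁻¹) t₁ * r⁻¹ = ze (a₂ * x * a₂⁻¹) t₁ := by
      unfold ze
      rw [← conj_pow, show r * (a₁ * x * a₁⁻¹) * r⁻¹ = a₂ * x * a₂⁻¹ by simp only [r]; group]
    have e4 : ze (a₂ * x * a₂⁻¹) t₁ = ze (autFun γ⁻¹ N) (t₁ * t₂⁻¹) := by
      rw [e₂]
      show _ = ze (a₂ * x * a₂⁻¹) t₂ ^ (t₁ * t₂⁻¹).val
      rw [ze_pow_of (d.E_pow (d.conj_mem ha₂ d.xE)), ZMod.natCast_zmod_val, inv_mul_cancel_right₀ ht₂]
    rw [e3, e4, map_ze hmγ (autFun_mem _ hNE), hinv hNE]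
  have hdiff : ∀ {e : Ω}, e ∈ cS S x → r * e * r⁻¹ * e⁻¹ ∈ Aq S Q x := by
    intro e he
    obtain ⟨u, hu, c, hec⟩ := d.exists_pt he
    rw [hec]
    set t := ex p Q x e
    have hrt : ze r t ∈ Q := Q.pow_mem hr _
    have hsol : r * pt p z x t u c * r⁻¹ =
        pt p z x 0 (ze r t) (bb p z x r u + t * (bb p z x r r / 2)) * pt p z x t u c := by
      rw [d.conj_pt hr hu, d.pt_mul _ _ hrt hu, zero_add]
      congr 1
      ring
    rw [hsol, mul_inv_cancel_right]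
    exact d.pt_mem_A hrt _
  have hi1 : i = 1 := by
    have h1 : autFun γ⁻¹ (ze N i * z⁻¹) ∈ Aq S Q x := by
      rw [← hαz, hmi.map_mul (autFun_mem _ d.zE) ((cS S x).inv_mem d.zE), hmi.map_inv d.zE, hα d.zE,
        ← autFun_mul _ _ (d.conj_mem hr (autFun_mem _ d.zE)), inv_mul_cancel,
        autFun_one (d.conj_mem hr (autFun_mem _ d.zE))]
      exact hdiff (autFun_mem _ d.zE)
    rw [d.pt_ze _ hk₀, show z⁻¹ = ze z (-1 : ZMod p) by rw [h.ze_neg, h.ze_one], d.ze_z_pt,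
      d.pt_mul _ _ (show ze k₀ i ∈ Q from Q.pow_mem hk₀ _) Q.one_mem, mul_one, mul_one] at h1
    exact sub_eq_zero.1 (sub_eq_add_neg i 1 ▸ hUc _ _ (Q.pow_mem hk₀ _) _ h1)
  rw [hi1, ze_one_of] at hαz
  have hφ : ∀ q ∈ Q, autFun α (pt p z x 0 q 0) = pt p z x (bb p z x k₀ q) q 0 := by
    intro q hq
    have huE := d.pt_mem (0 : ZMod p) hq 0
    by_cases hqA : q ∈ Aq S Q x
    · have e : ∀ t : ZMod p, pt p z x t q 0 = pt p z x t 1 0 := fun t =>
        d.pt_congr Q.one_mem (by rw [inv_one, mul_one]; exact hqA) 0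
      rw [e, e, d.pt_zero, hmα.map_one, d.bb_A_right hqA hk₀, d.pt_zero]
    obtain ⟨φ, hφ⟩ : ∃ φ : ZMod p, autFun α (pt p z x 0 q 0) = pt p z x φ q 0 := by
      have hmem : r * autFun γ⁻¹ (pt p z x 0 q 0) * r⁻¹ * (autFun γ⁻¹ (pt p z x 0 q 0))⁻¹ ∈ cen Q := by
        have := h.comm_mem hr (hU 0 q hq).1
        rwa [commutatorElement_def] at this
      obtain ⟨φ, hφ'⟩ := h.exists_ze hmem
      refine ⟨φ, ?_⟩
      rw [hα huE, eq_mul_of_mul_inv_eq hφ'.symm, hmγ.map_mul (ze_in d.zE φ) (autFun_mem _ huE),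
        map_ze hmγ d.zE, hγz, hinv huE, d.ze_x_pt, d.pt_mul _ _ Q.one_mem hq, one_mul, add_zero, add_zero]
    rw [hφ]
    congr 1
    set β := bb p z x q q
    have hkβ : ze k₀ (β / 2) ∈ Q := Q.pow_mem hk₀ _
    have e : pt p z x 1 q (β / 2) = x * pt p z x 0 q 0 * ze z (β / 2) := by
      rw [d.x_mul_pt hq, d.ze_z_pt, d.pt_mul _ _ hq Q.one_mem, mul_one, add_zero, add_zero, zero_add]
    have hl := d.ln_map hαG (d.pt_mem _ hq _) (d.ln_point hq)
    rw [e, hmα.map_mul ((cS S x).mul_mem d.xE huE) (ze_in d.zE _), hmα.map_mul d.xE huE, hαx, hφ,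
      map_ze hmα d.zE, hαz, d.x_mul_pt hq, d.pt_ze _ hk₀, d.pt_mul _ _ hq hkβ] at hl
    have hn := d.null fr (Q.mul_mem hq hkβ) hl
    rw [d.bb_mul_left hq hkβ (Q.mul_mem hq hkβ), d.bb_mul_right hq hkβ hq, d.bb_ze_left hk₀ (Q.mul_mem hq hkβ),
      d.bb_mul_right hq hkβ hk₀, d.bb_ze_right hk₀ hq, d.bb_ze_right hk₀ hk₀, d.bb_symm hq hk₀] at hn
    have h2 := h.two_ne_zero'
    have hβ := d.anis hq hqA
    have key : (2 * 2) * (β * (φ - bb p z x k₀ q)) = 0 := by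
      field_simp at hn
      linear_combination hn
    exact sub_eq_zero.1 ((mul_eq_zero.1 ((mul_eq_zero.1 key).resolve_left
      (mul_ne_zero h2 h2))).resolve_left hβ)
  refine ⟨α, hαG, fun t q hq c => ?_⟩
  have e : pt p z x t q c = ze x t * pt p z x 0 q 0 * ze z c := by
    rw [d.ze_x_pt, d.ze_z_pt, d.pt_mul _ _ Q.one_mem hq, d.pt_mul _ _ (Q.mul_mem Q.one_mem hq) Q.one_mem]
    simp only [add_zero, one_mul, mul_one, zero_add]
  have huE := d.pt_mem (0 : ZMod p) hq 0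
  rw [e, hmα.map_mul ((cS S x).mul_mem (ze_in d.xE t) huE) (ze_in d.zE c),
    hmα.map_mul (ze_in d.xE t) huE, map_ze hmα d.xE, map_ze hmα d.zE, hαx, hφ q hq, hαz, d.ze_x_pt,
    d.pt_ze _ hk₀, d.pt_mul _ _ Q.one_mem hq, d.pt_mul _ _ (Q.mul_mem Q.one_mem hq) (show ze k₀ c ∈ Q from Q.pow_mem hk₀ _)]
  rw [one_mul, mul_one, add_zero, zero_add, mul_div_assoc]

/-- The element interchanging the lines of `x` and `z`. -/
theorem exists_n {k₀ : Ω} (hk₀ : k₀ ∈ Q) (hk₀A : k₀ ∉ Aq S Q x) : ∃ α ∈ F.autGroup (cS S x),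
    ∀ t : ZMod p, ∀ q ∈ Q, ∀ c : ZMod p, autFun α (pt p z x t q c) =
      pt p z x (c * bb p z x k₀ k₀ / 2) (q * ze k₀ (-(2 * bb p z x k₀ q / bb p z x k₀ k₀)))
        (2 * t / bb p z x k₀ k₀) := by
  obtain ⟨α, hαG, hα⟩ := d.exists_s fr hk₀ hk₀A
  set b := bb p z x k₀ k₀
  have hb : b ≠ 0 := d.anis hk₀ hk₀A
  have h2 := h.two_ne_zero'
  set a := -(2 / b)
  set l := ze k₀ a
  have hl : l ∈ Q := Q.pow_mem hk₀ _
  set L := conjAut (cS S x) l (d.norm l hl)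
  refine ⟨L * α * L, Subgroup.mul_mem _ (Subgroup.mul_mem _ (d.conj_aut hl) hαG) (d.conj_aut hl),
    fun t q hq c => ?_⟩
  have hL : ∀ (t : ZMod p) (q : Ω), q ∈ Q → ∀ c : ZMod p, autFun L (pt p z x t q c) =
      pt p z x t (ze l t * q) (c + a * bb p z x k₀ q + t * (a * (a * b) / 2)) := by
    intro t q hq c
    rw [autFun_apply_mem _ (d.pt_mem _ hq _), conjAut_apply, d.conj_pt hl hq, d.bb_ze_left hk₀ hq,
      d.bb_ze_left hk₀ hl, d.bb_ze_right hk₀ hk₀]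
  set c₁ := c + a * bb p z x k₀ q + t * (a * (a * b) / 2)
  have hq₁ : ze l t * q ∈ Q := Q.mul_mem (Q.pow_mem hl _) hq
  have hB₁ : bb p z x k₀ (ze l t * q) = t * (a * b) + bb p z x k₀ q := by
    rw [d.bb_mul_right (show ze l t ∈ Q from Q.pow_mem hl _) hq hk₀, d.bb_ze_right hl hk₀, d.bb_ze_right hk₀ hk₀]
  have hq₂ : ze l t * q * ze k₀ c₁ ∈ Q := Q.mul_mem hq₁ (Q.pow_mem hk₀ _)
  have hpm := d.pt_mem t hq₁ c₁
  rw [autFun_mul _ _ (d.pt_mem _ hq _), autFun_mul _ _ (autFun_mem _ (d.pt_mem _ hq _)), hL t q hq, hα t _ hq₁,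
    hL _ _ hq₂, hB₁, d.bb_mul_right hq₁ (show ze k₀ c₁ ∈ Q from Q.pow_mem hk₀ _) hk₀, hB₁, d.bb_ze_right hk₀ hk₀]
  set T := t + (t * (a * b) + bb p z x k₀ q) + c₁ * b / 2
  have hT : T = c * b / 2 := by simp only [T, c₁, a]; field_simp; ring
  set e := -(2 * bb p z x k₀ q / b)
  have hqe : q * ze k₀ e ∈ Q := Q.mul_mem hq (Q.pow_mem hk₀ _)
  rw [d.pt_congr hqe (q' := q * ze k₀ e) ?_, hT]
  · congr 1
    simp only [c₁, a]
    field_simp
    ring
  · -- both sides agree modulo `A`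
    have hlT : ze l T ∈ Q := Q.pow_mem hl _
    have hlt : ze l t ∈ Q := Q.pow_mem hl _
    have hkc : ze k₀ c₁ ∈ Q := Q.pow_mem hk₀ _
    have hqeQ : ze k₀ e ∈ Q := Q.pow_mem hk₀ _
    have hdQ := Q.mul_mem (Q.mul_mem hlT hq₂) (Q.inv_mem hqe)
    have hh1 : hh p z x (ze l T * (ze l t * q * ze k₀ c₁)) = hh p z x (q * ze k₀ e) := by
      rw [d.hh_mul hlT hq₂, d.hh_mul hq₁ hkc, d.hh_mul hlt hq, d.hh_mul hq hqeQ, d.hh_ze hl, d.hh_ze hl,
        d.hh_ze hk₀, d.hh_ze hk₀, d.hh_ze hk₀]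
      have hu := d.A_pow (d.hh_mem hk₀)
      haveI := h.neZero
      have hzz : ∀ i j : ZMod p, ze (ze (hh p z x k₀) i) j = ze (hh p z x k₀) (j * i) := fun i j => by
        show ze (hh p z x k₀) i ^ j.val = _
        rw [ze_pow_of hu, ZMod.natCast_zmod_val]
      have hcm : ∀ i : ZMod p, Commute (hh p z x q) (ze (hh p z x k₀) i) := fun i =>
        (d.comm (d.hh_mem hq).2 (d.hh_mem hk₀).2).pow_right _
      rw [hzz, hzz]
      calc ze (hh p z x k₀) (T * a) * (ze (hh p z x k₀) (t * a) * hh p z x q * ze (hh p z x k₀) c₁)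
          = ze (hh p z x k₀) (T * a) * (hh p z x q * ze (hh p z x k₀) (t * a) * ze (hh p z x k₀) c₁) := by
            rw [(hcm (t * a)).eq]
        _ = hh p z x q * (ze (hh p z x k₀) (T * a) * ze (hh p z x k₀) (t * a) * ze (hh p z x k₀) c₁) := by
            rw [mul_assoc (hh p z x q), ← mul_assoc (ze (hh p z x k₀) (T * a)), ← (hcm (T * a)).eq]
            simp only [mul_assoc]
        _ = _ := by
            rw [ze_add_of hu, ze_add_of hu]
            congr 2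
            simp only [T, c₁, a, e]
            field_simp
            ring
    refine d.A_of_ker hdQ ?_
    have hne : hh p z x (ze l T * (ze l t * q * ze k₀ c₁) * (q * ze k₀ e)⁻¹) = 1 := by
      have e1 := d.hh_mul hdQ hqe
      rw [inv_mul_cancel_right, hh1] at e1
      exact mul_eq_right.1 e1.symm
    rw [hh, mul_eq_one_iff_eq_inv] at hne
    rw [hne]
    exact (cen Q).inv_mem (h.ze_mem _)

/-- In the quadric case the shape is unitary. -/
theorem shape : ∃ d₁ d₂ : ZMod p, d₁ ≠ 0 ∧ d₂ ≠ 0 ∧ ¬ IsSquare (-(d₁ * d₂)) ∧ TwoShape S p d₁ d₂ := by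
  haveI := h.neZero
  haveI := h.finite_Q
  obtain ⟨hkQ, hkQ', hkA, hkA', horth, hb, hb', hperp, hcard⟩ := fr
  have fr' : Frame S p Q z x k k' := ⟨hkQ, hkQ', hkA, hkA', horth, hb, hb', hperp, hcard⟩
  set b := bb p z x k k
  set b' := bb p z x k' k'
  have h2 := h.two_ne_zero'
  have hns : ¬ IsSquare (-(b * b')) := by
    rintro ⟨w, hw⟩
    have hkw : ze k w ∈ Q := Q.pow_mem hkQ _
    have hkb : ze k' b ∈ Q := Q.pow_mem hkQ' _
    have hq := Q.mul_mem hkw hkb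
    refine d.anis hq (fun hA => ?_) ?_
    · have e := d.bb_A_right hA hkQ'
      rw [d.bb_mul_right hkw hkb hkQ', d.bb_ze_right hkQ hkQ', d.bb_ze_right hkQ' hkQ', d.bb_symm hkQ' hkQ,
        horth, mul_zero, zero_add] at e
      exact mul_ne_zero hb hb' e
    · rw [d.bb_mul_left hkw hkb hq, d.bb_ze_left hkQ hq, d.bb_ze_left hkQ' hq, d.bb_mul_right hkw hkb hkQ,
        d.bb_mul_right hkw hkb hkQ', d.bb_ze_right hkQ hkQ, d.bb_ze_right hkQ' hkQ, d.bb_ze_right hkQ hkQ',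
        d.bb_ze_right hkQ' hkQ', d.bb_symm hkQ' hkQ, horth]
      linear_combination (-b) * hw
  have hsum : b + b' ≠ 0 := fun e => hns ⟨b, by rw [eq_neg_of_add_eq_zero_right e]; ring⟩
  -- the torus element
  obtain ⟨N, hNG, hN⟩ := d.exists_n fr' hkQ hkA
  obtain ⟨N', hNG', hN'⟩ := d.exists_n fr' hkQ' hkA'
  set δ := N * N'
  have hδG : δ ∈ F.autGroup (cS S x) := Subgroup.mul_mem _ hNG hNG'
  have hδ : ∀ t : ZMod p, ∀ q ∈ Q, ∀ c : ZMod p,
      autFun δ (pt p z x t q c) = pt p z x (t * b / b') q⁻¹ (c * b' / b) := by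
    intro t q hq c
    have hk2 : ze k' (-(2 * bb p z x k' q / b')) ∈ Q := Q.pow_mem hkQ' _
    have hq' := Q.mul_mem hq hk2
    rw [autFun_mul _ _ (d.pt_mem _ hq _), hN' t q hq c, hN _ _ hq']
    have hk1 : ze k (-(2 * bb p z x k (q * ze k' (-(2 * bb p z x k' q / b'))) / b)) ∈ Q := Q.pow_mem hkQ _
    have hq'' := Q.mul_mem hq' hk1
    have hB : bb p z x k (q * ze k' (-(2 * bb p z x k' q / b'))) = bb p z x k q := by
      rw [d.bb_mul_right hq hk2 hkQ, d.bb_ze_right hkQ' hkQ, horth, mul_zero, add_zero]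
    rw [d.pt_congr (Q.inv_mem hq) (q' := q⁻¹) ?_]
    · congr 1
      · simp only [b, b'] at *
        field_simp
      · simp only [b, b'] at *
        field_simp
    · rw [inv_inv]
      refine hperp _ (Q.mul_mem hq'' hq) ?_ ?_
      · rw [d.bb_mul_right hq'' hq hkQ, d.bb_mul_right hq' hk1 hkQ, hB, d.bb_ze_right hkQ hkQ]
        field_simp; ring
      · rw [d.bb_mul_right hq'' hq hkQ', d.bb_mul_right hq' hk1 hkQ', d.bb_mul_right hq hk2 hkQ',
          d.bb_ze_right hkQ' hkQ', d.bb_ze_right hkQ hkQ', d.bb_symm hkQ' hkQ, horth]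
        field_simp; ring
  set lam := b' / b
  have hlam : lam ≠ 0 := div_ne_zero hb' hb
  have hδconj : ∀ q ∈ Q, ∀ e ∈ cS S x,
      autFun δ (q * e * q⁻¹) = ze q (-lam) * autFun δ e * (ze q (-lam))⁻¹ := by
    intro q hq e he
    obtain ⟨u, hu, c, hec⟩ := d.exists_pt he
    rw [hec]
    set t := ex p Q x e
    have hqt : ze q t ∈ Q := Q.pow_mem hq _
    have hqp : ze q (-lam) ∈ Q := Q.pow_mem hq _
    have hqpt : ze (ze q (-lam)) (t * b / b') ∈ Q := Q.pow_mem hqp _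
    have hL := Q.inv_mem (Q.mul_mem hqt hu)
    rw [d.conj_pt hq hu, hδ _ _ (Q.mul_mem hqt hu), hδ t u hu c, d.conj_pt hqp (Q.inv_mem hu),
      d.bb_ze_left hq hqp, d.bb_ze_right hq hq, d.bb_ze_left hq (Q.inv_mem hu)]
    have hBinv : bb p z x q u⁻¹ = -bb p z x q u := by
      have e1 := d.bb_mul_right (Q.inv_mem hu) hu hq
      rw [inv_mul_cancel, d.bb_A_right (Subgroup.one_mem _) hq] at e1
      linear_combination -e1
    rw [hBinv, d.pt_congr (Q.mul_mem hqpt (Q.inv_mem hu)) (q' := ze (ze q (-lam)) (t * b / b') * u⁻¹) ?_]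
    · congr 1
      simp only [lam]; field_simp
    · have e3 : ze (ze q (-lam)) (t * b / b') * (ze q (-t))⁻¹ ∈ Aq S Q x := by
        have e := d.ze_ze hq (-lam) (t * b / b')
        rwa [show t * b / b' * -lam = -t by simp only [lam]; field_simp] at e
      have e4 : ze q t * ze q (-t) ∈ Aq S Q x := by
        have hp' : ze q t * ze q (-t) = (q ^ p) ^ ((t.val + (-t).val) / p) := by
          show q ^ t.val * q ^ (-t).val = _
          rw [← pow_add, ← pow_mul]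
          congr 1
          refine (Nat.mul_div_cancel' ?_).symm
          rw [← ZMod.natCast_eq_zero_iff, Nat.cast_add, ZMod.natCast_zmod_val, ZMod.natCast_zmod_val,
            add_neg_cancel]
        rw [hp']
        exact Subgroup.pow_mem _ (d.cen_A (h.pow_mem_cen hq)) _
      refine d.A_of_ker (Q.mul_mem hL (Q.inv_mem (Q.mul_mem hqpt (Q.inv_mem hu)))) ?_
      have hnt : ze q (-t) ∈ Q := Q.pow_mem hq _
      have a1 : hh p z x (ze (ze q (-lam)) (t * b / b')) = hh p z x (ze q (-t)) := d.hh_congr hnt e3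
      have a2 : hh p z x (ze q t) * hh p z x (ze q (-t)) = 1 := by
        rw [← d.hh_mul hqt hnt, d.hh_A e4]
      have ainv : ∀ {w : Ω}, w ∈ Q → hh p z x w⁻¹ = (hh p z x w)⁻¹ := fun {w} hw =>
        eq_inv_of_mul_eq_one_left (by rw [← d.hh_mul (Q.inv_mem hw) hw, inv_mul_cancel,
          d.hh_A (Subgroup.one_mem _)])
      have hne : hh p z x ((ze q t * u)⁻¹ * (ze (ze q (-lam)) (t * b / b') * u⁻¹)⁻¹) = 1 := by
        rw [d.hh_mul hL (Q.inv_mem (Q.mul_mem hqpt (Q.inv_mem hu))), ainv (Q.mul_mem hqt hu),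
          ainv (Q.mul_mem hqpt (Q.inv_mem hu)), d.hh_mul hqt hu, d.hh_mul hqpt (Q.inv_mem hu), ainv hu, a1,
          eq_inv_of_mul_eq_one_right a2]
        rw [mul_inv_rev, mul_inv_rev, inv_inv, inv_inv, mul_assoc, ← mul_assoc (hh p z x (ze q t))⁻¹,
          ((d.comm (d.hh_mem hqt).2 (d.hh_mem hu).2).inv_left).eq, mul_assoc, inv_mul_cancel, mul_one,
          inv_mul_cancel]
      rw [hh, mul_eq_one_iff_eq_inv] at hne
      rw [hne]
      exact (cen Q).inv_mem (h.ze_mem _)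
  have hEn : S ≤ Subgroup.normalizer (cS S x : Set Ω) := by
    intro s hs
    obtain ⟨j, q, hq, rfl⟩ := h.exists_decomp d.xS d.ess.notQ hs
    exact Subgroup.mul_mem _ (d.norm q hq) (Subgroup.zpow_mem _ (Subgroup.le_normalizer d.xE) j)
  have hW : ∀ η ∈ autInducedBy S (cS S x), ∃ q ∈ Q, ∀ e ∈ cS S x, autFun η e = q * e * q⁻¹ := by
    intro η hη
    obtain ⟨s, hs, es⟩ := mem_autInducedBy.1 hη
    obtain ⟨j, q, hq, rfl⟩ := h.exists_decomp d.xS d.ess.notQ hs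
    refine ⟨q, hq, fun e he => ?_⟩
    rw [autFun_apply_mem _ he, es]
    show q * x ^ j * e * (q * x ^ j)⁻¹ = q * e * q⁻¹
    rw [mul_inv_rev, mul_assoc q, ((d.comm d.xE he).zpow_left j).eq]
    group
  obtain ⟨η, hη, ψ, hψ, hψδ⟩ := exists_lift h.isP h.sat (cS_le x) hEn le_rfl (autInducedBy_le (cS_le x)) hδG
    (fun η hη => by
      obtain ⟨q, hq, he⟩ := hW η hη
      have hqp : ze q (-lam) ∈ Q := Q.pow_mem hq _
      refine mem_autInducedBy.2 ⟨ze q (-lam), h.le hqp, fun e => ?_⟩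
      have h1 := hδconj q hq _ (autFun_mem δ⁻¹ e.2)
      rw [← he _ (autFun_mem δ⁻¹ e.2), ← autFun_mul _ _ (autFun_mem δ⁻¹ e.2),
        ← autFun_mul _ _ e.2, ← autFun_mul _ _ e.2, mul_inv_cancel, autFun_one e.2, autFun_apply] at h1
      exact h1)
  obtain ⟨q₀, hq₀, hη₀⟩ := hW η hη
  have hψm : IsMap F S (autFun ψ) := (isMap_autFun le_rfl).2 hψ
  have hψE : ∀ e ∈ cS S x, autFun ψ e = q₀ * autFun δ e * q₀⁻¹ := fun e he => by
    rw [hψδ e he, autFun_mul _ _ he, hη₀ _ (autFun_mem δ he)]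
  have hAcard : p * Nat.card (h.kerSub x d.xS) < p ^ 5 := by
    have hA2 := h.card_abelian (A := Aq S Q x) inf_le_left fun a ha b hb => (d.comm ha.2 hb.2).eq
    rw [hcard] at hA2
    have hA3 : Nat.card (Aq S Q x) ≤ p ^ 3 :=
      Nat.mul_self_le_mul_self_iff.1 (hA2.trans (le_of_eq (by ring)))
    rw [show h.kerSub x d.xS = Aq S Q x from d.ker]
    calc p * Nat.card (Aq S Q x) ≤ p * p ^ 3 := Nat.mul_le_mul le_rfl hA3
      _ = p ^ 4 := by ring
      _ < p ^ 5 := Nat.pow_lt_pow_right hp.out.one_lt (by norm_num)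
  have hdeep : Deep S Q p := h.deep_of_ker d.xS (hcard.symm ▸ hAcard)
  have hexp : ∀ q ∈ Q, q ^ p = 1 := by
    intro q hq
    obtain ⟨q₁, hq₁⟩ : ∃ w, autFun ψ q = w := ⟨_, rfl⟩
    have hq₁Q : q₁ ∈ Q := hq₁ ▸ h.aut_Q hdeep hψ hq
    set q' := ze q (-lam)
    have hq'Q : q' ∈ Q := Q.pow_mem hq _
    set μ := b / b'
    have hμ : μ ≠ 0 := div_ne_zero hb hb'
    have hδx : autFun δ x = ze x μ := by
      have e := hδ 1 1 Q.one_mem 0
      rwa [d.pt_x, one_mul, inv_one, zero_mul, zero_div, ← d.ze_x_pt] at e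
    have e1 : q₁ * (q₀ * ze x μ * q₀⁻¹) * q₁⁻¹ = q' * (q₀ * ze x μ * q₀⁻¹) * q'⁻¹ := by
      have e2 := hψm.map_conj (h.le hq) d.xS
      rw [hq₁, hψE x d.xE, hψE _ (d.conj_mem hq d.xE), hδconj q hq x d.xE, hδx] at e2
      rw [← e2]
      have hw : ze x μ ∈ cS S x := ze_in d.xE μ
      obtain ⟨i, hi⟩ := h.exists_ze (h.comm_mem hq₀ hq'Q)
      have e3 : q₀ * q' = ze z i * (q' * q₀) := by rw [hi, commutatorElement_def]; group
      calc q₀ * (q' * ze x μ * q'⁻¹) * q₀⁻¹ = (q₀ * q') * ze x μ * (q₀ * q')⁻¹ := by group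
        _ = ze z i * (q' * (q₀ * ze x μ * q₀⁻¹) * q'⁻¹) * (ze z i)⁻¹ := by rw [e3]; group
        _ = _ := by
          rw [((h.ze_comm i (h.le hq'Q)).mul_left (((h.ze_comm i (S.mul_mem (S.mul_mem (h.le hq₀) hw.1)
            (S.inv_mem (h.le hq₀))))))).mul_left ((h.ze_comm i (S.inv_mem (h.le hq'Q)))) |>.symm.eq,
            mul_inv_cancel_right]
    have hqd : q'⁻¹ * q₁ ∈ Aq S Q x := by
      have hdQ := Q.mul_mem (Q.inv_mem hq'Q) hq₁Q
      have e2 : (q₀⁻¹ * (q'⁻¹ * q₁) * q₀) * ze x μ * (q₀⁻¹ * (q'⁻¹ * q₁) * q₀)⁻¹ = ze x μ := by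
        calc (q₀⁻¹ * (q'⁻¹ * q₁) * q₀) * ze x μ * (q₀⁻¹ * (q'⁻¹ * q₁) * q₀)⁻¹
            = q₀⁻¹ * q'⁻¹ * (q₁ * (q₀ * ze x μ * q₀⁻¹) * q₁⁻¹) * q' * q₀ := by group
          _ = _ := by rw [e1]; group
      set u := q₀⁻¹ * (q'⁻¹ * q₁) * q₀
      have huQ : u ∈ Q := Q.mul_mem (Q.mul_mem (Q.inv_mem hq₀) hdQ) hq₀
      have hux : Commute u x := by
        have h0 : ze x μ ∈ Subgroup.centralizer ({u} : Set Ω) :=
          Subgroup.mem_centralizer_singleton_iff.2 (mul_inv_eq_iff_eq_mul.1 e2).symm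
        exact (Subgroup.mem_centralizer_singleton_iff.1 (mem_of_ze_mem d.xp hμ h0)).symm
      have huA : u ∈ Aq S Q x := ⟨huQ, mem_cS.2 ⟨h.le huQ, hux.eq⟩⟩
      have e4 : q'⁻¹ * q₁ = q₀ * u * q₀⁻¹ := by
        simp only [u]; group
      rw [e4, show q₀ * u * q₀⁻¹ = ⁅q₀, u⁆ * u by rw [commutatorElement_def]; group]
      exact (Aq S Q x).mul_mem (d.cen_A (h.comm_mem hq₀ huQ)) huA
    have hpow : q₁ ^ p = ze (q ^ p) (-lam) := by
      rw [show q₁ = q' * (q'⁻¹ * q₁) by rw [mul_inv_cancel_left], h.mul_pow_p hq'Q hqd.1, d.A_pow hqd,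
        mul_one]
      show (q ^ (-lam).val) ^ p = (q ^ p) ^ (-lam).val
      rw [← pow_mul, ← pow_mul, mul_comm]
    obtain ⟨m, hm⟩ := h.exists_ze (h.pow_mem_cen hq)
    have hψz : autFun ψ z = ze z lam := by
      rw [hψE z d.zE]
      have e := hδ 0 1 Q.one_mem 1
      rw [d.pt_z, zero_mul, zero_div, inv_one, one_mul, ← d.ze_z_pt] at e
      rw [e, h.conj_cen (h.le hq₀) (h.ze_mem _)]
    rw [← hq₁, ← hψm.map_pow (h.le hq), ← hm, ze, hψm.map_pow h.zS, hψz] at hpow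
    change ze z lam ^ m.val = ze z m ^ (-lam).val at hpow
    rw [h.ze_pow, h.ze_pow, ZMod.natCast_zmod_val, ZMod.natCast_zmod_val] at hpow
    have h0 := h.ze_inj hpow
    have hm0 : (2 : ZMod p) * lam * m = 0 := by linear_combination h0
    rw [← hm, (mul_eq_zero.1 hm0).resolve_left (mul_ne_zero h2 hlam), h.ze_zero]
  -- the shape
  have hu := d.hh_mem hkQ
  set j := -(cc p z k k') / b
  have huj : ze (hh p z x k) j ∈ Aq S Q x := ze_in hu j
  have hv₂ : k' * ze (hh p z x k) j ∈ Q := Q.mul_mem hkQ' huj.1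
  have hxk : ∀ {q : Ω}, q ∈ Q → ⁅x, q⁆ ∈ Aq S Q x := fun hq => d.im ▸ h.comm_mem_imSub d.xS hq
  have hx2 : ⁅x, k' * ze (hh p z x k) j⁆ = ⁅x, k'⁆ := by
    rw [comm_mul_right, show ⁅x, ze (hh p z x k) j⁆ = 1 from
      commutatorElement_eq_one_iff_commute.2 (d.comm d.xE huj.2), mul_one, mul_inv_cancel, mul_one]
  have hcb : ∀ {q q' : Ω}, q ∈ Q → q' ∈ Q → cc p z q ⁅x, q'⁆ = -bb p z x q q' := fun {q q'} hq hq' => by
    rw [← commutatorElement_inv q' x, h.cc_inv_right hq (d.qx_mem hq').1]; rfl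
  refine ⟨-b, -b', neg_ne_zero.2 hb, neg_ne_zero.2 hb', by rwa [neg_mul_neg],
    h.two_shape hcard d.xS d.ess.notQ d.xp hexp hkQ hv₂ rfl rfl (d.comm d.xE (hxk hkQ).2)
      (d.comm d.xE (hxk hv₂).2) ?_ (hcb hkQ hkQ) ?_ ?_ ?_ (d.A_cc (hxk hkQ) (hxk hv₂))
      (neg_ne_zero.2 hb) (neg_ne_zero.2 hb')⟩
  · rw [h.cc_mul_right hkQ hkQ' huj.1, h.cc_ze_pow_right hkQ hu.1, d.cc_hh hkQ hkQ]
    simp only [j]
    field_simp
    ring
  · rw [hx2, hcb hkQ hkQ', horth, neg_zero]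
  · rw [h.cc_mul_left hkQ' huj.1 (hxk hkQ).1, d.A_cc huj (hxk hkQ), hcb hkQ' hkQ, d.bb_symm hkQ' hkQ, horth,
      neg_zero, add_zero]
  · rw [hx2, h.cc_mul_left hkQ' huj.1 (hxk hkQ').1, d.A_cc huj (hxk hkQ'), hcb hkQ' hkQ', add_zero]

end Quad

end Cfsg.Lib.Fusion.ExIdxP
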