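import Cfsg.Agent.Fusion.ExIdxP.CaseTwoShape
import Cfsg.Agent.Fusion.ExIdxP.QuadricShape
import Cfsg.Agent.Fusion.ExIdxP.PearlShape

/-!
The shapes and their normalisation.
-/

set_option autoImplicit false
set_option linter.style.haveILetI false
set_option linter.unusedSectionVars false

namespace Cfsg.Lib.Fusion.ExIdxP

open Cfsg Cfsg.FusionSystem Cfsg.Lib.Fusion Cfsg.Lib.Fusion.ExtraspecialIndex
open scoped commutatorElement

universe u

variable {Ω : Type u} [Group Ω] {S : Subgroup Ω} {F : FusionSystem S} {p : ℕ}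

theorem twoRel_of_rels [Fact (1 < p)] {G : Type u} [Group G] {g : Fin 6 → G} {d₁ d₂ : ZMod p}
    (r : NormalForm.Rels (NormalForm.TwoT p d₁ d₂) g) :
    NormalForm.TwoRel (g 0) (g 1) (g 2) (g 3) (g 4) (g 5) d₁ d₂ := by
  have c : ∀ {a b : G}, ⁅a, b⁆ = 1 → Commute a b := fun hh => commutatorElement_eq_one_iff_commute.1 hh
  have e : ∀ i j : Fin 6, i < j → ⁅g i, g j⁆ = NormalForm.word g (NormalForm.TwoT p d₁ d₂ i j) := r.rel
  refine ⟨r.pow 0, r.pow 1, r.pow 2, r.pow 3, r.pow 4, r.pow 5, ?_, ?_, c ?_, c ?_, c ?_, ?_, c ?_, c ?_, ?_,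
    c ?_, (c ?_).symm, (c ?_).symm, (c ?_).symm, (c ?_).symm, (c ?_).symm⟩ <;>
    (rw [e _ _ (by decide)]; simp [NormalForm.word, NormalForm.TwoT, ZMod.val_one])

/-- The two values can be changed by squares and by a common factor. -/
theorem TwoShape.rescale [hp : Fact p.Prime] {d₁ d₂ : ZMod p} (hd₁ : d₁ ≠ 0) (hT : TwoShape S p d₁ d₂)
    {a : ZMod p} (ha : a ≠ 0) : TwoShape S p 1 (a * a * d₂ / d₁) := by
  haveI : NeZero p := ⟨hp.out.ne_zero⟩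
  haveI : Fact (1 < p) := ⟨hp.out.one_lt⟩
  obtain ⟨g, hgS, hrel, hgen, hcard, hcen⟩ := hT
  obtain ⟨px, pv₁, pv₂, pk₁, pk₂, pz, xv₁, xv₂, xk₁, xk₂, vv, v₁k₁, v₁k₂, v₂k₁, v₂k₂, kk, zx, zv₁, zv₂,
    zk₁, zk₂⟩ := twoRel_of_rels hrel
  obtain ⟨n, hn⟩ : ∃ n, a.val = n := ⟨_, rfl⟩
  have hzpow : ∀ i : ℕ, g 5 ^ i = ze (g 5) (i : ZMod p) := fun i => by
    show _ = g 5 ^ (i : ZMod p).val
    rw [ZMod.val_natCast]
    conv_lhs => rw [← Nat.div_add_mod i p, pow_add, pow_mul, pz, one_pow, one_mul]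
  have hconj : ∀ i : ℕ, g 2 ^ i * g 4 * (g 2 ^ i)⁻¹ = g 5 ^ (i * d₂.val) * g 4 := by
    intro i
    induction i with
    | zero => simp
    | succ i ih =>
      have e1 : g 2 * g 4 * (g 2)⁻¹ = g 5 ^ d₂.val * g 4 := by rw [← v₂k₂, commutatorElement_def]; group
      calc g 2 ^ (i + 1) * g 4 * (g 2 ^ (i + 1))⁻¹ = g 2 * (g 2 ^ i * g 4 * (g 2 ^ i)⁻¹) * (g 2)⁻¹ := by
            rw [pow_succ']; group
        _ = g 5 ^ (i * d₂.val) * (g 2 * g 4 * (g 2)⁻¹) := by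
            rw [ih, ← mul_assoc, ← ((zv₂.pow_left _)).eq]; group
        _ = _ := by rw [e1, ← mul_assoc, ← pow_add, Nat.succ_mul]
  obtain ⟨e, hk₂⟩ : ∃ e : ℕ, ⁅g 0, g 2 ^ n⁆ = g 5 ^ e * g 4 ^ n := by
    clear hn
    induction n with
    | zero => exact ⟨0, by simp⟩
    | succ n ih =>
      obtain ⟨e, he⟩ := ih
      refine ⟨e + n * d₂.val, ?_⟩
      rw [pow_succ, comm_mul_right, he, xv₂, hconj, pow_add, pow_succ]
      have hc : Commute (g 4 ^ n) (g 5 ^ (n * d₂.val)) := (zk₂.pow_pow _ _).symm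
      calc g 5 ^ e * g 4 ^ n * (g 5 ^ (n * d₂.val) * g 4)
          = g 5 ^ e * (g 4 ^ n * g 5 ^ (n * d₂.val)) * g 4 := by group
        _ = _ := by rw [hc.eq]; group
  set z' := ze (g 5) d₁
  set k₂' := ⁅g 0, g 2 ^ n⁆
  have hk2c : ∀ {w : Ω}, Commute (g 5) w → Commute (g 4) w → Commute k₂' w := fun h5 h4 => by
    rw [hk₂]; exact (h5.pow_left _).mul_left (h4.pow_left _)
  have hzc : ∀ {w : Ω}, Commute (g 5) w → Commute z' w := fun hw => hw.pow_left _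
  have hd : ⁅g 2 ^ n, k₂'⁆ = ze z' (a * a * d₂ / d₁) := by
    have e1 : g 2 ^ n * k₂' * (g 2 ^ n)⁻¹ = g 5 ^ (n * (n * d₂.val)) * k₂' := by
      rw [hk₂, ← conj_mul, ← conj_pow, ← conj_pow, hconj, (zv₂.pow_right n).symm.eq, mul_inv_cancel_right,
        (zk₂.pow_left _).mul_pow, ← pow_mul]
      rw [← mul_assoc (g 5 ^ e), ← mul_assoc (g 5 ^ (n * (n * d₂.val))), ← pow_add, ← pow_add]
      congr 2
      ring
    rw [commutatorElement_def, e1, mul_inv_cancel_right, hzpow]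
    show _ = ze (g 5) d₁ ^ (a * a * d₂ / d₁).val
    rw [ze_pow_of pz, ZMod.natCast_zmod_val, div_mul_cancel₀ _ hd₁]
    push_cast
    rw [← hn, ZMod.natCast_zmod_val, ZMod.natCast_zmod_val, mul_assoc]
  refine ⟨![g 0, g 1, g 2 ^ n, g 3, k₂', z'], ?_, ?_, ?_, hcard, ?_⟩
  · intro i; fin_cases i
    exacts [hgS 0, hgS 1, S.pow_mem (hgS 2) n, hgS 3,
      hk₂ ▸ S.mul_mem (S.pow_mem (hgS 5) _) (S.pow_mem (hgS 4) _), S.pow_mem (hgS 5) _]
  · refine NormalForm.TwoRel.rels ⟨px, pv₁, by rw [← pow_mul, mul_comm, pow_mul, pv₂, one_pow], pk₁, ?_,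
      ze_pow_p pz d₁, xv₁, rfl, xk₁, (hk2c zx xk₂.symm).symm, vv.pow_right n, ?_,
      (hk2c zv₁ v₁k₂.symm).symm, v₂k₁.pow_left n, ?_, (hk2c zk₁ kk.symm).symm,
      hzc zx, hzc zv₁, hzc (zv₂.pow_right n), hzc zk₁, (hk2c (hzc (Commute.refl (g 5))).symm ((hzc zk₂).symm)).symm⟩
    · rw [hk₂, (zk₂.pow_pow _ _).mul_pow, ← pow_mul, ← pow_mul, mul_comm e, mul_comm n, pow_mul, pow_mul, pz,
        pk₂, one_pow, one_pow, one_mul]
    · rw [v₁k₁, ZMod.val_one, pow_one]; rfl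
    · exact hd
  · refine hgen.trans ((Subgroup.closure_le _).2 ?_)
    rintro _ ⟨i, rfl⟩
    have hm : ∀ j, ![g 0, g 1, g 2 ^ n, g 3, k₂', z'] j ∈
        Subgroup.closure (Set.range ![g 0, g 1, g 2 ^ n, g 3, k₂', z']) :=
      fun j => Subgroup.subset_closure ⟨j, rfl⟩
    have h2 : g 2 ∈ Subgroup.closure (Set.range ![g 0, g 1, g 2 ^ n, g 3, k₂', z']) :=
      mem_of_ze_mem pv₂ ha (by rw [ze, hn]; exact hm 2)
    fin_cases i
    exacts [hm 0, hm 1, h2, hm 3,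
      show g 4 ∈ _ from xv₂ ▸ (show ⁅g 0, g 2⁆ ∈ _ by
        rw [commutatorElement_def]
        exact Subgroup.mul_mem _ (Subgroup.mul_mem _ (Subgroup.mul_mem _ (hm 0) h2) (Subgroup.inv_mem _ (hm 0)))
          (Subgroup.inv_mem _ h2)),
      mem_of_ze_mem pz hd₁ (hm 5)]
  · refine hcen.trans (Subgroup.zpowers_le.2 ?_)
    exact mem_of_ze_mem pz hd₁ (Subgroup.mem_zpowers z')

theorem twoShape_square [hp : Fact p.Prime] {d₁ d₂ : ZMod p} (hd₁ : d₁ ≠ 0) (hd₂ : d₂ ≠ 0)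
    (hsq : IsSquare (-(d₁ * d₂))) (hT : TwoShape S p d₁ d₂) : TwoShape S p 1 (-1) := by
  obtain ⟨w, hw⟩ := hsq
  have hw0 : w ≠ 0 := fun e => mul_ne_zero hd₁ hd₂ (by rw [e, mul_zero] at hw; exact neg_eq_zero.1 hw)
  have := hT.rescale hd₁ (a := d₁ / w) (div_ne_zero hd₁ hw0)
  rwa [show d₁ / w * (d₁ / w) * d₂ / d₁ = (-1 : ZMod p) by field_simp; linear_combination -hw] at this

theorem twoShape_nonsquare [hp : Fact p.Prime] (hp2 : p ≠ 2) {d₁ d₂ d : ZMod p} (hd₁ : d₁ ≠ 0) (hd₂ : d₂ ≠ 0)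
    (hsq : ¬ IsSquare (-(d₁ * d₂))) (hd : ¬ IsSquare d) (hT : TwoShape S p d₁ d₂) :
    TwoShape S p 1 (-d) := by
  haveI : NeZero p := ⟨hp.out.ne_zero⟩
  have hchar : ringChar (ZMod p) ≠ 2 := by rwa [ZMod.ringChar_zmod_n]
  have hd0 : d ≠ 0 := by rintro rfl; exact hd (IsSquare.zero)
  have he0 : -(d₁ * d₂) ≠ 0 := neg_ne_zero.2 (mul_ne_zero hd₁ hd₂)
  have hmul : IsSquare (d * -(d₁ * d₂)) := by
    rw [FiniteField.isSquare_iff hchar (mul_ne_zero hd0 he0), mul_pow,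
      (FiniteField.pow_dichotomy hchar hd0).resolve_left fun e => hd ((FiniteField.isSquare_iff hchar hd0).2 e),
      (FiniteField.pow_dichotomy hchar he0).resolve_left fun e => hsq ((FiniteField.isSquare_iff hchar he0).2 e),
      neg_one_mul, neg_neg]
  obtain ⟨w, hw⟩ := hmul
  have hw0 : w ≠ 0 := fun e => mul_ne_zero hd0 he0 (by rw [hw, e, mul_zero])
  have := hT.rescale hd₁ (a := w / d₂) (div_ne_zero hw0 hd₂)
  rwa [show w / d₂ * (w / d₂) * d₂ / d₁ = -d by field_simp; linear_combination -hw] at this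

/-- The classification of the shapes. -/
theorem Setup.shapes [Finite S] [hp : Fact p.Prime] {Q : Subgroup Ω} {z : Ω} (h : Setup F p Q z)
    (hO : F.core = ⊥) : TwoShape S p 1 (-1) ∨ (∀ d : ZMod p, ¬ IsSquare d → TwoShape S p 1 (-d)) ∨
      G2Shape S p ∨
      (11 ≤ p ∧ Nat.card S = p ^ (p - 1) ∧ (∀ s ∈ S, s ^ p = 1) ∧ Group.nilpotencyClass S = p - 2) := by
  by_cases hwc : WC F Q z
  · obtain ⟨x, hx, hxQ, hE, β, hβ, hβz⟩ := h.exists_essential hO hwc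
    have e : Ess F p Q z x := ⟨hwc, hx, hxQ, hE, ⟨β, hβ, hβz⟩⟩
    rcases e.dichotomy h with hA | ⟨hK, hI, hN⟩
    · obtain ⟨N, hN⟩ := IsPGroup.iff_card.mp h.isP
      have d : Pl F p Q z x N h := ⟨e, hA, hN⟩
      rcases d.pearl_case with hg | hb
      · exact Or.inr (Or.inr (Or.inl hg))
      · exact Or.inr (Or.inr (Or.inr hb))
    · have d : Quad F p Q z x h := ⟨e, hK, hI, hN⟩
      obtain ⟨k, k', fr⟩ := d.exists_frame
      obtain ⟨d₁, d₂, h1, h2, hns, hT⟩ := d.shape fr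
      exact Or.inr (Or.inl fun dd hdd => twoShape_nonsquare h.odd h1 h2 hns hdd hT)
  · rcases h.two_case hwc with ⟨d₁, d₂, h1, h2, hsq, hT⟩ | hg
    · exact Or.inl (twoShape_square h1 h2 hsq hT)
    · exact Or.inr (Or.inr (Or.inl hg))

end Cfsg.Lib.Fusion.ExIdxP
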