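import Cfsg.Agent.Fusion.ExIdxP.Tables

/-!
Small tools for matrix models of the two commutator tables.
-/

set_option autoImplicit false

namespace Cfsg.Lib.Fusion.ExIdxP.NormalForm

open scoped commutatorElement

universe u

theorem comm_of_mul {G : Type u} [Group G] {a b c : G} (h : a * b = c * (b * a)) : ⁅a, b⁆ = c := by
  rw [commutatorElement_def, h]
  group

theorem comm_inv_of_mul {G : Type u} [Group G] {a b c : G} (h : c * (a * b) = b * a) : ⁅a, b⁆ = c⁻¹ :=
  comm_of_mul (by rw [← h]; group)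

theorem pow_one_add_of_sq {R : Type u} [Ring R] {N : R} (h : N * N = 0) (n : ℕ) :
    (1 + N) ^ n = 1 + n • N := by
  induction n with
  | zero => simp
  | succ n ih =>
    rw [pow_succ, ih, add_mul, mul_add, mul_add, one_mul, one_mul, smul_mul_assoc, smul_mul_assoc, h, mul_one,
      smul_zero, add_zero, succ_nsmul]
    abel

theorem pow_char_eq_one {R : Type u} [Ring R] {p : ℕ} [Fact p.Prime] [CharP R p] {a : R}
    (h : (a - 1) ^ p = 0) : a ^ p = 1 := by
  have e := add_pow_char_of_commute (p := p) (Commute.one_left (a - 1) : Commute (1 : R) (a - 1))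
  rwa [add_sub_cancel, one_pow, h, add_zero] at e

theorem Rels.codRestrict {p : ℕ} {G : Type u} [Group G] {H : Subgroup G} {T : Fin 6 → Fin 6 → Fin 6 → ZMod p}
    {g : Fin 6 → G} (h : Rels T g) (hm : ∀ i, g i ∈ H) :
    Rels T (fun i => (⟨g i, hm i⟩ : H)) := by
  refine ⟨fun i => Subtype.ext (h.pow i), fun i j hij => Subtype.ext ?_⟩
  show H.subtype ⁅(⟨g i, hm i⟩ : H), (⟨g j, hm j⟩ : H)⁆ = H.subtype (word (fun k => (⟨g k, hm k⟩ : H)) (T i j))
  rw [map_commutatorElement, map_word]
  exact h.rel i j hij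

theorem factorization_of_eq {p m N : ℕ} [hp : Fact p.Prime] (e : N = p ^ 6 * m) (hm : ¬ p ∣ m) :
    N.factorization p = 6 := by
  have hm0 : m ≠ 0 := fun h0 => hm (h0 ▸ dvd_zero p)
  rw [e, Nat.factorization_mul (pow_ne_zero _ hp.out.ne_zero) hm0, Finsupp.add_apply,
    hp.out.factorization_pow, Finsupp.single_eq_same, Nat.factorization_eq_zero_of_not_dvd hm, add_zero]

end Cfsg.Lib.Fusion.ExIdxP.NormalForm
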