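import Cfsg.Agent.Fusion.ExIdxP.ModelBase
import Cfsg.Prelude.Def_G2

/-!
The second table is realised by root elements of the automorphism group of the split octonions.
-/

set_option autoImplicit false

namespace Cfsg.Lib.Fusion.ExIdxP.NormalForm

open Matrix Cfsg.Lie
open scoped commutatorElement

universe u

/-- The six integral matrices. -/
def gMat : Fin 6 → Matrix (Fin 8) (Fin 8) ℤ
  | 0 => !![1, 0, 0, 0, 0, -1, 0, 0;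
      0, 1, 0, 0, 0, 0, 0, 0;
      1, 0, 1, 0, 0, -1, 0, -1;
      0, 0, 0, 1, 0, 0, 0, 0;
      0, 0, 0, 1, 1, 0, 0, 0;
      0, 0, 0, 0, 0, 1, 0, 0;
      0, -1, 0, 0, 0, 0, 1, 0;
      0, 0, 0, 0, 0, 1, 0, 1]
  | 1 => !![1, 0, 0, -1, 0, 0, 0, 0;
      0, 1, -6, 0, -6, -1, 0, 0;
      0, 0, 1, 0, 1, 0, 0, 0;
      0, 0, 0, 1, 0, 0, 0, 0;
      0, 0, 0, 0, 1, 0, 0, 0;
      0, 0, 0, 0, 6, 1, 0, 0;
      1, 0, 0, -1, 0, 0, 1, -1;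
      0, 0, 0, 1, 0, 0, 0, 1]
  | 2 => !![1, 0, 0, 6, -6, 0, 0, 0;
      6, 1, 0, 18, -36, 6, 0, -6;
      0, 0, 1, 3, -6, 0, 0, 0;
      0, 0, 0, 1, 0, 0, 0, 0;
      0, 0, 0, 0, 1, 0, 0, 0;
      0, 0, 0, -6, 0, 1, 0, 0;
      -6, 0, 6, -18, 18, -3, 1, 6;
      0, 0, 0, -6, 6, 0, 0, 1]
  | 3 => !![1, 0, 0, 12, 0, 0, 0, 0;
      0, 1, 0, 108, 0, 12, 0, 0;
      0, 0, 1, 36, -12, 0, 0, 0;
      0, 0, 0, 1, 0, 0, 0, 0;
      0, 0, 0, 0, 1, 0, 0, 0;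
      0, 0, 0, 0, 0, 1, 0, 0;
      -12, 0, 0, -144, -108, -36, 1, 12;
      0, 0, 0, -12, 0, 0, 0, 1]
  | 4 => !![1, 0, 0, 0, 0, 0, 0, 0;
      0, 1, 0, 0, 0, 0, 0, 0;
      0, 0, 1, 36, 0, 0, 0, 0;
      0, 0, 0, 1, 0, 0, 0, 0;
      0, 0, 0, 0, 1, 0, 0, 0;
      0, 0, 0, 0, 0, 1, 0, 0;
      0, 0, 0, 0, 0, -36, 1, 0;
      0, 0, 0, 0, 0, 0, 0, 1]
  | 5 => !![1, 0, 0, 0, 0, 0, 0, 0;
      0, 1, 0, -216, 0, 0, 0, 0;
      0, 0, 1, 0, 0, 0, 0, 0;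
      0, 0, 0, 1, 0, 0, 0, 0;
      0, 0, 0, 0, 1, 0, 0, 0;
      0, 0, 0, 0, 0, 1, 0, 0;
      0, 0, 0, 0, 216, 0, 1, 0;
      0, 0, 0, 0, 0, 0, 0, 1]

/-- Their inverses. -/
def gMatInv : Fin 6 → Matrix (Fin 8) (Fin 8) ℤ
  | 0 => !![1, 0, 0, 0, 0, 1, 0, 0;
      0, 1, 0, 0, 0, 0, 0, 0;
      -1, 0, 1, 0, 0, -1, 0, 1;
      0, 0, 0, 1, 0, 0, 0, 0;
      0, 0, 0, -1, 1, 0, 0, 0;
      0, 0, 0, 0, 0, 1, 0, 0;
      0, 1, 0, 0, 0, 0, 1, 0;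
      0, 0, 0, 0, 0, -1, 0, 1]
  | 1 => !![1, 0, 0, 1, 0, 0, 0, 0;
      0, 1, 6, 0, -6, 1, 0, 0;
      0, 0, 1, 0, -1, 0, 0, 0;
      0, 0, 0, 1, 0, 0, 0, 0;
      0, 0, 0, 0, 1, 0, 0, 0;
      0, 0, 0, 0, -6, 1, 0, 0;
      -1, 0, 0, -1, 0, 0, 1, 1;
      0, 0, 0, -1, 0, 0, 0, 1]
  | 2 => !![1, 0, 0, -6, 6, 0, 0, 0;
      -6, 1, 0, 18, -36, -6, 0, 6;
      0, 0, 1, -3, 6, 0, 0, 0;
      0, 0, 0, 1, 0, 0, 0, 0;
      0, 0, 0, 0, 1, 0, 0, 0;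
      0, 0, 0, 6, 0, 1, 0, 0;
      6, 0, -6, -18, 18, 3, 1, -6;
      0, 0, 0, 6, -6, 0, 0, 1]
  | 3 => !![1, 0, 0, -12, 0, 0, 0, 0;
      0, 1, 0, -108, 0, -12, 0, 0;
      0, 0, 1, -36, 12, 0, 0, 0;
      0, 0, 0, 1, 0, 0, 0, 0;
      0, 0, 0, 0, 1, 0, 0, 0;
      0, 0, 0, 0, 0, 1, 0, 0;
      12, 0, 0, -144, 108, 36, 1, -12;
      0, 0, 0, 12, 0, 0, 0, 1]
  | 4 => !![1, 0, 0, 0, 0, 0, 0, 0;
      0, 1, 0, 0, 0, 0, 0, 0;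
      0, 0, 1, -36, 0, 0, 0, 0;
      0, 0, 0, 1, 0, 0, 0, 0;
      0, 0, 0, 0, 1, 0, 0, 0;
      0, 0, 0, 0, 0, 1, 0, 0;
      0, 0, 0, 0, 0, 36, 1, 0;
      0, 0, 0, 0, 0, 0, 0, 1]
  | 5 => !![1, 0, 0, 0, 0, 0, 0, 0;
      0, 1, 0, 216, 0, 0, 0, 0;
      0, 0, 1, 0, 0, 0, 0, 0;
      0, 0, 0, 1, 0, 0, 0, 0;
      0, 0, 0, 0, 1, 0, 0, 0;
      0, 0, 0, 0, 0, 1, 0, 0;
      0, 0, 0, 0, -216, 0, 1, 0;
      0, 0, 0, 0, 0, 0, 0, 1]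

theorem gMat_mul_inv : ∀ i, gMat i * gMatInv i = 1 ∧ gMatInv i * gMat i = 1 := by decide +kernel

theorem gMat_cube : ∀ i, (gMat i - 1) * (gMat i - 1) * (gMat i - 1) = 0 := by decide +kernel

/-- The six integral units. -/
def gInt (i : Fin 6) : GL (Fin 8) ℤ := ⟨gMat i, gMatInv i, (gMat_mul_inv i).1, (gMat_mul_inv i).2⟩

theorem gInt_rel :
    gInt 0 * gInt 1 = gInt 2 * (gInt 1 * gInt 0) ∧ gInt 0 * gInt 2 = gInt 3 * (gInt 2 * gInt 0) ∧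
    gInt 0 * gInt 3 = gInt 4 * (gInt 3 * gInt 0) ∧ gInt 1 * gInt 3 = gInt 5 * (gInt 3 * gInt 1) ∧
    gInt 1 * gInt 4 = gInt 5 * (gInt 4 * gInt 1) ∧ gInt 5 * (gInt 2 * gInt 3) = gInt 3 * gInt 2 ∧
    gInt 0 * gInt 4 = gInt 4 * gInt 0 ∧ gInt 1 * gInt 2 = gInt 2 * gInt 1 ∧
    gInt 2 * gInt 4 = gInt 4 * gInt 2 ∧ gInt 3 * gInt 4 = gInt 4 * gInt 3 ∧
    ∀ i, gInt 5 * gInt i = gInt i * gInt 5 := by
  refine ⟨?_, ?_, ?_, ?_, ?_, ?_, ?_, ?_, ?_, ?_, ?_⟩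
  all_goals first | (refine Units.ext ?_; decide +kernel) | (intro i; refine Units.ext ?_; revert i; decide +kernel)

variable (R : Type u) [CommRing R]

/-- Their images over a ring. -/
def gRing (i : Fin 6) : GL (Fin 8) R := Matrix.GeneralLinearGroup.map (Int.castRingHom R) (gInt i)

theorem gRing_val (i : Fin 6) :
    ((gRing R i : GL (Fin 8) R) : Matrix (Fin 8) (Fin 8) R) = (gMat i).map fun n => (n : R) := rfl

theorem gRing_mem (i : Fin 6) : gRing R i ∈ mulAut R (zornMul (F := R)) := by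
  intro x y
  show ((gRing R i : GL (Fin 8) R) : Matrix (Fin 8) (Fin 8) R) *ᵥ zornMul x y =
    zornMul (((gRing R i : GL (Fin 8) R) : Matrix (Fin 8) (Fin 8) R) *ᵥ x)
      (((gRing R i : GL (Fin 8) R) : Matrix (Fin 8) (Fin 8) R) *ᵥ y)
  rw [gRing_val]
  funext j
  fin_cases i <;> fin_cases j <;>
    simp [gMat, Matrix.mulVec, dotProduct, Fin.sum_univ_succ, zornMul, dot3, cross3] <;> ring

theorem gRing_pow (p : ℕ) [hp : Fact p.Prime] [CharP R p] (h3 : 3 ≤ p) (i : Fin 6) : gRing R i ^ p = 1 := by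
  refine Units.ext ?_
  rw [Units.val_pow_eq_pow_val, Units.val_one]
  refine pow_char_eq_one ?_
  have e : ((gRing R i : GL (Fin 8) R) : Matrix (Fin 8) (Fin 8) R) - 1 =
      (Int.castRingHom R).mapMatrix (gMat i - 1) := by rw [map_sub, map_one]; rfl
  obtain ⟨k, hk⟩ : ∃ k, p = 3 + k := ⟨p - 3, by omega⟩
  have e3 : (gMat i - 1) ^ 3 = 0 := by rw [pow_succ, sq]; exact gMat_cube i
  rw [e, ← map_pow, hk, pow_add, e3, zero_mul, map_zero]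

theorem model_G2_rels (p : ℕ) [hp : Fact p.Prime] (h5 : 5 ≤ p) :
    ∃ g : Fin 6 → Cfsg.Lie.G2 (ZMod p), Rels (G2T p) g ∧ g 5 ≠ 1 := by
  haveI : Fact (1 < p) := ⟨hp.out.one_lt⟩
  haveI : Nontrivial (Fin 8) := inferInstance
  set f : Fin 6 → GL (Fin 8) (ZMod p) := gRing (ZMod p) with hf
  let φ := Matrix.GeneralLinearGroup.map (n := Fin 8) (Int.castRingHom (ZMod p))
  have m : ∀ {a b c d : Fin 6}, gInt a * gInt b = gInt c * gInt d → f a * f b = f c * f d := fun {a b c d} e => by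
    show φ _ * φ _ = φ _ * φ _
    rw [← map_mul, ← map_mul, e]
  have m3 : ∀ {a b c : Fin 6}, gInt a * gInt b = gInt c * (gInt b * gInt a) → ⁅f a, f b⁆ = f c :=
    fun {a b c} e => comm_of_mul (by
      show φ _ * φ _ = φ _ * (φ _ * φ _)
      rw [← map_mul, ← map_mul, ← map_mul, e])
  obtain ⟨r01, r02, r03, r13, r14, r23, c04, c12, c24, c34, cz⟩ := gInt_rel
  have hR : Rels (G2T p) ![f 0, f 1, f 2, f 3, f 4, f 5] := ChainRel.rels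
    { px := gRing_pow _ p (by omega) 0
      pv₁ := gRing_pow _ p (by omega) 1
      pv₂ := gRing_pow _ p (by omega) 2
      pv₃ := gRing_pow _ p (by omega) 3
      pv₄ := gRing_pow _ p (by omega) 4
      pz := gRing_pow _ p (by omega) 5
      xv₁ := m3 r01
      xv₂ := m3 r02
      xv₃ := m3 r03
      xv₄ := m c04
      v₁v₂ := by rw [ZMod.val_zero, pow_zero]; exact commutatorElement_eq_one_iff_commute.2 (m c12)
      v₁v₃ := m3 r13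
      v₁v₄ := m3 r14
      v₂v₃ := comm_inv_of_mul (by
        show φ _ * (φ _ * φ _) = φ _ * φ _
        rw [← map_mul, ← map_mul, ← map_mul, r23])
      v₂v₄ := m c24
      v₃v₄ := m c34
      zx := m (cz 0)
      zv₁ := m (cz 1)
      zv₂ := m (cz 2)
      zv₃ := m (cz 3)
      zv₄ := m (cz 4) }
  have hmem : ∀ i, ![f 0, f 1, f 2, f 3, f 4, f 5] i ∈ Cfsg.Lie.G2 (ZMod p) := by
    intro i
    fin_cases i <;> exact gRing_mem _ _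
  refine ⟨fun i => ⟨_, hmem i⟩, hR.codRestrict hmem, fun e => ?_⟩
  have e1 : ((f 5 : GL (Fin 8) (ZMod p)) : Matrix (Fin 8) (Fin 8) (ZMod p)) 1 3 = 0 := by
    have := congrArg Subtype.val e
    rw [show (f 5 : GL (Fin 8) (ZMod p)) = 1 from this]
    simp
  rw [hf, gRing_val] at e1
  simp [gMat] at e1
  have e2 : ((216 : ℕ) : ZMod p) = 0 := by exact_mod_cast e1
  rw [ZMod.natCast_eq_zero_iff, show (216 : ℕ) = 2 ^ 3 * 3 ^ 3 from rfl] at e2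
  rcases hp.out.dvd_mul.1 e2 with h | h <;>
  · have := Nat.le_of_dvd (by norm_num) (hp.out.dvd_of_dvd_pow h)
    omega

end Cfsg.Lib.Fusion.ExIdxP.NormalForm
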