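import Cfsg.Agent.Fusion.ExIdxP.ModelG2
import Cfsg.Agent.Known.TwoClassCover.GTwo
import Cfsg.Agent.Classical.SLExtra

/-!
The order of the automorphism group of the split octonions, from its action on idempotents.
-/

set_option autoImplicit false

open Matrix Cfsg.Lie Cfsg.Lib.G2Zorn Cfsg.Lib.TwoClassCover

namespace Cfsg.Lib.Fusion.ExIdxP.NormalForm

universe u

variable {F : Type u} [Field F]

/-- The diagonal idempotent. -/
def idem0 : Fin 8 → F := ![1, 0, 0, 0, 0, 0, 0, 0]

/-- A vector placed in the upper corner. -/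
def upVec (a : Fin 3 → F) : Fin 8 → F := ![0, a 0, a 1, a 2, 0, 0, 0, 0]

/-- A vector placed in the lower corner. -/
def downVec (b : Fin 3 → F) : Fin 8 → F := ![0, 0, 0, 0, b 0, b 1, b 2, 0]

theorem exists_to_std_zero [Fintype F] (hq : 3 ≤ Fintype.card F) {x : Fin 8 → F} (hx : Spec 0 x) :
    ∃ φ : ↥(G2 F), app φ x = std 0 := by
  have hflat : ∀ y : Fin 8 → F, Spec 0 y → y 2 = 0 → y 3 = 0 → y 5 = 0 → y 6 = 0 →
      ∃ φ : ↥(G2 F), app φ y = std 0 := by
    intro y hy e2 e3 e5 e6
    have hE : y = E !![y 0, y 1; y 4, y 7] 0 := by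
      funext i; fin_cases i <;> simp [E, e2, e3, e5, e6]
    rw [hE]
    refine exists_to_std_quat 0 _ hy.1 ?_ ?_
    · rw [← hy.2]
      simp [Matrix.det_fin_two, oNorm, dot3, e2, e3]
    · rintro ⟨h1, h2, h⟩
      have h1' : y 1 = 0 := h1
      have h' : y 0 = y 7 := h
      have hn := hy.2
      simp [oNorm, dot3, e2, e3, h1', ← h'] at hn
      exact one_ne_zero (α := F) (by rw [← hy.1, ← h', hn, add_zero])
  have hdot : ∀ y : Fin 8 → F, Spec 0 y → y 0 * (1 - y 0) ≠ 0 →
      ∃ φ : ↥(G2 F), app φ y = std 0 := by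
    intro y hy hne
    obtain ⟨φ, e2, e3, e5, e6⟩ := exists_flatten (x := y) (fun h => hne (by
      have h' := hy.2
      rw [oNorm, h] at h'
      linear_combination h' - y 0 * hy.1))
    obtain ⟨ψ, hψ⟩ := hflat _ (hy.app φ) e2 e3 e5 e6
    exact ⟨ψ * φ, by rw [app_mul, hψ]⟩
  obtain ⟨r, hr⟩ := exists_alpha hq (0 : F)
  by_cases hB : zB F x ≠ 0
  · obtain ⟨σ, hσ, -, -⟩ := exists_move_B hB
    obtain ⟨⟨φ, hφ⟩, -⟩ := exists_unip ((r - app σ x 0) * (app σ x 4)⁻¹)
    obtain ⟨ψ, hψ⟩ := hdot _ ((hx.app σ).app φ) (by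
      rw [hφ, mul_assoc, inv_mul_cancel₀ hσ, mul_one, add_sub_cancel]; exact hr)
    exact ⟨ψ * φ * σ, by rw [app_mul, app_mul, hψ]⟩
  push Not at hB
  by_cases hA : zA F x ≠ 0
  · obtain ⟨σ, hσ, -, -⟩ := exists_move_A hA
    obtain ⟨-, ⟨φ, hφ⟩⟩ := exists_unip ((app σ x 0 - r) * (app σ x 1)⁻¹)
    obtain ⟨ψ, hψ⟩ := hdot _ ((hx.app σ).app φ) (by
      rw [hφ, mul_assoc, inv_mul_cancel₀ hσ, mul_one, sub_sub_cancel]; exact hr)
    exact ⟨ψ * φ * σ, by rw [app_mul, app_mul, hψ]⟩
  push Not at hA
  exact hflat x hx (congrFun hA 1) (congrFun hA 2) (congrFun hB 1) (congrFun hB 2)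

theorem spec_idem0 : Spec (0 : F) idem0 := by
  simp [Spec, idem0, oNorm, dot3]

theorem stab_idem0 (φ : ↥(G2 F)) (hφ : app φ idem0 = idem0) :
    ∃ A : Matrix (Fin 3) (Fin 3) F, A.det = 1 ∧ ∀ x, app φ x = slLin A x := by
  have hup : ∀ y : Fin 8 → F, zornMul idem0 y = y → zornMul y idem0 = 0 → y = upVec (zA F y) := by
    intro y h1 h2
    have e0 := congrFun h2 0; have e4 := congrFun h2 4; have e5 := congrFun h2 5; have e6 := congrFun h2 6
    have e7 := congrFun h1 7
    simp [idem0, zornMul, dot3, cross3] at e0 e4 e5 e6 e7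
    funext i
    fin_cases i <;> simp [upVec, e0, e4, e5, e6, ← e7]
  let A : Matrix (Fin 3) (Fin 3) F := Matrix.of fun i j => zA F (app φ (upVec (Pi.single j 1))) i
  have hUp : ∀ a, app φ (upVec a) = upVec (A *ᵥ a) := by
    intro a
    have key : ∀ b, app φ (upVec b) = upVec (zA F (app φ (upVec b))) := fun b => by
      refine hup _ ?_ ?_
      · conv_lhs => rw [← hφ]
        rw [← app_zornMul]
        congr 1
        funext i; fin_cases i <;> simp [idem0, upVec, zornMul, dot3, cross3]
      · conv_lhs => rw [← hφ]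
        rw [← app_zornMul, show zornMul (upVec b) idem0 = 0 by
          funext i; fin_cases i <;> simp [idem0, upVec, zornMul, dot3, cross3]]
        simp [app]
    have hsum : upVec a = a 0 • upVec (Pi.single 0 1) + a 1 • upVec (Pi.single 1 1) + a 2 • upVec (Pi.single 2 1) := by
      funext i; fin_cases i <;> simp [upVec]
    conv_lhs => rw [hsum, app_add, app_add, app_smul, app_smul, app_smul, key, key (Pi.single 1 1), key (Pi.single 2 1)]
    funext i
    fin_cases i <;> simp [upVec, A, Matrix.mulVec, dotProduct, Fin.sum_univ_three] <;> ring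
  have hcross : ∀ a c : Fin 3 → F, zornMul (upVec a) (upVec c) = downVec (cross3 a c) := fun a c => by
    funext i; fin_cases i <;> simp [upVec, downVec, zornMul, dot3, cross3]
  have hDownC : ∀ a c : Fin 3 → F, app φ (downVec (cross3 a c)) = downVec (A.adjugateᵀ *ᵥ cross3 a c) := fun a c => by
    rw [← hcross, app_zornMul, hUp, hUp, hcross, cross3_map]
  have hDown : ∀ b, app φ (downVec b) = downVec (A.adjugateᵀ *ᵥ b) := by
    intro b
    have hsum : downVec b = b 0 • downVec (cross3 ![0, 1, 0] ![0, 0, 1]) +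
        b 1 • downVec (cross3 ![0, 0, 1] ![1, 0, 0]) + b 2 • downVec (cross3 ![1, 0, 0] ![0, 1, 0]) := by
      funext i; fin_cases i <;> simp [downVec, cross3]
    conv_lhs => rw [hsum, app_add, app_add, app_smul, app_smul, app_smul, hDownC, hDownC, hDownC]
    funext i
    fin_cases i <;> simp [downVec, cross3, Matrix.mulVec, dotProduct, Fin.sum_univ_three] <;> ring
  have hdet : A.det = 1 := by
    have hpair : ∀ a b : Fin 3 → F, zornMul (upVec a) (downVec b) = dot3 a b • idem0 := fun a b => by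
      funext i; fin_cases i <;> simp [upVec, downVec, idem0, zornMul, dot3, cross3]
    have h := app_zornMul φ (upVec ![1, 0, 0]) (downVec ![1, 0, 0])
    rw [hpair, app_smul, hφ, hUp, hDown, hpair, dot3_map] at h
    simpa [idem0, dot3] using (congrFun h 0).symm
  refine ⟨A, hdet, fun x => ?_⟩
  have hsum : x = x 0 • idem0 + upVec (zA F x) + downVec (zB F x) + x 7 • (oOne F + (-1 : F) • idem0) := by
    funext i; fin_cases i <;> simp [idem0, upVec, downVec, oOne]
  conv_lhs => rw [hsum, app_add, app_add, app_add, app_smul, app_smul, app_add, app_smul, hφ, app_oOne, hUp, hDown]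
  obtain ⟨h0, ha, hb, h7⟩ := slLin_parts A x
  funext i
  fin_cases i <;> simp [idem0, upVec, downVec, oOne, slLin]

theorem card_dot_one_sub [Fintype F] :
    Nat.card {w : (Fin 3 → F) × F × (Fin 3 → F) // dot3 w.1 w.2.2 = w.2.1 * (1 - w.2.1)} =
      Fintype.card F ^ 6 + Fintype.card F ^ 3 := by
  classical
  let q := Fintype.card F
  have hfib : ∀ a : Fin 3 → F, Nat.card {v : F × (Fin 3 → F) // dot3 a v.2 = v.1 * (1 - v.1)} =
      if a = 0 then 2 * q ^ 3 else q ^ 3 := by
    intro a
    by_cases ha : a = 0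
    · subst ha
      rw [if_pos rfl]
      have e : {v : F × (Fin 3 → F) // dot3 (0 : Fin 3 → F) v.2 = v.1 * (1 - v.1)} ≃
          ↥({0, 1} : Finset F) × (Fin 3 → F) :=
        { toFun := fun v => (⟨v.1.1, by
            have h := v.2
            simp [dot3, eq_comm (a := (0 : F)), sub_eq_zero] at h
            rcases h with h | h
            · simp [h]
            · simp [← h]⟩, v.1.2)
          invFun := fun w => ⟨(w.1, w.2), by
            rcases Finset.mem_insert.1 w.1.2 with h | h
            · simp [dot3, h]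
            · simp [dot3, Finset.mem_singleton.1 h]⟩
          left_inv := fun v => rfl
          right_inv := fun w => rfl }
      rw [Nat.card_congr e, Nat.card_prod, Nat.card_eq_fintype_card, Fintype.card_coe, Finset.card_pair zero_ne_one,
        Nat.card_eq_fintype_card, Fintype.card_fun, Fintype.card_fin]
    · rw [if_neg ha]
      obtain ⟨i, hi⟩ : ∃ i, a i ≠ 0 := by
        by_contra hh; push Not at hh; exact ha (funext hh)
      have hdot : ∀ b : Fin 3 → F, dot3 a b = a i * b i + ∑ j ∈ Finset.univ.erase i, a j * b j := fun b => by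
        rw [Finset.add_sum_erase _ (fun j => a j * b j) (Finset.mem_univ i), Fin.sum_univ_three]; rfl
      have e : {v : F × (Fin 3 → F) // dot3 a v.2 = v.1 * (1 - v.1)} ≃ F × ({j // j ≠ i} → F) :=
        { toFun := fun v => (v.1.1, fun j => v.1.2 j)
          invFun := fun w => ⟨(w.1, fun j => if h : j = i then
              (a i)⁻¹ * (w.1 * (1 - w.1) - ∑ k ∈ Finset.univ.erase i, if hk : k = i then 0 else a k * w.2 ⟨k, hk⟩)
            else w.2 ⟨j, h⟩), by
            rw [hdot]
            dsimp only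
            rw [dif_pos rfl, ← mul_assoc, mul_inv_cancel₀ hi, one_mul, sub_add_eq_add_sub, sub_eq_iff_eq_add]
            congr 1
            exact Finset.sum_congr rfl fun k hk => by simp [(Finset.mem_erase.1 hk).1]⟩
          left_inv := fun v => by
            refine Subtype.ext (Prod.ext rfl (funext fun j => ?_))
            by_cases h : j = i
            · subst h
              simp only [dif_pos]
              have hv := v.2
              rw [hdot] at hv
              rw [← hv]
              rw [show (∑ k ∈ Finset.univ.erase j, if hk : k = j then 0 else a k * v.1.2 k) =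
                ∑ k ∈ Finset.univ.erase j, a k * v.1.2 k from
                  Finset.sum_congr rfl fun k hk => dif_neg (Finset.mem_erase.1 hk).1,
                add_sub_cancel_right, ← mul_assoc, inv_mul_cancel₀ hi, one_mul]
            · simp [h]
          right_inv := fun w => Prod.ext rfl (funext fun j => by simp [j.2]) }
      rw [Nat.card_congr e, Nat.card_prod, Nat.card_eq_fintype_card, Nat.card_eq_fintype_card, Fintype.card_fun,
        Fintype.card_subtype_compl, Fintype.card_subtype_eq, Fintype.card_fin]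
      show q * q ^ 2 = q ^ 3
      ring
  rw [Nat.card_congr ((Equiv.subtypeProdEquivSigmaSubtype
    fun (a : Fin 3 → F) (v : F × (Fin 3 → F)) => dot3 a v.2 = v.1 * (1 - v.1))), Nat.card_sigma]
  simp only [hfib]
  rw [← Finset.add_sum_erase _ _ (Finset.mem_univ (0 : Fin 3 → F)), if_pos rfl,
    Finset.sum_congr rfl (fun a ha => if_neg (Finset.mem_erase.1 ha).1), Finset.sum_const,
    Finset.card_erase_of_mem (Finset.mem_univ _), Finset.card_univ, Fintype.card_fun, Fintype.card_fin, smul_eq_mul]
  have h1 : 1 ≤ q ^ 3 := Nat.one_le_pow _ _ Fintype.card_pos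
  show 2 * q ^ 3 + (q ^ 3 - 1) * q ^ 3 = q ^ 6 + q ^ 3
  rw [show q ^ 6 = q ^ 3 * q ^ 3 by ring]
  nlinarith [Nat.sub_add_cancel h1]

theorem card_G2_mul [Fintype F] (hq : 3 ≤ Fintype.card F) :
    Nat.card ↥(G2 F) = (Fintype.card F ^ 6 + Fintype.card F ^ 3) *
      Nat.card (Matrix.SpecialLinearGroup (Fin 3) F) := by
  classical
  letI : MulAction ↥(G2 F) (Fin 8 → F) :=
    { smul := fun φ x => app φ x
      one_smul := fun x => by show app 1 x = x; simp [app]
      mul_smul := fun φ ψ x => app_mul φ ψ x }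
  have horb : Nat.card (MulAction.orbit ↥(G2 F) (idem0 : Fin 8 → F)) =
      Fintype.card F ^ 6 + Fintype.card F ^ 3 := by
    rw [← card_dot_one_sub (F := F)]
    have hs : ∀ x, x ∈ MulAction.orbit ↥(G2 F) (idem0 : Fin 8 → F) ↔ Spec 0 x := fun x => by
      constructor
      · rintro ⟨φ, rfl⟩; exact spec_idem0.app φ
      · intro hx
        obtain ⟨φ, h1⟩ := exists_to_std_zero hq hx
        obtain ⟨ψ, h2⟩ := exists_to_std_zero hq (spec_idem0 (F := F))
        refine ⟨φ⁻¹ * ψ, ?_⟩
        show app (φ⁻¹ * ψ) idem0 = x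
        rw [app_mul, h2, ← h1, app_self_inv]
    refine Nat.card_congr
      { toFun := fun x => ⟨(zA F x.1, x.1 0, zB F x.1), by
          have h := (hs _).1 x.2
          have h1 := h.1; have h2 := h.2
          rw [oNorm] at h2
          show dot3 (zA F x.1) (zB F x.1) = x.1 0 * (1 - x.1 0)
          linear_combination x.1 0 * h1 - h2⟩
        invFun := fun w => ⟨![w.1.2.1, w.1.1 0, w.1.1 1, w.1.1 2, w.1.2.2 0, w.1.2.2 1, w.1.2.2 2, 1 - w.1.2.1],
          (hs _).2 ⟨by simp, by
            have h := w.2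
            simp [oNorm, dot3] at h ⊢
            linear_combination -h⟩⟩
        left_inv := fun x => by
          have h1 := ((hs _).1 x.2).1
          refine Subtype.ext (funext fun i => ?_)
          fin_cases i <;> simp
          linear_combination -h1
        right_inv := fun w => by
          refine Subtype.ext (Prod.ext ?_ (Prod.ext rfl ?_)) <;> funext i <;> fin_cases i <;> rfl }
  have hstab : Nat.card (MulAction.stabilizer ↥(G2 F) (idem0 : Fin 8 → F)) =
      Nat.card (Matrix.SpecialLinearGroup (Fin 3) F) := by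
    choose el hel using fun A : Matrix.SpecialLinearGroup (Fin 3) F => exists_slElem (F := F) A.2
    have hfix : ∀ A, el A ∈ MulAction.stabilizer ↥(G2 F) (idem0 : Fin 8 → F) := fun A => by
      show app (el A) idem0 = idem0
      rw [hel]
      funext i; fin_cases i <;> simp [slLin, idem0, Matrix.mulVec, dotProduct, Fin.sum_univ_three]
    refine (Nat.card_congr (Equiv.ofBijective
      (fun A => (⟨el A, hfix A⟩ : MulAction.stabilizer ↥(G2 F) (idem0 : Fin 8 → F))) ⟨fun A B e => ?_, fun φ => ?_⟩)).symm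
    · refine Subtype.ext (Matrix.ext_of_mulVec_single fun j => ?_)
      have e' := congrArg (fun φ => zA F (app φ (upVec (Pi.single j 1))))
        (congrArg Subtype.val e)
      simp only [hel, (slLin_parts _ _).2.1] at e'
      have hz : zA F (upVec (Pi.single j (1 : F))) = Pi.single j 1 := by funext i; fin_cases i <;> rfl
      rw [hz] at e'
      simpa using e'
    · obtain ⟨A, hA, h⟩ := stab_idem0 φ.1 φ.2
      refine ⟨⟨A, hA⟩, Subtype.ext (app_ext fun a b => ?_)⟩
      exact (hel (⟨A, hA⟩ : Matrix.SpecialLinearGroup (Fin 3) F) (E a b)).trans (h (E a b)).symm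
  rw [← horb, ← hstab, ← Nat.card_prod]
  exact (Nat.card_congr (MulAction.orbitProdStabilizerEquivGroup ↥(G2 F) (idem0 : Fin 8 → F))).symm

theorem model_G2 (p : ℕ) [hp : Fact p.Prime] (h5 : 5 ≤ p) :
    (Nat.card (Cfsg.Lie.G2 (ZMod p))).factorization p = 6 ∧
      ∃ g : Fin 6 → Cfsg.Lie.G2 (ZMod p), Rels (G2T p) g ∧ g 5 ≠ 1 := by
  refine ⟨?_, model_G2_rels p h5⟩
  have hs := Cfsg.Lib.Classical.card_SL_mul_eq_prod (F := ZMod p) (n := 3) (by norm_num)
  rw [ZMod.card, Fin.prod_univ_three] at hs
  simp only [Fin.val_zero, Fin.val_one, Fin.val_two] at hs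
  have hG := card_G2_mul (F := ZMod p) (by rw [ZMod.card]; omega)
  rw [ZMod.card] at hG
  refine factorization_of_eq (m := (p ^ 3 + 1) * ((p ^ 3 - 1) * (p ^ 2 - 1))) ?_ ?_
  · have hS : Nat.card (Matrix.SpecialLinearGroup (Fin 3) (ZMod p)) = p ^ 3 * ((p ^ 3 - 1) * (p ^ 2 - 1)) := by
      refine Nat.eq_of_mul_eq_mul_left (show 0 < p - 1 by omega) (hs.trans ?_)
      have e : ∀ i j : ℕ, p ^ (i + j) - p ^ i = p ^ i * (p ^ j - 1) := fun i j => by
        rw [Nat.mul_sub, mul_one, pow_add]
      rw [show p ^ 3 - p ^ 1 = p ^ (1 + 2) - p ^ 1 from rfl, show p ^ 3 - p ^ 2 = p ^ (2 + 1) - p ^ 2 from rfl,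
        e, e, pow_zero, pow_one]
      ring
    rw [hG, hS]
    ring
  · intro hd
    have key : ∀ k : ℕ, 0 < k → ¬ p ∣ p ^ k - 1 := fun k hk h' => hp.out.not_dvd_one (by
      have := Nat.dvd_sub (dvd_pow_self p hk.ne') h'
      rwa [Nat.sub_sub_self (Nat.one_le_pow _ _ hp.out.pos)] at this)
    rcases hp.out.dvd_mul.1 hd with hd | hd
    · exact hp.out.not_dvd_one ((Nat.dvd_add_right (dvd_pow_self p three_ne_zero)).1 hd)
    · rcases hp.out.dvd_mul.1 hd with hd | hd
      exacts [key 3 (by norm_num) hd, key 2 (by norm_num) hd]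

end Cfsg.Lib.Fusion.ExIdxP.NormalForm
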