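import Cfsg.Agent.Fusion.ExIdxP.ModelBase
import Cfsg.Agent.Classical.SLExtra

/-!
The first table is realised by unipotent elements of the four dimensional special linear group.
-/

set_option autoImplicit false

namespace Cfsg.Lib.Fusion.ExIdxP.NormalForm

open Matrix
open scoped commutatorElement

universe u

variable {R : Type u} [CommRing R]

/-- An upper unitriangular element. -/
def upSL (a b c d e f : R) : Matrix.SpecialLinearGroup (Fin 4) R :=
  ⟨!![1, a, b, c; 0, 1, d, e; 0, 0, 1, f; 0, 0, 0, 1],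
    by simp [Matrix.det_succ_row_zero, Fin.sum_univ_succ, Fin.succAbove]⟩

theorem upSL_mul (a b c d e f a' b' c' d' e' f' : R) :
    upSL a b c d e f * upSL a' b' c' d' e' f' =
      upSL (a + a') (b' + a * d' + b) (c' + a * e' + b * f' + c) (d + d') (e' + d * f' + e) (f + f') := by
  refine Subtype.ext ?_
  rw [Matrix.SpecialLinearGroup.coe_mul]
  simp only [upSL]
  ext i j
  fin_cases i <;> fin_cases j <;>
    simp [Matrix.mul_apply, Fin.sum_univ_four] <;> ring

theorem upSL_zero : upSL (R := R) 0 0 0 0 0 0 = 1 := by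
  refine Subtype.ext ?_
  ext i j
  fin_cases i <;> fin_cases j <;> simp [upSL]

theorem upSL_pow (a b c d e f : R) (h1 : a * d = 0) (h2 : a * e + b * f = 0) (h3 : d * f = 0) (n : ℕ) :
    upSL a b c d e f ^ n = upSL (n * a) (n * b) (n * c) (n * d) (n * e) (n * f) := by
  induction n with
  | zero => simp [upSL_zero]
  | succ n ih =>
    rw [pow_succ, ih, upSL_mul]
    push_cast
    congr 1
    all_goals first | linear_combination (n : R) * h1 | linear_combination (n : R) * h2 |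
      linear_combination (n : R) * h3 | ring

variable (p : ℕ) [hp : Fact p.Prime]

theorem upSL_pow_prime [CharP R p] (a b c d e f : R) (h1 : a * d = 0) (h2 : a * e + b * f = 0) (h3 : d * f = 0) :
    upSL a b c d e f ^ p = 1 := by
  rw [upSL_pow a b c d e f h1 h2 h3]
  simp [upSL_zero]

local notation "S₄" => Matrix.SpecialLinearGroup (Fin 4) (ZMod p)

theorem model_SL (h2 : (2 : ZMod p) ≠ 0) :
    ∃ g : Fin 6 → S₄, Rels (TwoT p 1 (-1)) g ∧ g 5 ≠ 1 := by
  haveI : Fact (1 < p) := ⟨hp.out.one_lt⟩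
  set x : S₄ := upSL 0 0 0 1 0 0 with hx
  set v₁ : S₄ := upSL 1 0 0 0 0 1 with hv₁
  set v₂ : S₄ := upSL 1 0 0 0 0 (-1) with hv₂
  set k₁ : S₄ := upSL 0 (-1) 1 0 1 0 with hk₁
  set k₂ : S₄ := upSL 0 (-1) (-1) 0 (-1) 0 with hk₂
  set z : S₄ := upSL 0 0 2 0 0 0 with hz
  have pw : ∀ a b c d e f : ZMod p, a * d = 0 → a * e + b * f = 0 → d * f = 0 → upSL a b c d e f ^ p = 1 :=
    fun a b c d e f h1 h2 h3 => by
      rw [upSL_pow a b c d e f h1 h2 h3]
      simp [upSL_zero]
  have cm : ∀ {a b c : S₄}, a * b = c * (b * a) → ⁅a, b⁆ = c := comm_of_mul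
  have hm : z ^ (-1 : ZMod p).val = z⁻¹ := by
    refine eq_inv_of_mul_eq_one_left ?_
    rw [hz, upSL_pow 0 0 2 0 0 0 (by ring) (by ring) (by ring), upSL_mul, ← upSL_zero]
    congr 1 <;> simp [ZMod.natCast_zmod_val]
  refine ⟨![x, v₁, v₂, k₁, k₂, z], TwoRel.rels
    { px := pw _ _ _ _ _ _ (by ring) (by ring) (by ring)
      pv₁ := pw _ _ _ _ _ _ (by ring) (by ring) (by ring)
      pv₂ := pw _ _ _ _ _ _ (by ring) (by ring) (by ring)
      pk₁ := pw _ _ _ _ _ _ (by ring) (by ring) (by ring)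
      pk₂ := pw _ _ _ _ _ _ (by ring) (by ring) (by ring)
      pz := pw _ _ _ _ _ _ (by ring) (by ring) (by ring)
      xv₁ := cm ?_
      xv₂ := cm ?_
      xk₁ := ?_
      xk₂ := ?_
      vv := ?_
      v₁k₁ := ?_
      v₁k₂ := ?_
      v₂k₁ := ?_
      v₂k₂ := ?_
      kk := ?_
      zx := ?_
      zv₁ := ?_
      zv₂ := ?_
      zk₁ := ?_
      zk₂ := ?_ }, ?_⟩
  case refine_1 => simp only [hx, hv₁, hk₁, upSL_mul]; congr 1 <;> ring
  case refine_2 => simp only [hx, hv₂, hk₂, upSL_mul]; congr 1 <;> ring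
  case refine_6 =>
    rw [ZMod.val_one, pow_one]
    refine cm ?_
    simp only [hv₁, hk₁, hz, upSL_mul]; congr 1 <;> ring
  case refine_9 =>
    rw [hm]
    refine comm_inv_of_mul ?_
    simp only [hv₂, hk₂, hz, upSL_mul]; congr 1 <;> ring
  case refine_16 =>
    intro h
    have := congrFun (congrFun (congrArg Subtype.val h) 0) 3
    simp [hz, upSL] at this
    exact h2 this
  all_goals
    show _ * _ = _ * _
    simp only [hx, hv₁, hv₂, hk₁, hk₂, hz, upSL_mul]
    congr 1 <;> ring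

theorem factorization_SL : (Nat.card S₄).factorization p = 6 := by
  have h1 : 1 ≤ p := hp.out.one_le
  have h := Cfsg.Lib.Classical.card_SL_mul_eq_prod (F := ZMod p) (n := 4) (by norm_num)
  rw [ZMod.card, Fin.prod_univ_four] at h
  simp only [Fin.val_zero, Fin.val_one, Fin.val_two] at h
  refine factorization_of_eq (m := (p ^ 4 - 1) * (p ^ 3 - 1) * (p ^ 2 - 1)) ?_ ?_
  · refine Nat.eq_of_mul_eq_mul_left (show 0 < p - 1 by have := hp.out.two_le; omega) (h.trans ?_)
    have e : ∀ i j : ℕ, p ^ (i + j) - p ^ i = p ^ i * (p ^ j - 1) := fun i j => by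
      rw [Nat.mul_sub, mul_one, pow_add]
    rw [show ((3 : Fin 4) : ℕ) = 3 from rfl, show p ^ 4 - p ^ 1 = p ^ (1 + 3) - p ^ 1 from rfl,
      show p ^ 4 - p ^ 2 = p ^ (2 + 2) - p ^ 2 from rfl, show p ^ 4 - p ^ 3 = p ^ (3 + 1) - p ^ 3 from rfl,
      e, e, e, pow_zero, pow_one]
    ring
  · intro hd
    have key : ∀ k : ℕ, 0 < k → ¬ p ∣ p ^ k - 1 := fun k hk h' => hp.out.not_dvd_one (by
      have := Nat.dvd_sub (dvd_pow_self p hk.ne') h'
      rwa [Nat.sub_sub_self (Nat.one_le_pow _ _ hp.out.pos)] at this)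
    rcases hp.out.dvd_mul.1 hd with hd | hd
    · rcases hp.out.dvd_mul.1 hd with hd | hd
      exacts [key 4 (by norm_num) hd, key 3 (by norm_num) hd]
    · exact key 2 (by norm_num) hd

end Cfsg.Lib.Fusion.ExIdxP.NormalForm
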