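import Cfsg.Agent.Fusion.ExIdxP.ModelSL
import Cfsg.Agent.Classical.Unitary.Matrix

/-!
The first table, with a non-square parameter, is realised in the four dimensional special unitary group.
-/

set_option autoImplicit false

namespace Cfsg.Lib.Fusion.ExIdxP.NormalForm

open Matrix
open scoped commutatorElement

universe u

variable {K : Type u} [Field K]

/-- The frame: two hyperbolic pairs. -/
def frame (h a : K) : Matrix (Fin 4) (Fin 4) K :=
  !![1, 0, 0, h; a, 0, 0, -(h * a); 0, 1, h, 0; 0, a, -(h * a), 0]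

/-- Its inverse. -/
def frameInv (h b : K) : Matrix (Fin 4) (Fin 4) K :=
  !![h, h * b, 0, 0; 0, 0, h, h * b; 0, 0, 1, -b; 1, -b, 0, 0]

theorem frame_mul (h a b : K) (hh : 2 * h = 1) (hab : a * b = 1) :
    frame h a * frameInv h b = 1 ∧ frameInv h b * frame h a = 1 := by
  constructor <;> ext i j <;> fin_cases i <;> fin_cases j <;>
    simp [frame, frameInv, Matrix.mul_apply, Fin.sum_univ_four] <;>
    first
    | linear_combination hh
    | linear_combination h * hab + hh
    | linear_combination (-(h * h)) * hab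
    | linear_combination (h * h) * hab
    | linear_combination (2 * h) * hab + hh
    | linear_combination hab
    | linear_combination (-1 : K) * hab
    | ring

/-- Conjugation into the frame. -/
noncomputable def frameHom (h a b : K) (hh : 2 * h = 1) (hab : a * b = 1) :
    Matrix.SpecialLinearGroup (Fin 4) K →* Matrix.SpecialLinearGroup (Fin 4) K where
  toFun M := ⟨frame h a * (M : Matrix (Fin 4) (Fin 4) K) * frameInv h b, by
    rw [Matrix.det_mul, Matrix.det_mul, M.2, mul_one, ← Matrix.det_mul, (frame_mul h a b hh hab).1, Matrix.det_one]⟩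
  map_one' := Subtype.ext (by
    show frame h a * ((1 : Matrix.SpecialLinearGroup (Fin 4) K) : Matrix (Fin 4) (Fin 4) K) * frameInv h b = _
    rw [Matrix.SpecialLinearGroup.coe_one, mul_one, (frame_mul h a b hh hab).1])
  map_mul' M N := Subtype.ext (by
    show frame h a * ((M * N : Matrix.SpecialLinearGroup (Fin 4) K) : Matrix (Fin 4) (Fin 4) K) * frameInv h b =
      (frame h a * (M : Matrix (Fin 4) (Fin 4) K) * frameInv h b) *
        (frame h a * (N : Matrix (Fin 4) (Fin 4) K) * frameInv h b)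
    rw [Matrix.SpecialLinearGroup.coe_mul]
    simp only [← mul_assoc]
    rw [mul_assoc _ (frameInv h b) (frame h a), (frame_mul h a b hh hab).2, mul_one])

theorem frameHom_injective (h a b : K) (hh : 2 * h = 1) (hab : a * b = 1) :
    Function.Injective (frameHom h a b hh hab) := by
  intro M N e
  refine Subtype.ext ?_
  have e' : frame h a * (M : Matrix (Fin 4) (Fin 4) K) * frameInv h b =
      frame h a * (N : Matrix (Fin 4) (Fin 4) K) * frameInv h b := congrArg Subtype.val e
  have := congrArg (fun X => frameInv h b * X * frame h a) e'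
  simp only [← mul_assoc] at this
  rw [(frame_mul h a b hh hab).2, one_mul, one_mul, mul_assoc _ _ (frame h a), mul_assoc _ _ (frame h a),
    (frame_mul h a b hh hab).2, mul_one, mul_one] at this
  exact this

/-- The form of the frame. -/
def pairing (s : K →+* K) (w w' : Fin 4 → K) : K :=
  w 0 * s (w' 3) + w 3 * s (w' 0) + w 1 * s (w' 2) + w 2 * s (w' 1)

theorem frameHom_mem (q : ℕ) (s : K →+* K) (hs : ∀ x, s x = x ^ q) (h a b : K) (hh : 2 * h = 1) (hab : a * b = 1)
    (hsh : s h = h) (ha : a * s a = -1) (u₁ u₂ u₃ u₄ u₅ u₆ : K)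
    (c1 : u₁ + s u₆ = 0) (c1' : u₆ + s u₁ = 0)
    (c2 : u₂ + u₄ * s u₆ + s u₅ = 0) (c2' : s u₂ + s u₄ * u₆ + u₅ = 0)
    (c3 : u₄ + s u₄ = 0) (c4 : u₃ + s u₃ + u₅ * s u₆ + u₆ * s u₅ = 0) :
    frameHom h a b hh hab (upSL u₁ u₂ u₃ u₄ u₅ u₆) ∈ Cfsg.SU 4 K q := by
  have hP : ∀ w w', Cfsg.hermForm 4 K q (frame h a *ᵥ w) (frame h a *ᵥ w') = pairing s w w' := fun w w' => by
    simp only [Cfsg.hermForm, ← hs]
    simp [pairing, frame, Matrix.mulVec, dotProduct, Fin.sum_univ_four, hsh]
    linear_combination ((w 0 - h * w 3) * (s (w' 0) - h * s (w' 3)) +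
      (w 1 - h * w 2) * (s (w' 1) - h * s (w' 2))) * ha +
      (w 0 * s (w' 3) + w 3 * s (w' 0) + w 1 * s (w' 2) + w 2 * s (w' 1)) * hh
  have hU : ∀ w w', pairing s ((upSL u₁ u₂ u₃ u₄ u₅ u₆ : Matrix (Fin 4) (Fin 4) K) *ᵥ w)
      ((upSL u₁ u₂ u₃ u₄ u₅ u₆ : Matrix (Fin 4) (Fin 4) K) *ᵥ w') = pairing s w w' := fun w w' => by
    simp [pairing, upSL, Matrix.mulVec, dotProduct, Fin.sum_univ_four]
    linear_combination w 1 * s (w' 3) * c1 + w 3 * s (w' 1) * c1' + w 2 * s (w' 3) * c2 +
      w 3 * s (w' 2) * c2' + w 2 * s (w' 2) * c3 + w 3 * s (w' 3) * c4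
  intro u v
  show Cfsg.hermForm 4 K q
      ((frame h a * (upSL u₁ u₂ u₃ u₄ u₅ u₆ : Matrix (Fin 4) (Fin 4) K) * frameInv h b) *ᵥ u)
      ((frame h a * (upSL u₁ u₂ u₃ u₄ u₅ u₆ : Matrix (Fin 4) (Fin 4) K) * frameInv h b) *ᵥ v) = _
  rw [← Matrix.mulVec_mulVec, ← Matrix.mulVec_mulVec, ← Matrix.mulVec_mulVec, ← Matrix.mulVec_mulVec, hP, hU, ← hP,
    Matrix.mulVec_mulVec, Matrix.mulVec_mulVec, (frame_mul h a b hh hab).1, Matrix.one_mulVec, Matrix.one_mulVec]

theorem exists_pow_add_eq_neg_one (p : ℕ) [hp : Fact p.Prime] (hp2 : p ≠ 2) [Fintype K]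
    (hK : Fintype.card K = p ^ 2) : ∃ a : K, a * a ^ p = -1 := by
  classical
  obtain ⟨g, hg⟩ := IsCyclic.exists_generator (α := Kˣ)
  obtain ⟨k, hk⟩ := hp.out.odd_of_ne_two hp2
  have hord : orderOf g = p ^ 2 - 1 := by
    rw [orderOf_eq_card_of_forall_mem_zpowers hg, Nat.card_eq_fintype_card, Fintype.card_units, hK]
  have hsq : p ^ 2 - 1 = 2 * (k * (p + 1)) := by
    refine Nat.sub_eq_of_eq_add ?_
    rw [hk]; ring
  have h0 : 0 < k * (p + 1) := by
    have := hp.out.two_le
    exact Nat.mul_pos (by omega) (by omega)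
  refine ⟨((g ^ k : Kˣ) : K), ?_⟩
  have h1 : ((g : K) ^ (k * (p + 1))) * ((g : K) ^ (k * (p + 1))) = 1 := by
    rw [← pow_add, ← two_mul, ← hsq, ← hord, ← Units.val_pow_eq_pow_val, pow_orderOf_eq_one, Units.val_one]
  have h2 : (g : K) ^ (k * (p + 1)) ≠ 1 := fun e => by
    rw [← Units.val_pow_eq_pow_val, Units.val_eq_one] at e
    have := Nat.le_of_dvd h0 (orderOf_dvd_of_pow_eq_one e)
    rw [hord, hsq] at this
    omega
  rcases mul_self_eq_one_iff.1 h1 with e | e
  · exact absurd e h2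
  · rw [Units.val_pow_eq_pow_val, ← pow_mul, ← pow_add, ← e]
    congr 1
    ring

theorem model_SU (p : ℕ) [hp : Fact p.Prime] (hp2 : p ≠ 2) :
    ∃ (K : Type) (_ : Field K) (_ : Fintype K), Fintype.card K = p ^ 2 ∧
      (Nat.card (Cfsg.SU 4 K p)).factorization p = 6 ∧
      ∃ d : ZMod p, ¬ IsSquare d ∧ ∃ g : Fin 6 → Cfsg.SU 4 K p, Rels (TwoT p 1 (-d)) g ∧ g 5 ≠ 1 := by
  classical
  haveI : Fact (1 < p) := ⟨hp.out.one_lt⟩
  haveI : NeZero p := ⟨hp.out.ne_zero⟩
  let K := GaloisField p 2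
  letI : Fintype K := Fintype.ofFinite K
  have hK : Fintype.card K = p ^ 2 := by rw [← Nat.card_eq_fintype_card]; exact GaloisField.card p 2 two_ne_zero
  refine ⟨K, inferInstance, inferInstance, hK, ?_, ?_⟩
  · have h := Cfsg.Lib.Classical.card_SU_mul hK (n := 4) (by norm_num)
    rw [Cfsg.Lib.Classical.cardGUFormula] at h
    simp [Finset.prod_range_succ, Nat.even_iff, -Nat.card_eq_fintype_card] at h
    refine factorization_of_eq (m := (p ^ 2 - 1) * (p ^ 3 + 1) * (p ^ 4 - 1)) ?_ ?_
    · refine Nat.eq_of_mul_eq_mul_left (show 0 < p + 1 by omega) (h.trans ?_)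
      ring
    · intro hd
      have key : ∀ k : ℕ, 0 < k → ¬ p ∣ p ^ k - 1 := fun k hk h' => hp.out.not_dvd_one (by
        have := Nat.dvd_sub (dvd_pow_self p hk.ne') h'
        rwa [Nat.sub_sub_self (Nat.one_le_pow _ _ hp.out.pos)] at this)
      rcases hp.out.dvd_mul.1 hd with hd | hd
      · rcases hp.out.dvd_mul.1 hd with hd | hd
        · exact key 2 (by norm_num) hd
        · exact hp.out.not_dvd_one ((Nat.dvd_add_right (dvd_pow_self p three_ne_zero)).1 hd)
      · exact key 4 (by norm_num) hd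
  haveI : CharP K p := inferInstance
  set s : K →+* K := frobenius K p with hsdef
  have hs : ∀ x, s x = x ^ p := fun x => frobenius_def p x
  have hss : ∀ x, s (s x) = x := fun x => by
    rw [hs, hs, ← pow_mul, ← sq, ← hK, FiniteField.pow_card]
  obtain ⟨t, ht⟩ : ∃ t : K, s t ≠ t := by
    by_contra hh
    push Not at hh
    have hle : (Finset.univ : Finset K) ⊆ (Polynomial.X ^ p - Polynomial.X : Polynomial K).roots.toFinset :=
      fun x _ => by
        rw [Multiset.mem_toFinset, Polynomial.mem_roots (FiniteField.X_pow_card_sub_X_ne_zero K hp.out.one_lt)]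
        simp [← hs, hh x]
    have h1 := (Finset.card_le_card hle).trans ((Multiset.toFinset_card_le _).trans (Polynomial.card_roots' _))
    rw [Finset.card_univ, hK, FiniteField.X_pow_card_sub_X_natDegree_eq K hp.out.one_lt] at h1
    have := hp.out.one_lt
    nlinarith
  set δ := t - s t with hδdef
  have hδ0 : δ ≠ 0 := sub_ne_zero.2 (Ne.symm ht)
  have hδ : s δ = -δ := by rw [hδdef, map_sub, hss]; ring
  have h2K : (2 : K) ≠ 0 := by
    intro e
    have : ((2 : ℕ) : K) = 0 := by exact_mod_cast e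
    exact hp2 ((Nat.prime_dvd_prime_iff_eq hp.out Nat.prime_two).1 ((CharP.cast_eq_zero_iff K p 2).1 this))
  let ι : ZMod p →+* K := ZMod.castHom dvd_rfl K
  obtain ⟨d, hd⟩ : ∃ d : ZMod p, ι d = δ * δ := by
    have hfix : s (δ * δ) = δ * δ := by rw [map_mul, hδ]; ring
    by_contra hh
    push Not at hh
    have hne := FiniteField.X_pow_card_sub_X_ne_zero K hp.out.one_lt
    have hsub : insert (δ * δ) ((Finset.univ : Finset (ZMod p)).image ι) ⊆
        (Polynomial.X ^ p - Polynomial.X : Polynomial K).roots.toFinset := fun x hx => by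
      rw [Multiset.mem_toFinset, Polynomial.mem_roots hne]
      rcases Finset.mem_insert.1 hx with rfl | hx
      · simp [← hs, hfix]
      · obtain ⟨y, -, rfl⟩ := Finset.mem_image.1 hx
        simp [← map_pow, ZMod.pow_card]
    have h1 := (Finset.card_le_card hsub).trans ((Multiset.toFinset_card_le _).trans (Polynomial.card_roots' _))
    rw [Finset.card_insert_of_notMem (by simpa using hh), Finset.card_image_of_injective _ ι.injective,
      Finset.card_univ, ZMod.card, FiniteField.X_pow_card_sub_X_natDegree_eq K hp.out.one_lt] at h1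
    omega
  refine ⟨d, ?_, ?_⟩
  · rintro ⟨r, hr⟩
    have e1 : δ * δ = ι r * ι r := by rw [← hd, hr, map_mul]
    have e2 : s (ι r) = ι r := by rw [hs, ← map_pow, ZMod.pow_card]
    rcases mul_self_eq_mul_self_iff.1 e1 with e | e
    · exact hδ0 (by
        have : (2 : K) * δ = 0 := by
          have h' := hδ
          rw [e, e2] at h'
          rw [e]; linear_combination h'
        exact (mul_eq_zero.1 this).resolve_left h2K)
    · exact hδ0 (by
        have : (2 : K) * δ = 0 := by
          have h' := hδ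
          rw [e, map_neg, e2] at h'
          rw [e]; linear_combination h'
        exact (mul_eq_zero.1 this).resolve_left h2K)
  set h : K := (2 : K)⁻¹
  have hh : 2 * h = 1 := mul_inv_cancel₀ h2K
  have hsh : s h = h := by simp [h, map_inv₀, map_ofNat]
  obtain ⟨a, ha⟩ := exists_pow_add_eq_neg_one (K := K) p hp2 hK
  rw [← hs] at ha
  have hab : a * -(s a) = 1 := by linear_combination -ha
  set φ := frameHom h a (-(s a)) hh hab
  set D := δ * δ with hDdef
  have hsD : s D = D := by rw [hDdef, map_mul, hδ]; ring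
  set x : Matrix.SpecialLinearGroup (Fin 4) K := upSL 0 0 0 δ 0 0 with hx
  set v₁ : Matrix.SpecialLinearGroup (Fin 4) K := upSL 1 0 0 0 0 (-1) with hv₁
  set v₂ : Matrix.SpecialLinearGroup (Fin 4) K := upSL δ 0 0 0 0 δ with hv₂
  set k₁ : Matrix.SpecialLinearGroup (Fin 4) K := upSL 0 (-δ) (-δ) 0 (-δ) 0 with hk₁
  set k₂ : Matrix.SpecialLinearGroup (Fin 4) K := upSL 0 (-D) (δ * D) 0 D 0 with hk₂
  set z : Matrix.SpecialLinearGroup (Fin 4) K := upSL 0 0 (-(2 * δ)) 0 0 0 with hz
  have zpow' : ∀ e : ZMod p, z ^ e.val = upSL 0 0 (ι e * -(2 * δ)) 0 0 0 := fun e => by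
    rw [hz, upSL_pow _ _ _ _ _ _ (by ring) (by ring) (by ring),
      show ι e = (e.val : K) by rw [← map_natCast ι, ZMod.natCast_zmod_val]]
    congr 1 <;> ring
  have hR : Rels (TwoT p 1 (-d)) ![x, v₁, v₂, k₁, k₂, z] := by
    refine TwoRel.rels
      { px := upSL_pow_prime p _ _ _ _ _ _ (by ring) (by ring) (by ring)
        pv₁ := upSL_pow_prime p _ _ _ _ _ _ (by ring) (by ring) (by ring)
        pv₂ := upSL_pow_prime p _ _ _ _ _ _ (by ring) (by ring) (by ring)
        pk₁ := upSL_pow_prime p _ _ _ _ _ _ (by ring) (by ring) (by ring)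
        pk₂ := upSL_pow_prime p _ _ _ _ _ _ (by ring) (by ring) (by ring)
        pz := upSL_pow_prime p _ _ _ _ _ _ (by ring) (by ring) (by ring)
        xv₁ := comm_of_mul ?_
        xv₂ := comm_of_mul ?_
        xk₁ := ?_
        xk₂ := ?_
        vv := ?_
        v₁k₁ := ?_
        v₁k₂ := ?_
        v₂k₁ := ?_
        v₂k₂ := ?_
        kk := ?_
        zx := ?_
        zv₁ := ?_
        zv₂ := ?_
        zk₁ := ?_
        zk₂ := ?_ }
    case refine_6 =>
      rw [zpow', map_one]
      refine comm_of_mul ?_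
      simp only [hv₁, hk₁, upSL_mul]; congr 1 <;> ring
    case refine_9 =>
      rw [zpow', map_neg, hd]
      refine comm_of_mul ?_
      simp only [hv₂, hk₂, upSL_mul]; congr 1 <;> ring
    all_goals
      (try show _ * _ = _ * _)
      simp only [hx, hv₁, hv₂, hk₁, hk₂, hz, hDdef, upSL_mul]
      congr 1 <;> ring
  have hmem : ∀ i, φ (![x, v₁, v₂, k₁, k₂, z] i) ∈ Cfsg.SU 4 K p := by
    intro i
    fin_cases i
    all_goals
      refine frameHom_mem p s hs h a _ hh hab hsh ha _ _ _ _ _ _ ?_ ?_ ?_ ?_ ?_ ?_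
      all_goals simp [hδ, hsD, map_ofNat] <;> ring
  refine ⟨fun i => ⟨_, hmem i⟩, (hR.map φ).codRestrict hmem, fun e => ?_⟩
  have e1 : φ z = φ 1 := by rw [map_one]; exact congrArg Subtype.val e
  have e2 := congrFun (congrFun (congrArg Subtype.val (frameHom_injective h a _ hh hab e1)) 0) 3
  simp [hz, upSL] at e2
  rcases e2 with e2 | e2
  exacts [h2K e2, hδ0 e2]

end Cfsg.Lib.Fusion.ExIdxP.NormalForm
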