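import Mathlib

/-!
Groups of order `p ^ 6` given by six generators and a table of commutators, and their comparison with models.
-/

set_option autoImplicit false

namespace Cfsg.Lib.Fusion.ExIdxP.NormalForm

open scoped commutatorElement

universe u v

variable {p : ℕ}

/-- The product of the six generators with exponents from `t`. -/
def word {G : Type*} [Group G] (g : Fin 6 → G) (t : Fin 6 → ZMod p) : G :=
  g 0 ^ (t 0).val * g 1 ^ (t 1).val * g 2 ^ (t 2).val * g 3 ^ (t 3).val * g 4 ^ (t 4).val * g 5 ^ (t 5).val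

/-- A table only pointing forward. -/
def Forward (T : Fin 6 → Fin 6 → Fin 6 → ZMod p) : Prop := ∀ i j k, k ≤ i → T i j k = 0

/-- The six elements satisfy the table. -/
structure Rels {G : Type*} [Group G] (T : Fin 6 → Fin 6 → Fin 6 → ZMod p) (g : Fin 6 → G) : Prop where
  pow : ∀ i, g i ^ p = 1
  rel : ∀ i j, i < j → ⁅g i, g j⁆ = word g (T i j)

theorem map_word {G : Type u} {H : Type v} [Group G] [Group H] (f : G →* H) (g : Fin 6 → G)
    (t : Fin 6 → ZMod p) : f (word g t) = word (fun i => f (g i)) t := by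
  simp [word, map_mul, map_pow]

theorem Rels.map {G : Type u} {H : Type v} [Group G] [Group H] (f : G →* H) {g : Fin 6 → G}
    {T : Fin 6 → Fin 6 → Fin 6 → ZMod p} (h : Rels T g) : Rels T (fun i => f (g i)) :=
  ⟨fun i => by rw [← map_pow, h.pow, map_one],
    fun i j hij => by rw [← map_commutatorElement, h.rel i j hij, map_word]⟩

theorem word_prod {G : Type u} {H : Type v} [Group G] [Group H] (g : Fin 6 → G) (g' : Fin 6 → H)
    (t : Fin 6 → ZMod p) : word (fun i => (g i, g' i)) t = (word g t, word g' t) := by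
  simp [word, Prod.pow_mk, Prod.mk_mul_mk]

theorem Rels.prod {G : Type u} {H : Type v} [Group G] [Group H] {g : Fin 6 → G} {g' : Fin 6 → H}
    {T : Fin 6 → Fin 6 → Fin 6 → ZMod p} (h : Rels T g) (h' : Rels T g') :
    Rels T (fun i => (g i, g' i)) :=
  ⟨fun i => by rw [Prod.pow_mk, h.pow, h'.pow]; rfl,
    fun i j hij => by rw [word_prod, ← h.rel i j hij, ← h'.rel i j hij]; rfl⟩

/-- The subgroup generated by the generators from `n` on. -/
def tail {G : Type u} [Group G] (g : Fin 6 → G) (n : ℕ) : Subgroup G :=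
  Subgroup.closure {w | ∃ k : Fin 6, n ≤ k.val ∧ g k = w}

theorem mem_tail {G : Type u} [Group G] (g : Fin 6 → G) {n : ℕ} {k : Fin 6} (hk : n ≤ k.val) :
    g k ∈ tail g n := Subgroup.subset_closure ⟨k, hk, rfl⟩

theorem word_mem_tail {G : Type u} [Group G] (g : Fin 6 → G) {T : Fin 6 → Fin 6 → Fin 6 → ZMod p}
    (hT : Forward T) (i j : Fin 6) : word g (T i j) ∈ tail g (i.val + 1) := by
  have key : ∀ k : Fin 6, g k ^ (T i j k).val ∈ tail g (i.val + 1) := by
    intro k
    by_cases hk : k ≤ i
    · rw [hT i j k hk, ZMod.val_zero, pow_zero]; exact one_mem _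
    · exact pow_mem (mem_tail g (Nat.succ_le_of_lt (Fin.lt_def.1 (not_le.1 hk)))) _
  exact mul_mem (mul_mem (mul_mem (mul_mem (mul_mem (key 0) (key 1)) (key 2)) (key 3)) (key 4)) (key 5)

theorem conj_tail {G : Type u} [Group G] {g : Fin 6 → G} {T : Fin 6 → Fin 6 → Fin 6 → ZMod p}
    (h : Rels T g) (hT : Forward T) (i : Fin 6) : ∀ w ∈ tail g (i.val + 1),
    g i * w * (g i)⁻¹ ∈ tail g (i.val + 1) := by
  intro w hw
  induction hw using Subgroup.closure_induction with
  | mem w hw =>
    obtain ⟨k, hk, rfl⟩ := hw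
    have e := h.rel i k (Fin.lt_def.2 (Nat.lt_of_succ_le hk))
    have hm := word_mem_tail g hT i k
    rw [← e, commutatorElement_def] at hm
    have := mul_mem hm (mem_tail g hk)
    simpa [mul_assoc] using this
  | one => simp
  | mul a b _ _ ha hb =>
    have := mul_mem ha hb
    simpa [mul_assoc] using this
  | inv a _ ha =>
    have := inv_mem ha
    simpa [mul_assoc] using this

theorem card_tail {G : Type u} [Group G] [Finite G] [hp : Fact p.Prime] {g : Fin 6 → G}
    {T : Fin 6 → Fin 6 → Fin 6 → ZMod p} (h : Rels T g) (hT : Forward T) :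
    ∀ m : ℕ, m ≤ 6 → Nat.card (tail g (6 - m)) ≤ p ^ m := by
  intro m
  induction m with
  | zero =>
    intro _
    have : tail g 6 = ⊥ := by
      rw [tail, Subgroup.closure_eq_bot_iff]
      rintro w ⟨k, hk, -⟩
      exact absurd k.isLt (not_lt.2 hk)
    rw [Nat.sub_zero, this, Subgroup.card_bot, pow_zero]
  | succ m ih =>
    intro hm
    set i : Fin 6 := ⟨6 - (m + 1), by omega⟩
    have hi : i.val + 1 = 6 - m := by show 6 - (m + 1) + 1 = 6 - m; omega
    set K := tail g (6 - m)
    have hconj : ∀ w ∈ K, g i * w * (g i)⁻¹ ∈ K := fun w hw => by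
      show g i * w * (g i)⁻¹ ∈ tail g (6 - m)
      rw [← hi]; exact conj_tail h hT i w (hi.symm ▸ hw)
    have hconjn : ∀ n : ℕ, ∀ w ∈ K, g i ^ n * w * (g i ^ n)⁻¹ ∈ K := by
      intro n
      induction n with
      | zero => intro w hw; simpa using hw
      | succ n ihn =>
        intro w hw
        have e : g i ^ (n + 1) * w * (g i ^ (n + 1))⁻¹ = g i * (g i ^ n * w * (g i ^ n)⁻¹) * (g i)⁻¹ := by
          rw [pow_succ']; group
        rw [e]; exact hconj _ (ihn w hw)
    let R : Submonoid G :=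
      { carrier := {w | ∃ k ∈ K, ∃ n : ℕ, w = k * g i ^ n}
        one_mem' := ⟨1, one_mem _, 0, by simp⟩
        mul_mem' := by
          rintro _ _ ⟨k, hk, n, rfl⟩ ⟨k', hk', n', rfl⟩
          refine ⟨k * (g i ^ n * k' * (g i ^ n)⁻¹), mul_mem hk (hconjn n k' hk'), n + n', ?_⟩
          rw [pow_add]; group }
    have hle : ∀ w ∈ tail g (6 - (m + 1)), w ∈ R := by
      intro w hw
      induction hw using Subgroup.closure_induction with
      | mem w hw =>
        obtain ⟨k, hk, rfl⟩ := hw
        by_cases hki : k = i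
        · exact ⟨1, one_mem _, 1, by rw [hki]; simp⟩
        · exact ⟨g k, mem_tail g (by
            have : k.val ≠ 6 - (m + 1) := fun e => hki (Fin.ext e)
            omega), 0, by simp⟩
      | one => exact R.one_mem
      | mul a b _ _ ha hb => exact R.mul_mem ha hb
      | inv a _ ha =>
        obtain ⟨n, hn⟩ := (Submonoid.mem_powers_iff _ _).1
          ((isOfFinOrder_of_finite a).mem_powers_iff_mem_zpowers.2 (inv_mem (Subgroup.mem_zpowers a)))
        rw [← hn]; exact R.pow_mem ha n
    have hsurj : ∀ w : tail g (6 - (m + 1)), ∃ q : K × Fin p, (q.1 : G) * g i ^ q.2.val = w := fun w => by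
      obtain ⟨k, hk, n, e⟩ := hle w w.2
      refine ⟨(⟨k, hk⟩, ⟨n % p, Nat.mod_lt _ hp.out.pos⟩), ?_⟩
      show k * g i ^ (n % p) = w
      rw [e]
      conv_rhs => rw [← Nat.mod_add_div n p, pow_add, pow_mul, h.pow, one_pow, mul_one]
    choose q hq using hsurj
    have hinj : Function.Injective q := fun a b e => Subtype.ext (by rw [← hq a, ← hq b, e])
    calc Nat.card (tail g (6 - (m + 1))) ≤ Nat.card (K × Fin p) := Nat.card_le_card_of_injective q hinj
      _ = Nat.card K * p := by rw [Nat.card_prod, Nat.card_fin]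
      _ ≤ p ^ m * p := Nat.mul_le_mul_right _ (ih (by omega))
      _ = p ^ (m + 1) := by rw [pow_succ]

/-- A group of order `p ^ 6` with the table is carried into any model in which the last generator survives. -/
theorem exists_embedding [hp : Fact p.Prime] {X : Type u} [Group X] [Finite X] {Y : Type v} [Group Y]
    [Finite Y] {g : Fin 6 → X} {g' : Fin 6 → Y} {T : Fin 6 → Fin 6 → Fin 6 → ZMod p} (hT : Forward T)
    (h : Rels T g) (h' : Rels T g') (hgen : Subgroup.closure (Set.range g) = ⊤)
    (hcard : Nat.card X = p ^ 6)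
    (hmin : ∀ N : Subgroup X, N.Normal → N ≠ ⊥ → g 5 ∈ N) (hne : g' 5 ≠ 1) :
    ∃ f : X →* Y, Function.Injective f := by
  set gg : Fin 6 → X × Y := fun i => (g i, g' i)
  set D := tail gg 0
  have hD : Nat.card D ≤ p ^ 6 := by
    have := card_tail (h.prod h') hT 6 le_rfl
    simpa using this
  let π : D →* X := (MonoidHom.fst X Y).comp D.subtype
  have hsurj : Function.Surjective π := by
    rw [← MonoidHom.range_eq_top, eq_top_iff, ← hgen, Subgroup.closure_le]
    rintro _ ⟨i, rfl⟩
    exact ⟨⟨gg i, mem_tail gg (Nat.zero_le _)⟩, rfl⟩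
  have hbij : Function.Bijective π := (Nat.bijective_iff_surjective_and_card π).2
    ⟨hsurj, le_antisymm (hcard ▸ hD) (Nat.card_le_card_of_surjective π hsurj)⟩
  let e := MulEquiv.ofBijective π hbij
  let f : X →* Y := ((MonoidHom.snd X Y).comp D.subtype).comp e.symm.toMonoidHom
  refine ⟨f, (MonoidHom.ker_eq_bot_iff f).1 ?_⟩
  by_contra hk
  have h5 := hmin f.ker inferInstance hk
  refine hne ?_
  have he : e.symm (g 5) = ⟨gg 5, mem_tail gg (Nat.zero_le _)⟩ := e.symm_apply_eq.2 rfl
  have : f (g 5) = g' 5 := by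
    show ((MonoidHom.snd X Y).comp D.subtype) (e.symm (g 5)) = g' 5
    rw [he]; rfl
  rw [← this]; exact MonoidHom.mem_ker.1 h5

/-- The comparison with a Sylow subgroup of the model. -/
theorem exists_sylow_iso [hp : Fact p.Prime] {X : Type u} [Group X] [Finite X] {Y : Type v} [Group Y]
    [Finite Y] {g : Fin 6 → X} {g' : Fin 6 → Y} {T : Fin 6 → Fin 6 → Fin 6 → ZMod p} (hT : Forward T)
    (h : Rels T g) (h' : Rels T g') (hgen : Subgroup.closure (Set.range g) = ⊤)
    (hcard : Nat.card X = p ^ 6)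
    (hmin : ∀ N : Subgroup X, N.Normal → N ≠ ⊥ → g 5 ∈ N) (hne : g' 5 ≠ 1)
    (hY : (Nat.card Y).factorization p = 6) :
    ∃ P : Sylow p Y, Nonempty (X ≃* (P : Subgroup Y)) := by
  obtain ⟨f, hf⟩ := exists_embedding hT h h' hgen hcard hmin hne
  have hR : IsPGroup p f.range := (IsPGroup.of_card hcard).of_surjective _ f.rangeRestrict_surjective
  obtain ⟨P, hP⟩ := hR.exists_le_sylow
  refine ⟨P, ⟨(MonoidHom.ofInjective hf).trans (MulEquiv.subgroupCongr (Subgroup.eq_of_le_of_card_ge hP ?_))⟩⟩
  rw [Sylow.card_eq_multiplicity, hY, ← hcard, ← Nat.card_congr (MonoidHom.ofInjective hf).toEquiv]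

end Cfsg.Lib.Fusion.ExIdxP.NormalForm
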