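import Cfsg.Agent.Fusion.ExtraspecialCenterEnd

/-!
The commutator pairing of an extraspecial subgroup of index `p`.
-/

set_option autoImplicit false
set_option linter.style.haveILetI false
set_option linter.unusedSectionVars false

namespace Cfsg.Lib.Fusion.ExIdxP

open Cfsg Cfsg.FusionSystem Cfsg.Lib.Fusion Cfsg.Lib.Fusion.ExtraspecialIndex
open scoped commutatorElement

universe u

variable {Ω : Type u} [Group Ω] {S : Subgroup Ω} {F : FusionSystem S} {p : ℕ}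

/-- The standing hypotheses, with a generator of the centre. -/
structure Setup (F : FusionSystem S) (p : ℕ) (Q : Subgroup Ω) (z : Ω) : Prop extends ExtIdx F p Q where
  zmem : z ∈ cen Q
  z1 : z ≠ 1
  hcen : cen S = cen Q
  odd : p ≠ 2
  big : p ^ 5 ≤ Nat.card Q

/-- Powers of `z` with exponents in `ZMod p`. -/
def ze (z : Ω) (i : ZMod p) : Ω := z ^ i.val

open Classical in
/-- The exponent of a power of `z`. -/
noncomputable def lg (p : ℕ) (z w : Ω) : ZMod p :=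
  if h : ∃ i : ZMod p, ze z i = w then h.choose else 0

/-- The commutator pairing. -/
noncomputable def cc (p : ℕ) (z a b : Ω) : ZMod p := lg p z ⁅a, b⁆

theorem comm_mul_left (a b c : Ω) : ⁅a * b, c⁆ = a * ⁅b, c⁆ * a⁻¹ * ⁅a, c⁆ := by
  simp only [commutatorElement_def]; group

theorem comm_mul_right (a b c : Ω) : ⁅a, b * c⁆ = ⁅a, b⁆ * (b * ⁅a, c⁆ * b⁻¹) := by
  simp only [commutatorElement_def]; group

namespace Setup

variable [Finite S] [hp : Fact p.Prime] {Q : Subgroup Ω} {z : Ω} (h : Setup F p Q z)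
include h

theorem neZero : NeZero p := ⟨hp.out.ne_zero⟩

theorem zQ : z ∈ Q := h.zmem.1

theorem zS : z ∈ S := h.le h.zQ

theorem order_z : orderOf z = p := orderOf_eq_prime (h.z_pow h.zmem) h.z1

theorem zpow_val (n : ℕ) : z ^ n = ze z (n : ZMod p) := by
  rw [ze, ZMod.val_natCast, ← h.order_z]
  exact (pow_mod_orderOf z n).symm

theorem ze_add (i j : ZMod p) : ze z i * ze z j = ze z (i + j) := by
  haveI := h.neZero
  rw [ze, ze, ← pow_add, h.zpow_val, Nat.cast_add, ZMod.natCast_zmod_val, ZMod.natCast_zmod_val]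

theorem ze_zero : ze z (0 : ZMod p) = 1 := by
  rw [ze, ZMod.val_zero, pow_zero]

theorem ze_one : ze z (1 : ZMod p) = z := by
  rw [ze, ZMod.val_one, pow_one]

theorem ze_neg (i : ZMod p) : ze z (-i) = (ze z i)⁻¹ :=
  eq_inv_of_mul_eq_one_left (by rw [h.ze_add, neg_add_cancel, h.ze_zero])

theorem ze_pow (i : ZMod p) (n : ℕ) : ze z i ^ n = ze z ((n : ZMod p) * i) := by
  induction n with
  | zero => simp [h.ze_zero]
  | succ n ih => rw [pow_succ, ih, h.ze_add, Nat.cast_succ, add_mul, one_mul]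

theorem ze_mem (i : ZMod p) : ze z i ∈ cen Q := (cen Q).pow_mem h.zmem _

theorem ze_Q (i : ZMod p) : ze z i ∈ Q := (h.ze_mem i).1

theorem ze_comm (i : ZMod p) {s : Ω} (hs : s ∈ S) : Commute s (ze z i) :=
  h.z_central (h.ze_mem i) hs

theorem ze_inj {i j : ZMod p} (e : ze z i = ze z j) : i = j := by
  haveI := h.neZero
  have h1 := pow_injOn_Iio_orderOf (x := z) (by rw [Set.mem_Iio, h.order_z]; exact i.val_lt)
    (by rw [Set.mem_Iio, h.order_z]; exact j.val_lt) e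
  exact ZMod.val_injective p h1

theorem ze_eq_one {i : ZMod p} : ze z i = 1 ↔ i = 0 :=
  ⟨fun e => h.ze_inj (e.trans h.ze_zero.symm), fun e => e ▸ h.ze_zero⟩

theorem cenQ_eq : cen Q = Subgroup.zpowers z := by
  haveI := finite_of_le h.z_le
  exact (Subgroup.eq_of_le_of_card_ge (Subgroup.zpowers_le.2 h.zmem)
    (by rw [Nat.card_zpowers, h.order_z, h.card_z])).symm

theorem exists_ze {w : Ω} (hw : w ∈ cen Q) : ∃ i : ZMod p, ze z i = w := by
  rw [h.cenQ_eq] at hw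
  obtain ⟨k, rfl⟩ := hw
  refine ⟨(k : ZMod p), ?_⟩
  haveI := h.neZero
  rw [ze, ← zpow_natCast, ZMod.val_intCast, ← h.order_z]
  exact zpow_mod_orderOf z k

theorem ze_lg {w : Ω} (hw : w ∈ cen Q) : ze z (lg p z w) = w := by
  rw [lg, dif_pos (h.exists_ze hw)]
  exact (h.exists_ze hw).choose_spec

theorem lg_ze (i : ZMod p) : lg p z (ze z i) = i := h.ze_inj (h.ze_lg (h.ze_mem i))

theorem lg_mul {a b : Ω} (ha : a ∈ cen Q) (hb : b ∈ cen Q) : lg p z (a * b) = lg p z a + lg p z b :=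
  h.ze_inj (by rw [h.ze_lg ((cen Q).mul_mem ha hb), ← h.ze_add, h.ze_lg ha, h.ze_lg hb])

theorem comm_mem {a b : Ω} (ha : a ∈ Q) (hb : b ∈ Q) : ⁅a, b⁆ ∈ cen Q := h.comm_Q ha hb

theorem cc_spec {a b : Ω} (ha : a ∈ Q) (hb : b ∈ Q) : ze z (cc p z a b) = ⁅a, b⁆ :=
  h.ze_lg (h.comm_mem ha hb)

theorem swap {a b : Ω} (ha : a ∈ Q) (hb : b ∈ Q) : a * b = ze z (cc p z a b) * (b * a) := by
  rw [h.cc_spec ha hb, commutatorElement_def]; group

theorem conj_cen {s w : Ω} (hs : s ∈ S) (hw : w ∈ cen Q) : s * w * s⁻¹ = w := by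
  rw [h.z_central hw hs, mul_inv_cancel_right]

theorem cc_mul_left {a b c : Ω} (ha : a ∈ Q) (hb : b ∈ Q) (hc : c ∈ Q) :
    cc p z (a * b) c = cc p z a c + cc p z b c := by
  rw [cc, comm_mul_left, h.conj_cen (h.le ha) (h.comm_mem hb hc),
    h.lg_mul (h.comm_mem hb hc) (h.comm_mem ha hc), add_comm]
  rfl

theorem cc_mul_right {a b c : Ω} (ha : a ∈ Q) (hb : b ∈ Q) (hc : c ∈ Q) :
    cc p z a (b * c) = cc p z a b + cc p z a c := by
  rw [cc, comm_mul_right, h.conj_cen (h.le hb) (h.comm_mem ha hc),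
    h.lg_mul (h.comm_mem ha hb) (h.comm_mem ha hc)]
  rfl

theorem cc_eq_zero {a b : Ω} (ha : a ∈ Q) (hb : b ∈ Q) : cc p z a b = 0 ↔ a * b = b * a := by
  rw [← commutatorElement_eq_one_iff_mul_comm, ← h.cc_spec ha hb, h.ze_eq_one]

theorem cc_self {a : Ω} (ha : a ∈ Q) : cc p z a a = 0 := (h.cc_eq_zero ha ha).2 rfl

theorem cc_one_right {a : Ω} (ha : a ∈ Q) : cc p z a 1 = 0 :=
  (h.cc_eq_zero ha Q.one_mem).2 (by simp)

theorem cc_one_left {a : Ω} (ha : a ∈ Q) : cc p z 1 a = 0 :=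
  (h.cc_eq_zero Q.one_mem ha).2 (by simp)

theorem cc_swap {a b : Ω} (ha : a ∈ Q) (hb : b ∈ Q) : cc p z b a = -cc p z a b := by
  refine h.ze_inj ?_
  rw [h.ze_neg, h.cc_spec hb ha, h.cc_spec ha hb, commutatorElement_inv]

theorem cc_inv_left {a b : Ω} (ha : a ∈ Q) (hb : b ∈ Q) : cc p z a⁻¹ b = -cc p z a b := by
  have e := h.cc_mul_left (Q.inv_mem ha) ha hb
  rw [inv_mul_cancel, h.cc_one_left hb] at e
  exact eq_neg_of_add_eq_zero_left e.symm

theorem cc_inv_right {a b : Ω} (ha : a ∈ Q) (hb : b ∈ Q) : cc p z a b⁻¹ = -cc p z a b := by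
  have e := h.cc_mul_right ha (Q.inv_mem hb) hb
  rw [inv_mul_cancel, h.cc_one_right ha] at e
  exact eq_neg_of_add_eq_zero_left e.symm

theorem cc_pow_left {a b : Ω} (ha : a ∈ Q) (hb : b ∈ Q) (n : ℕ) :
    cc p z (a ^ n) b = (n : ZMod p) * cc p z a b := by
  induction n with
  | zero => simp [h.cc_one_left hb]
  | succ n ih => rw [pow_succ, h.cc_mul_left (Q.pow_mem ha n) ha hb, ih, Nat.cast_succ, add_mul, one_mul]

theorem cc_pow_right {a b : Ω} (ha : a ∈ Q) (hb : b ∈ Q) (n : ℕ) :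
    cc p z a (b ^ n) = (n : ZMod p) * cc p z a b := by
  rw [h.cc_swap (Q.pow_mem hb n) ha, h.cc_pow_left hb ha, h.cc_swap ha hb]; ring

theorem cc_cen_left {c a : Ω} (hc : c ∈ cen Q) (ha : a ∈ Q) : cc p z c a = 0 :=
  (h.cc_eq_zero hc.1 ha).2 (h.z_central hc (h.le ha)).symm

theorem cc_cen_right {c a : Ω} (hc : c ∈ cen Q) (ha : a ∈ Q) : cc p z a c = 0 :=
  (h.cc_eq_zero ha hc.1).2 (h.z_central hc (h.le ha))

theorem cc_ze_right {a : Ω} (ha : a ∈ Q) (i : ZMod p) : cc p z a (ze z i) = 0 :=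
  h.cc_cen_right (h.ze_mem i) ha

theorem cc_conj {g a b : Ω} (hg : g ∈ S) (ha : a ∈ Q) (hb : b ∈ Q) :
    cc p z (g * a * g⁻¹) (g * b * g⁻¹) = cc p z a b := by
  rw [cc, cc, show ⁅g * a * g⁻¹, g * b * g⁻¹⁆ = g * ⁅a, b⁆ * g⁻¹ by
    simp only [commutatorElement_def]; group, h.conj_cen hg (h.comm_mem ha hb)]

/-- An element commuting with all of `Q` modulo nothing is central. -/
theorem mem_cen_of_cc {a : Ω} (ha : a ∈ Q) (hall : ∀ b ∈ Q, cc p z a b = 0) : a ∈ cen Q :=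
  ⟨ha, fun b hb => ((h.cc_eq_zero ha hb).1 (hall b hb)).symm⟩

theorem exists_pair {a : Ω} (ha : a ∈ Q) (haZ : a ∉ cen Q) : ∃ b ∈ Q, cc p z b a = 1 := by
  by_contra hno
  push Not at hno
  refine haZ (h.mem_cen_of_cc ha fun b hb => ?_)
  by_contra hne
  have hne' : cc p z b a ≠ 0 := by rw [h.cc_swap ha hb]; exact neg_ne_zero.2 hne
  haveI := h.neZero
  refine hno (b ^ ((cc p z b a)⁻¹).val) (Q.pow_mem hb _) ?_
  rw [h.cc_pow_left hb ha, ZMod.natCast_zmod_val, inv_mul_cancel₀ hne']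

/-- The upper bound for a pair of mutually centralizing subgroups. -/
theorem card_pair_le : ∀ (k : ℕ) (C : Subgroup Ω), C ≤ Q → cen Q ≤ C → Nat.card Q - Nat.card C ≤ k →
    Nat.card (Q ⊓ Subgroup.centralizer (C : Set Ω) : Subgroup Ω) * Nat.card C ≤ p * Nat.card Q := by
  haveI := finite_of_le h.le
  intro k
  induction k with
  | zero =>
    intro C hCQ _ hk
    obtain rfl : C = Q := Subgroup.eq_of_le_of_card_ge hCQ (Nat.sub_eq_zero_iff_le.mp (Nat.le_zero.mp hk))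
    show Nat.card (cen C) * _ ≤ _
    rw [h.card_z]
  | succ k ih =>
    intro C hCQ hZC hk
    by_cases he : C = Q
    · subst he
      show Nat.card (cen C) * _ ≤ _
      rw [h.card_z]
    · obtain ⟨c, hcQ, hcC⟩ := SetLike.exists_of_lt (lt_of_le_of_ne hCQ he)
      set C' := C ⊔ Subgroup.zpowers c
      have hle : C' ≤ Q := sup_le hCQ (Subgroup.zpowers_le.2 hcQ)
      have hlt : C < C' := lt_of_le_of_ne le_sup_left fun e =>
        hcC (e.symm ▸ Subgroup.mem_sup_right (Subgroup.mem_zpowers c))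
      have hc := SqCenter.eq_of_lt h.isP (hle.trans h.le) hlt
      haveI := finite_of_le (hCQ.trans h.le)
      haveI := finite_of_le (hle.trans h.le)
      have hp2 := hp.out.two_le
      have hpos := Nat.card_pos (α := C)
      have hk' : Nat.card Q - Nat.card C' ≤ k := by
        have : Nat.card C < Nat.card C' := by nlinarith
        omega
      have h1 := ih C' hle (hZC.trans le_sup_left) hk'
      have h2 := h.card_le_centralizer (P := Q ⊓ Subgroup.centralizer (C : Set Ω))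
        (inf_le_left.trans h.le) c fun y hy => h.comm_Q hcQ hy.1
      have h3 : (Q ⊓ Subgroup.centralizer (C : Set Ω)) ⊓ Subgroup.centralizer {c} ≤
          Q ⊓ Subgroup.centralizer (C' : Set Ω) := fun y hy => ⟨hy.1.1, fun e he' => by
        have hsub : C' ≤ Subgroup.centralizer {y} := sup_le
          (fun a ha => Subgroup.mem_centralizer_singleton_iff.2 (hy.1.2 a ha))
          (Subgroup.zpowers_le.2 (Subgroup.mem_centralizer_singleton_iff.2
            (Subgroup.mem_centralizer_singleton_iff.1 hy.2).symm))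
        exact Subgroup.mem_centralizer_singleton_iff.1 (hsub he')⟩
      haveI : Finite (Q ⊓ Subgroup.centralizer (C' : Set Ω) : Subgroup Ω) :=
        finite_of_le (inf_le_left.trans h.le)
      calc Nat.card (Q ⊓ Subgroup.centralizer (C : Set Ω) : Subgroup Ω) * Nat.card C
          ≤ p * Nat.card (Q ⊓ Subgroup.centralizer (C' : Set Ω) : Subgroup Ω) * Nat.card C :=
            Nat.mul_le_mul (h2.trans (Nat.mul_le_mul le_rfl (Subgroup.card_le_of_le h3))) le_rfl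
        _ = Nat.card (Q ⊓ Subgroup.centralizer (C' : Set Ω) : Subgroup Ω) * (p * Nat.card C) := by ring
        _ ≤ _ := (Nat.mul_le_mul le_rfl hc).trans h1

theorem card_perp_le {Y : Subgroup Ω} (hY : Y ≤ Q) (hZY : cen Q ≤ Y) :
    Nat.card (Q ⊓ Subgroup.centralizer (Y : Set Ω) : Subgroup Ω) * Nat.card Y ≤ p * Nat.card Q :=
  h.card_pair_le _ Y hY hZY le_rfl

/-- An abelian subgroup of `Q` is small. -/
theorem card_abelian {A : Subgroup Ω} (hA : A ≤ Q) (hab : ∀ a ∈ A, ∀ b ∈ A, a * b = b * a) :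
    Nat.card A * Nat.card A ≤ p * Nat.card Q := by
  haveI := finite_of_le h.le
  set B := A ⊔ cen Q
  have hB : B ≤ Q := sup_le hA inf_le_left
  have hAB : A ≤ Q ⊓ Subgroup.centralizer (B : Set Ω) := fun a ha => ⟨hA ha, fun b hb =>
    Subgroup.mem_centralizer_singleton_iff.1 ((sup_le
      (fun c hc => Subgroup.mem_centralizer_singleton_iff.2 (hab c hc a ha))
      (fun c hc => Subgroup.mem_centralizer_singleton_iff.2 (h.z_central hc (h.le (hA ha))).symm) :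
        B ≤ Subgroup.centralizer {a}) hb)⟩
  haveI := finite_of_le (hB.trans h.le)
  haveI : Finite (Q ⊓ Subgroup.centralizer (B : Set Ω) : Subgroup Ω) :=
    finite_of_le (inf_le_left.trans h.le)
  exact (Nat.mul_le_mul (Subgroup.card_le_of_le hAB) (Subgroup.card_le_of_le le_sup_left)).trans
    (h.card_perp_le hB le_sup_right)

theorem mul_pow_choose {a b : Ω} (ha : a ∈ Q) (hb : b ∈ Q) : ∀ n : ℕ,
    (a * b) ^ n = ze z (((n.choose 2 : ℕ) : ZMod p) * cc p z b a) * (a ^ n * b ^ n)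
  | 0 => by simp [h.ze_zero]
  | n + 1 => by
    have e1 : b ^ n * a = ze z ((n : ZMod p) * cc p z b a) * (a * b ^ n) := by
      rw [h.swap (Q.pow_mem hb n) ha, h.cc_pow_left hb ha]
    have hn : ((n + 1).choose 2 : ℕ) = n.choose 2 + n := by
      rw [Nat.choose_succ_succ, Nat.choose_one_right, add_comm]
    rw [pow_succ (a * b), mul_pow_choose ha hb n]
    calc ze z (((n.choose 2 : ℕ) : ZMod p) * cc p z b a) * (a ^ n * b ^ n) * (a * b)
        = ze z (((n.choose 2 : ℕ) : ZMod p) * cc p z b a) * (a ^ n * (b ^ n * a) * b) := by group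
      _ = ze z (((n.choose 2 : ℕ) : ZMod p) * cc p z b a) * ((a ^ n * ze z ((n : ZMod p) * cc p z b a)) * a * b ^ n * b) := by
        rw [e1]; group
      _ = ze z (((n.choose 2 : ℕ) : ZMod p) * cc p z b a) * ze z ((n : ZMod p) * cc p z b a) * (a ^ (n + 1) * b ^ (n + 1)) := by
        rw [(h.ze_comm _ (h.le (Q.pow_mem ha n))).eq, pow_succ, pow_succ]; group
      _ = _ := by rw [h.ze_add, hn, Nat.cast_add, add_mul]

/-- The `p`-th power map on `Q` is multiplicative. -/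
theorem mul_pow_p {a b : Ω} (ha : a ∈ Q) (hb : b ∈ Q) : (a * b) ^ p = a ^ p * b ^ p := by
  obtain ⟨d, hd⟩ := hp.out.dvd_choose_self (show (2 : ℕ) ≠ 0 by norm_num)
    (lt_of_le_of_ne hp.out.two_le (Ne.symm h.odd))
  rw [h.mul_pow_choose ha hb, hd, Nat.cast_mul, ZMod.natCast_self, zero_mul, zero_mul, h.ze_zero, one_mul]

theorem pow_mem_cen {a : Ω} (ha : a ∈ Q) : a ^ p ∈ cen Q := by
  refine h.mem_cen_of_cc (Q.pow_mem ha p) fun b hb => ?_
  rw [h.cc_pow_left ha hb, ZMod.natCast_self, zero_mul]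

/-! ### The maps induced by the elements of `S` -/

theorem comm_S_Q {g q : Ω} (hg : g ∈ S) (hq : q ∈ Q) : ⁅g, q⁆ ∈ Q :=
  Q.mul_mem (h.conj_Q hg hq) (Q.inv_mem hq)

theorem comm_cen {g c : Ω} (hg : g ∈ S) (hc : c ∈ cen Q) : ⁅g, c⁆ = 1 := by
  rw [commutatorElement_def, h.conj_cen hg hc, mul_inv_cancel]

/-- The kernel of `q ↦ [g, q]` modulo the centre. -/
def kerSub (g : Ω) (hg : g ∈ S) : Subgroup Ω where
  carrier := {q | q ∈ Q ∧ ⁅g, q⁆ ∈ cen Q}
  one_mem' := ⟨Q.one_mem, by simp [(cen Q).one_mem]⟩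
  mul_mem' := fun {a b} ha hb => ⟨Q.mul_mem ha.1 hb.1, by
    rw [comm_mul_right, h.conj_cen (h.le ha.1) hb.2]
    exact (cen Q).mul_mem ha.2 hb.2⟩
  inv_mem' := fun {a} ha => ⟨Q.inv_mem ha.1, by
    have e := comm_mul_right g a⁻¹ a
    rw [inv_mul_cancel, commutatorElement_one_right, h.conj_cen (h.le (Q.inv_mem ha.1)) ha.2] at e
    rw [eq_inv_of_mul_eq_one_left e.symm]
    exact (cen Q).inv_mem ha.2⟩

/-- The image of `q ↦ [g, q]`, with the centre. -/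
def imSub (g : Ω) (hg : g ∈ S) : Subgroup Ω where
  carrier := {u | ∃ q ∈ Q, ∃ c ∈ cen Q, u = ⁅g, q⁆ * c}
  one_mem' := ⟨1, Q.one_mem, 1, (cen Q).one_mem, by simp⟩
  mul_mem' := by
    rintro _ _ ⟨a, ha, c, hc, rfl⟩ ⟨b, hb, d, hd, rfl⟩
    refine ⟨a * b, Q.mul_mem ha hb, ⁅a, ⁅g, b⁆⁆⁻¹ * (c * d), (cen Q).mul_mem ((cen Q).inv_mem
      (h.comm_mem ha (h.comm_S_Q hg hb))) ((cen Q).mul_mem hc hd), ?_⟩
    have e1 : a * ⁅g, b⁆ * a⁻¹ = ⁅a, ⁅g, b⁆⁆ * ⁅g, b⁆ := by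
      simp only [commutatorElement_def]; group
    have hgb := h.le (h.comm_S_Q hg hb)
    have h1 : Commute ⁅g, b⁆ ⁅a, ⁅g, b⁆⁆ := h.z_central (h.comm_mem ha (h.comm_S_Q hg hb)) hgb
    have h2 : Commute ⁅g, b⁆ c := h.z_central hc hgb
    rw [comm_mul_right, e1, ← h1.eq]
    calc ⁅g, a⁆ * c * (⁅g, b⁆ * d) = ⁅g, a⁆ * (c * ⁅g, b⁆) * d := by group
      _ = ⁅g, a⁆ * (⁅g, b⁆ * c) * d := by rw [h2.eq]
      _ = _ := by group
  inv_mem' := by
    rintro _ ⟨a, ha, c, hc, rfl⟩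
    refine ⟨a⁻¹, Q.inv_mem ha, ⁅a⁻¹, ⁅g, a⁆⁆ * c⁻¹, (cen Q).mul_mem
      (h.comm_mem (Q.inv_mem ha) (h.comm_S_Q hg ha)) ((cen Q).inv_mem hc), ?_⟩
    have e : ⁅g, a⁻¹⁆ = (⁅a⁻¹, ⁅g, a⁆⁆ * ⁅g, a⁆)⁻¹ := by simp only [commutatorElement_def]; group
    have hga := h.le (h.comm_S_Q hg ha)
    have hm := h.comm_mem (Q.inv_mem ha) (h.comm_S_Q hg ha)
    rw [e, mul_inv_rev, mul_inv_rev, mul_assoc, inv_mul_cancel_left]
    exact ((h.z_central ((cen Q).inv_mem hc) (S.inv_mem hga)) : _ = _).symm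

theorem mem_kerSub {g q : Ω} (hg : g ∈ S) : q ∈ h.kerSub g hg ↔ q ∈ Q ∧ ⁅g, q⁆ ∈ cen Q := Iff.rfl

theorem cen_le_kerSub {g : Ω} (hg : g ∈ S) : cen Q ≤ h.kerSub g hg := fun c hc =>
  ⟨hc.1, by rw [h.comm_cen hg hc]; exact (cen Q).one_mem⟩

theorem imSub_le {g : Ω} (hg : g ∈ S) : h.imSub g hg ≤ Q := by
  rintro _ ⟨q, hq, c, hc, rfl⟩
  exact Q.mul_mem (h.comm_S_Q hg hq) hc.1

theorem cen_le_imSub {g : Ω} (hg : g ∈ S) : cen Q ≤ h.imSub g hg := fun c hc =>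
  ⟨1, Q.one_mem, c, hc, by simp⟩

theorem comm_mem_imSub {g q : Ω} (hg : g ∈ S) (hq : q ∈ Q) : ⁅g, q⁆ ∈ h.imSub g hg :=
  ⟨q, hq, 1, (cen Q).one_mem, (mul_one _).symm⟩

/-- The image is orthogonal to the kernel. -/
theorem cc_im_ker {g u k : Ω} (hg : g ∈ S) (hu : u ∈ h.imSub g hg) (hk : k ∈ h.kerSub g hg) :
    cc p z u k = 0 := by
  obtain ⟨q, hq, c, hc, rfl⟩ := hu
  have e := h.cc_conj hg hq hk.1
  have eq' : g * q * g⁻¹ = ⁅g, q⁆ * q := by rw [commutatorElement_def]; group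
  have ek : g * k * g⁻¹ = ⁅g, k⁆ * k := by rw [commutatorElement_def]; group
  have hgq := h.comm_S_Q hg hq
  rw [eq', ek, h.cc_mul_left hgq hq (Q.mul_mem hk.2.1 hk.1), h.cc_mul_right hgq hk.2.1 hk.1,
    h.cc_mul_right hq hk.2.1 hk.1, h.cc_cen_right hk.2 hgq, h.cc_cen_right hk.2 hq, zero_add, zero_add,
    add_eq_right] at e
  rw [h.cc_mul_left hgq hc.1 hk.1, h.cc_cen_left hc hk.1, add_zero, e]

theorem card_ker_im {g : Ω} (hg : g ∈ S) :
    Nat.card (h.kerSub g hg) * Nat.card (h.imSub g hg) = Nat.card Q * p := by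
  haveI := finite_of_le h.le
  haveI := finite_of_le ((h.imSub_le hg).trans h.le)
  haveI := finite_of_le h.z_le
  let Z' : Subgroup (h.imSub g hg) := (cen Q).subgroupOf (h.imSub g hg)
  haveI : Z'.Normal := ⟨fun a ha b => by
    show (b : Ω) * a * (b : Ω)⁻¹ ∈ cen Q
    rw [h.conj_cen (w := (a : Ω)) (h.le (h.imSub_le hg b.2)) ha]; exact ha⟩
  let φ : Q →* (h.imSub g hg) ⧸ Z' :=
    MonoidHom.mk' (fun q => QuotientGroup.mk ⟨⁅g, (q : Ω)⁆, h.comm_mem_imSub hg q.2⟩) (fun a b => by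
      rw [← QuotientGroup.mk_mul]
      refine (QuotientGroup.eq.2 ?_)
      show (⁅g, (a : Ω) * b⁆)⁻¹ * (⁅g, (a : Ω)⁆ * ⁅g, (b : Ω)⁆) ∈ cen Q
      rw [comm_mul_right, mul_inv_rev, mul_assoc, inv_mul_cancel_left]
      have e : ((a : Ω) * ⁅g, (b : Ω)⁆ * (a : Ω)⁻¹)⁻¹ * ⁅g, (b : Ω)⁆ = ⁅(a : Ω), ⁅g, (b : Ω)⁆⁆⁻¹ := by
        have e1 : (a : Ω) * ⁅g, (b : Ω)⁆ * (a : Ω)⁻¹ = ⁅(a : Ω), ⁅g, (b : Ω)⁆⁆ * ⁅g, (b : Ω)⁆ := by
          simp only [commutatorElement_def]; group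
        rw [e1, mul_inv_rev, (h.z_central ((cen Q).inv_mem (h.comm_mem a.2 (h.comm_S_Q hg b.2)))
          (S.inv_mem (h.le (h.comm_S_Q hg b.2)))), inv_mul_cancel_right]
      rw [e]
      exact (cen Q).inv_mem (h.comm_mem a.2 (h.comm_S_Q hg b.2)))
  have hker : φ.ker = (h.kerSub g hg).subgroupOf Q := by
    ext q
    rw [MonoidHom.mem_ker, Subgroup.mem_subgroupOf]
    exact (QuotientGroup.eq_one_iff _).trans ⟨fun e => ⟨q.2, e⟩, fun e => e.2⟩
  have hsurj : φ.range = ⊤ := by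
    refine top_unique fun x _ => ?_
    obtain ⟨⟨u, hu⟩, rfl⟩ := QuotientGroup.mk'_surjective Z' x
    obtain ⟨q, hq, c, hc, he⟩ := hu
    refine ⟨⟨q, hq⟩, QuotientGroup.eq.2 ?_⟩
    show (⁅g, q⁆)⁻¹ * u ∈ cen Q
    rw [he, inv_mul_cancel_left]; exact hc
  have e1 := φ.ker.card_mul_index
  rw [Subgroup.index_ker, hsurj, Subgroup.card_top, hker,
    Nat.card_congr (Subgroup.subgroupOfEquivOfLe fun q hq => ((h.mem_kerSub hg).1 hq).1).toEquiv] at e1
  have e2 := Z'.card_mul_index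
  rw [Nat.card_congr (Subgroup.subgroupOfEquivOfLe (h.cen_le_imSub hg)).toEquiv, h.card_z] at e2
  rw [← e2, ← e1, Subgroup.index_eq_card]
  ring

/-- The centralizer of the kernel is the image. -/
theorem perp_ker {g : Ω} (hg : g ∈ S) :
    Q ⊓ Subgroup.centralizer (h.kerSub g hg : Set Ω) = h.imSub g hg := by
  haveI := finite_of_le h.le
  haveI : Finite (Q ⊓ Subgroup.centralizer (h.kerSub g hg : Set Ω) : Subgroup Ω) :=
    finite_of_le (inf_le_left.trans h.le)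
  haveI : Finite (h.kerSub g hg) := finite_of_le fun q hq => h.le ((h.mem_kerSub hg).1 hq).1
  refine (Subgroup.eq_of_le_of_card_ge (H := h.imSub g hg) (K := Q ⊓ Subgroup.centralizer (h.kerSub g hg : Set Ω))
    (fun u hu => Subgroup.mem_inf.2 ⟨h.imSub_le hg hu, fun k hk =>
    ((h.cc_eq_zero (h.imSub_le hg hu) hk.1).1 (h.cc_im_ker hg hu hk)).symm⟩) ?_).symm
  refine Nat.le_of_mul_le_mul_right ?_ (Nat.card_pos (α := h.kerSub g hg))
  refine (h.card_perp_le (fun q hq => ((h.mem_kerSub hg).1 hq).1) (h.cen_le_kerSub hg)).trans (le_of_eq ?_)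
  rw [mul_comm p, ← h.card_ker_im hg, mul_comm]

end Setup

end Cfsg.Lib.Fusion.ExIdxP
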