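import Cfsg.Agent.Fusion.ExIdxP.Transvection
import Cfsg.Agent.Fusion.ExIdxP.Algebra
import Cfsg.Agent.Fusion.Pearl

/-!
The case of a pearl: the levels of a group of maximal class below `Q`.
-/

set_option autoImplicit false
set_option linter.style.haveILetI false
set_option linter.unusedSectionVars false

namespace Cfsg.Lib.Fusion.ExIdxP

open Cfsg Cfsg.FusionSystem Cfsg.Lib.Fusion Cfsg.Lib.Fusion.ExtraspecialIndex
open scoped commutatorElement
open Cfsg.Lib.PGroups

universe u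

variable {Ω : Type u} [Group Ω] {S : Subgroup Ω} {F : FusionSystem S} {p : ℕ}

/-- The levels: `Q`, then the lower central series. -/
def lev (S Q : Subgroup Ω) (i : ℕ) : Subgroup Ω :=
  if i = 0 then Q else (MaxClassRank.L S i).map S.subtype

/-- The pearl data. -/
structure Pl (F : FusionSystem S) (p : ℕ) [Finite S] [Fact p.Prime] (Q : Subgroup Ω) (z x : Ω) (N : ℕ)
    (h : Setup F p Q z) : Prop where
  ess : Ess F p Q z x
  aq : Aq S Q x = cen Q
  card : Nat.card S = p ^ N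

namespace Pl

variable [Finite S] [hp : Fact p.Prime] {Q : Subgroup Ω} {z x : Ω} {N : ℕ} {h : Setup F p Q z}
  (d : Pl F p Q z x N h)
include d

theorem six_le : 6 ≤ N := by
  have h1 := h.idx
  rw [d.card] at h1
  have h2 : p ^ 6 ≤ p ^ N := by
    rw [h1]
    exact le_of_eq_of_le (by ring) (Nat.mul_le_mul (le_refl p) h.big)
  exact (Nat.pow_le_pow_iff_right hp.out.one_lt).1 h2

theorem card_Q' : Nat.card Q = p ^ (N - 1) := by
  have h1 := h.idx
  rw [d.card, show N = N - 1 + 1 by have := d.six_le; omega, pow_succ'] at h1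
  exact (Nat.eq_of_mul_eq_mul_left hp.out.pos h1).symm

theorem card_E' : Nat.card (cS S x) = p ^ 2 := by
  rw [d.ess.card_E h, d.aq, h.card_z, sq]

theorem comm_mem_cen {u : Ω} (hu : u ∈ Q) (hx : Commute x u) : u ∈ cen Q :=
  d.aq ▸ (⟨hu, mem_cS.2 ⟨h.le hu, hx.symm.eq⟩⟩ : u ∈ Aq S Q x)

theorem data : ∃ hx : x ∈ S, MaxClassRank.Data p N (⟨x, hx⟩ : S) := by
  haveI : Group.IsNilpotent S := h.isP.isNilpotent
  have hxS := d.ess.xS h
  refine ⟨hxS, ?_, ?_, d.card, ?_, ?_, ?_⟩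
  · have h2 := hp.out.two_le
    have h3 := h.odd
    omega
  · have := d.six_le; omega
  · set A := (cS S x).subgroupOf S
    have hA : Nat.card A = p ^ 2 :=
      (Nat.card_congr (Subgroup.subgroupOfEquivOfLe (cS_le x)).toEquiv).trans d.card_E'
    refine Cfsg.Lib.MaxClass.of_self_centralizing N S d.card A hA (le_antisymm ?_ ?_)
    · intro g hg
      exact mem_cS.2 ⟨g.2, (congrArg Subtype.val (Subgroup.mem_centralizer_iff.1 hg ⟨x, hxS⟩
        (d.ess.xE h))).symm⟩
    · exact fun a ha => Subgroup.mem_centralizer_iff.2 fun b hb =>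
        Subtype.ext (d.ess.comm h hb ha).eq
  · exact Subtype.ext (by rw [Subgroup.coe_pow]; exact d.ess.xp h)
  · rw [← d.card_E', ← Nat.card_congr (Subgroup.subgroupOfEquivOfLe (cS_le (S := S) x)).toEquiv]
    refine congrArg (fun H : Subgroup S => Nat.card H) ?_
    ext g
    rw [Subgroup.mem_centralizer_singleton_iff, Subgroup.mem_subgroupOf, mem_cS]
    exact ⟨fun e => ⟨g.2, congrArg Subtype.val e⟩, fun e => Subtype.ext e.2⟩

theorem cls : Group.nilpotencyClass S = N - 1 := by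
  haveI : Group.IsNilpotent S := h.isP.isNilpotent
  obtain ⟨_, D⟩ := d.data
  exact D.cls

theorem lev_le (i : ℕ) : lev S Q i ≤ Q := by
  rw [lev]
  split_ifs with hi
  · exact le_rfl
  · refine le_trans (Subgroup.map_mono (MaxClassRank.L_le (show 1 ≤ i by omega))) ?_
    rw [Subgroup.map_le_iff_le_comap, show MaxClassRank.L S 1 = commutator S from Subgroup.top_lowerCentralSeries_one,
      commutator_def, Subgroup.commutator_le]
    intro a _ b _
    exact h.comm_SS a.2 b.2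

theorem lev_succ_le (i : ℕ) : lev S Q (i + 1) ≤ lev S Q i := by
  cases i with
  | zero => exact d.lev_le 1
  | succ i =>
    rw [lev, lev, if_neg (by omega), if_neg (by omega)]
    exact Subgroup.map_mono (MaxClassRank.L_le (Nat.le_succ _))

theorem lev_anti {i j : ℕ} (hij : i ≤ j) : lev S Q j ≤ lev S Q i := by
  induction hij with
  | refl => exact le_rfl
  | step _ ih => exact (d.lev_succ_le _).trans ih

theorem lev_conj {i : ℕ} {g u : Ω} (hg : g ∈ S) (hu : u ∈ lev S Q i) : g * u * g⁻¹ ∈ lev S Q i := by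
  rw [lev] at hu ⊢
  split_ifs at hu ⊢ with hi
  · exact h.conj_Q hg hu
  · obtain ⟨w, hw, rfl⟩ := hu
    exact ⟨⟨g, hg⟩ * w * ⟨g, hg⟩⁻¹, (inferInstance : (MaxClassRank.L S i).Normal).conj_mem w hw _, rfl⟩

theorem lev_comm {i : ℕ} {g u : Ω} (hg : g ∈ S) (hu : u ∈ lev S Q i) : ⁅g, u⁆ ∈ lev S Q (i + 1) := by
  rw [lev] at hu
  rw [lev, if_neg (by omega)]
  split_ifs at hu with hi
  · subst hi
    refine ⟨⁅(⟨g, hg⟩ : S), ⟨u, h.le hu⟩⁆, ?_, rfl⟩
    rw [show MaxClassRank.L S (0 + 1) = commutator S from Subgroup.top_lowerCentralSeries_one]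
    exact Subgroup.commutator_mem_commutator (Subgroup.mem_top _) (Subgroup.mem_top _)
  · obtain ⟨w, hw, rfl⟩ := hu
    refine ⟨⁅(⟨g, hg⟩ : S), w⁆, ?_, rfl⟩
    rw [← commutatorElement_inv w]
    exact Subgroup.inv_mem _ (MaxClassRank.comm_mem_succ hw _)

theorem lev_card {i : ℕ} (hi : i ≤ N - 1) : Nat.card (lev S Q i) = p ^ (N - 1 - i) := by
  haveI : Group.IsNilpotent S := h.isP.isNilpotent
  rw [lev]
  split_ifs with h0
  · rw [h0, Nat.sub_zero, d.card_Q']
  · obtain ⟨_, D⟩ := d.data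
    rw [Subgroup.card_map_of_injective S.subtype_injective, D.L_card (by omega) hi]

theorem finite_lev (i : ℕ) : Finite (lev S Q i) := finite_of_le ((d.lev_le i).trans h.le)

theorem lev_bot : lev S Q (N - 1) = ⊥ := by
  haveI := d.finite_lev (N - 1)
  exact Subgroup.card_eq_one.1 (by rw [d.lev_card le_rfl, Nat.sub_self, pow_zero])

theorem lev_top : lev S Q (N - 2) = cen Q := by
  haveI := finite_of_le h.z_le
  have hN := d.six_le
  refine Subgroup.eq_of_le_of_card_ge (fun u hu => ?_) ?_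
  · rw [← h.hcen]
    refine ⟨h.le (d.lev_le _ hu), fun g hg => ?_⟩
    have := d.lev_comm hg hu
    rw [show N - 2 + 1 = N - 1 by omega, d.lev_bot, Subgroup.mem_bot] at this
    exact commutatorElement_eq_one_iff_mul_comm.1 this
  · rw [h.card_z, d.lev_card (by omega), show N - 1 - (N - 2) = 1 by omega, pow_one]

theorem cen_le_lev {i : ℕ} (hi : i ≤ N - 2) : cen Q ≤ lev S Q i :=
  (d.lev_top).ge.trans (d.lev_anti hi)

theorem lev_surj {i : ℕ} (hi : i < N - 2) {w : Ω} (hw : w ∈ lev S Q (i + 1)) :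
    ∃ u ∈ lev S Q i, ⁅x, u⁆ = w := by
  haveI := d.finite_lev i
  haveI := d.finite_lev (i + 1)
  haveI := finite_of_le h.z_le
  have hxS := d.ess.xS h
  let Φ : lev S Q i → lev S Q (i + 1) := fun u => ⟨⁅x, (u : Ω)⁆, d.lev_comm hxS u.2⟩
  have hrep : ∀ v : Set.range Φ, ∃ u, Φ u = v := fun v => v.2
  choose r hr using hrep
  have hker : ∀ u : lev S Q i, ((r ⟨Φ u, u, rfl⟩ : lev S Q i) : Ω)⁻¹ * u ∈ cen Q := by
    intro u
    set u₀ := r ⟨Φ u, u, rfl⟩
    refine d.comm_mem_cen (Q.mul_mem (Q.inv_mem (d.lev_le i u₀.2)) (d.lev_le i u.2)) ?_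
    have e : ⁅x, (u₀ : Ω)⁆ = ⁅x, (u : Ω)⁆ := congrArg Subtype.val (hr ⟨Φ u, u, rfl⟩)
    have e1 : x * (u₀ : Ω) * x⁻¹ = ⁅x, (u : Ω)⁆ * u₀ := by rw [← e, commutatorElement_def]; group
    have e2 : x * (u : Ω) * x⁻¹ = ⁅x, (u : Ω)⁆ * u := by rw [commutatorElement_def]; group
    refine mul_inv_eq_iff_eq_mul.1 ?_
    calc x * ((u₀ : Ω)⁻¹ * u) * x⁻¹ = (x * u₀ * x⁻¹)⁻¹ * (x * u * x⁻¹) := by group
      _ = _ := by rw [e1, e2]; group
  let J : lev S Q i → Set.range Φ × cen Q := fun u => (⟨Φ u, u, rfl⟩, ⟨_, hker u⟩)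
  have hJ : Function.Injective J := by
    intro a b e
    have e1 := congrArg Prod.fst e
    have e2 := congrArg (fun q => ((q.2 : cen Q) : Ω)) e
    simp only [J] at e1 e2
    rw [e1] at e2
    exact Subtype.ext (mul_left_cancel e2)
  have hle := Nat.card_le_card_of_injective J hJ
  rw [Nat.card_prod, h.card_z, d.lev_card (show i ≤ N - 1 by omega)] at hle
  have hfull : Set.range Φ = Set.univ := by
    refine Set.eq_of_subset_of_ncard_le (Set.subset_univ _) ?_ (Set.toFinite _)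
    rw [Set.ncard_univ, d.lev_card (show i + 1 ≤ N - 1 by omega), ← Nat.card_coe_set_eq]
    refine Nat.le_of_mul_le_mul_right (le_trans (le_of_eq ?_) hle) hp.out.pos
    rw [← pow_succ]; congr 1; omega
  obtain ⟨u, hu⟩ : (⟨w, hw⟩ : lev S Q (i + 1)) ∈ Set.range Φ := hfull ▸ Set.mem_univ _
  exact ⟨u, u.2, congrArg Subtype.val hu⟩

/-- Commutation with `x` detects the level. -/
theorem lev_desc {i : ℕ} (hi : i < N - 2) {v : Ω} (hv : v ∈ lev S Q i) (hc : ⁅x, v⁆ ∈ lev S Q (i + 2)) :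
    v ∈ lev S Q (i + 1) := by
  obtain ⟨w, hw, hwe⟩ : ∃ w ∈ lev S Q (i + 1), ⁅x, w⁆ = ⁅x, v⁆ := by
    by_cases h1 : i + 1 < N - 2
    · exact d.lev_surj h1 hc
    · refine ⟨1, one_mem _, ?_⟩
      rw [show i + 2 = N - 1 by omega, d.lev_bot, Subgroup.mem_bot] at hc
      rw [hc, commutatorElement_one_right]
  have hz : w⁻¹ * v ∈ cen Q := by
    refine d.comm_mem_cen (Q.mul_mem (Q.inv_mem (d.lev_le _ hw)) (d.lev_le _ hv)) ?_
    have e1 : x * w * x⁻¹ = ⁅x, v⁆ * w := by rw [← hwe, commutatorElement_def]; group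
    have e2 : x * v * x⁻¹ = ⁅x, v⁆ * v := by rw [commutatorElement_def]; group
    refine mul_inv_eq_iff_eq_mul.1 ?_
    calc x * (w⁻¹ * v) * x⁻¹ = (x * w * x⁻¹)⁻¹ * (x * v * x⁻¹) := by group
      _ = _ := by rw [e1, e2]; group
  have := (lev S Q (i + 1)).mul_mem hw (d.cen_le_lev (show i + 1 ≤ N - 2 by omega) hz)
  rwa [mul_inv_cancel_left] at this

end Pl

end Cfsg.Lib.Fusion.ExIdxP
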