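import Cfsg.Agent.Fusion.ExIdxP.Pearl
import Cfsg.Agent.Fusion.CharAut

/-!
The torus of a pearl climbs along the normalizers up to the whole group.
-/

set_option autoImplicit false
set_option linter.style.haveILetI false
set_option linter.unusedSectionVars false

namespace Cfsg.Lib.Fusion.ExIdxP

open Cfsg Cfsg.FusionSystem Cfsg.Lib.Fusion Cfsg.Lib.Fusion.ExtraspecialIndex
open scoped commutatorElement
open Cfsg.Lib.PGroups

universe u

variable {Ω : Type u} [Group Ω] {S : Subgroup Ω} {F : FusionSystem S} {p : ℕ}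

/-- The chain of subgroups above the pearl. -/
def lp (S Q : Subgroup Ω) (x : Ω) (i : ℕ) : Subgroup Ω := lev S Q i ⊔ Subgroup.zpowers x

namespace Pl

variable [Finite S] [hp : Fact p.Prime] {Q : Subgroup Ω} {z x : Ω} {N : ℕ} {h : Setup F p Q z}
  (d : Pl F p Q z x N h)
include d

theorem lp_le (i : ℕ) : lp S Q x i ≤ S :=
  sup_le ((d.lev_le i).trans h.le) (Subgroup.zpowers_le.2 (d.ess.xS h))

theorem finite_lp (i : ℕ) : Finite (lp S Q x i) := finite_of_le (d.lp_le i)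

theorem x_mem_lp (i : ℕ) : x ∈ lp S Q x i := Subgroup.mem_sup_right (Subgroup.mem_zpowers x)

theorem z_mem_lp {i : ℕ} (hi : i ≤ N - 2) : z ∈ lp S Q x i :=
  Subgroup.mem_sup_left (d.cen_le_lev hi h.zmem)

theorem mem_lp {i : ℕ} {e : Ω} :
    e ∈ lp S Q x i ↔ ∃ k ∈ lev S Q i, ∃ t : ZMod p, e = k * ze x t := by
  constructor
  · intro he
    haveI := d.finite_lev i
    have hn : Subgroup.zpowers x ≤ Subgroup.normalizer (lev S Q i : Set Ω) := Subgroup.zpowers_le.2
      (mem_normalizer_of_maps_finite fun u hu => d.lev_conj (d.ess.xS h) hu)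
    obtain ⟨k, hk, _, ⟨m, rfl⟩, rfl⟩ := (Cfsg.Lib.Coprime.mem_sup_of_le_normalizer hn).mp he
    refine ⟨k, hk, (m : ZMod p), ?_⟩
    haveI := h.neZero
    congr 1
    rw [ze, ← zpow_natCast, ZMod.val_intCast, ← orderOf_eq_prime (d.ess.xp h) (h.zc_ne_one d.ess.zc)]
    exact (zpow_mod_orderOf x m).symm
  · rintro ⟨k, hk, t, rfl⟩
    exact Subgroup.mul_mem _ (Subgroup.mem_sup_left hk) (ze_in (d.x_mem_lp i) t)

theorem zero_of_ze_Q {t : ZMod p} (ht : ze x t ∈ Q) : t = 0 := by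
  by_contra hne
  exact d.ess.notQ (mem_of_ze_mem (d.ess.xp h) hne ht)

theorem coord_unique {a b : Ω} {s t : ZMod p} (ha : a ∈ Q) (hb : b ∈ Q) (e : a * ze x s = b * ze x t) :
    a = b ∧ s = t := by
  have hst : s - t = 0 := by
    refine d.zero_of_ze_Q ?_
    rw [← mul_inv_eq_iff_eq_mul] at e
    have e' : a⁻¹ * b = ze x (s - t) := by
      rw [sub_eq_add_neg, ← ze_add_of (d.ess.xp h), ze_neg_of (d.ess.xp h), ← e]; group
    exact e' ▸ Q.mul_mem (Q.inv_mem ha) hb
  rw [sub_eq_zero] at hst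
  exact ⟨mul_right_cancel (hst ▸ e), hst⟩

theorem lev_of_lp {i : ℕ} {e : Ω} (he : e ∈ lp S Q x i) (heQ : e ∈ Q) : e ∈ lev S Q i := by
  obtain ⟨k, hk, t, rfl⟩ := d.mem_lp.1 he
  have : ze x t ∈ Q := by
    have := Q.mul_mem (Q.inv_mem (d.lev_le i hk)) heQ
    rwa [inv_mul_cancel_left] at this
  rwa [d.zero_of_ze_Q this, ze_zero_of, mul_one]

theorem lp_top : lp S Q x (N - 2) = cS S x := by
  refine le_antisymm (sup_le (d.lev_top.le.trans (h.cen_le_cS (d.ess.xS h)))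
    (Subgroup.zpowers_le.2 (d.ess.xE h))) fun e he => ?_
  have ha := d.ess.mem_Aq_of_ex h he
  rw [d.aq] at ha
  exact d.mem_lp.2 ⟨_, d.lev_top.ge ha, ex p Q x e, (inv_mul_cancel_right _ _).symm⟩

theorem lp_zero : lp S Q x 0 = S := by
  refine le_antisymm (d.lp_le 0) fun s hs => ?_
  obtain ⟨k, q, hq, rfl⟩ := h.exists_decomp (d.ess.xS h) d.ess.notQ hs
  refine Subgroup.mul_mem _ (Subgroup.mem_sup_left ?_) (Subgroup.zpow_mem _ (d.x_mem_lp 0) k)
  rw [lev, if_pos rfl]; exact hq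

theorem conj_lp {i : ℕ} {g m : Ω} (hg : g ∈ lp S Q x i) (hm : m ∈ lp S Q x (i + 1)) :
    g * m * g⁻¹ ∈ lp S Q x (i + 1) := by
  obtain ⟨k, hk, t, rfl⟩ := d.mem_lp.1 hg
  obtain ⟨k', hk', s, rfl⟩ := d.mem_lp.1 hm
  have hxS := d.ess.xS h
  have hgS : k * ze x t ∈ S := S.mul_mem (h.le (d.lev_le i hk)) (S.pow_mem hxS _)
  have hkx : k * x * k⁻¹ ∈ lp S Q x (i + 1) := by
    rw [show k * x * k⁻¹ = ⁅x, k⁆⁻¹ * x by rw [commutatorElement_def]; group]
    exact Subgroup.mul_mem _ (Subgroup.inv_mem _ (Subgroup.mem_sup_left (d.lev_comm hxS hk))) (d.x_mem_lp _)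
  have e : k * ze x t * (k' * ze x s) * (k * ze x t)⁻¹ =
      k * ze x t * k' * (k * ze x t)⁻¹ * (k * x * k⁻¹) ^ s.val := by
    rw [conj_pow, show x ^ s.val = ze x s from rfl]
    have hc : Commute (ze x t) (ze x s) := (Commute.refl x).pow_pow _ _
    calc k * ze x t * (k' * ze x s) * (k * ze x t)⁻¹
        = k * ze x t * k' * (ze x s * (ze x t)⁻¹) * k⁻¹ := by group
      _ = _ := by rw [(hc.symm.inv_right).eq]; group
  rw [e]
  exact Subgroup.mul_mem _ (Subgroup.mem_sup_left (d.lev_conj hgS hk')) (Subgroup.pow_mem _ hkx _)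

/-- The normalizer of a member of the chain is the next one. -/
theorem norm_lp {i : ℕ} (hi : i < N - 2) {g : Ω} (hg : g ∈ S)
    (hn : ∀ m ∈ lp S Q x (i + 1), g * m * g⁻¹ ∈ lp S Q x (i + 1)) : g ∈ lp S Q x i := by
  obtain ⟨k, q, hq, rfl⟩ := h.exists_decomp (d.ess.xS h) d.ess.notQ hg
  refine Subgroup.mul_mem _ (Subgroup.mem_sup_left ?_) (Subgroup.zpow_mem _ (d.x_mem_lp i) k)
  have hq1 : q * x * q⁻¹ ∈ lp S Q x (i + 1) := by
    have h1 := hn x (d.x_mem_lp _)
    have e : q * x ^ k * x * (q * x ^ k)⁻¹ = q * x * q⁻¹ := by group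
    rwa [e] at h1
  have hxq : ⁅x, q⁆ ∈ lev S Q (i + 1) := by
    refine d.lev_of_lp ?_ (h.comm_S_Q (d.ess.xS h) hq)
    rw [show ⁅x, q⁆ = x * (q * x * q⁻¹)⁻¹ by rw [commutatorElement_def]; group]
    exact Subgroup.mul_mem _ (d.x_mem_lp _) (Subgroup.inv_mem _ hq1)
  have key : ∀ j, j ≤ i → q ∈ lev S Q j := by
    intro j hj
    induction j with
    | zero => rw [lev, if_pos rfl]; exact hq
    | succ j ih =>
      exact d.lev_desc (by omega) (ih (by omega)) (d.lev_anti (show j + 2 ≤ i + 1 by omega) hxq)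
  exact key i le_rfl

theorem pow_form {i : ℕ} {k : Ω} (hk : k ∈ lev S Q i) (t : ZMod p) : ∀ n : ℕ,
    ∃ k' ∈ lev S Q i, (k * ze x t) ^ n = k' * ze x ((n : ZMod p) * t) := by
  intro n
  induction n with
  | zero => exact ⟨1, one_mem _, by rw [pow_zero, Nat.cast_zero, zero_mul, ze_zero_of, mul_one]⟩
  | succ n ih =>
    obtain ⟨k', hk', e⟩ := ih
    refine ⟨k' * (ze x ((n : ZMod p) * t) * k * (ze x ((n : ZMod p) * t))⁻¹),
      Subgroup.mul_mem _ hk' (d.lev_conj (S.pow_mem (d.ess.xS h) _) hk), ?_⟩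
    rw [pow_succ, e, Nat.cast_succ, add_mul, one_mul, ← ze_add_of (d.ess.xp h)]
    group

theorem zc_coset {s : Ω} (hs : s ∈ lev S Q 1) : Zc F z (s * x) := by
  haveI : Group.IsNilpotent S := h.isP.isNilpotent
  obtain ⟨hxS, D⟩ := d.data
  rw [lev, if_neg (by omega)] at hs
  obtain ⟨w, hw, rfl⟩ := hs
  obtain ⟨g, hg⟩ := D.exists_conj hw
  have e : (g : Ω) * x * (g : Ω)⁻¹ = (w : Ω) * x := congrArg Subtype.val hg
  show Zc F z ((w : Ω) * x)
  rw [← e]
  exact h.zc_map (isMap_conj (Subgroup.zpowers_le.2 hxS) g.2) d.ess.zc (Subgroup.mem_zpowers x)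

/-- An automorphism fixing the central line preserves the level. -/
theorem keep {i : ℕ} (h1 : 1 ≤ i) (hi : i ≤ N - 2) {α : MulAut (lp S Q x i)}
    (hα : α ∈ F.autGroup (lp S Q x i)) {c : ZMod p} (hαz : autFun α z = ze z c)
    {u : Ω} (hu : u ∈ lev S Q i) : autFun α u ∈ Q := by
  have huP : u ∈ lp S Q x i := Subgroup.mem_sup_left hu
  obtain ⟨k, hk, t, he⟩ := d.mem_lp.1 (autFun_mem α huP)
  by_cases ht : t = 0
  · rw [he, ht, ze_zero_of, mul_one]; exact d.lev_le i hk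
  exfalso
  haveI := h.neZero
  obtain ⟨k', hk', e'⟩ := d.pow_form hk t (t⁻¹).val
  rw [ZMod.natCast_zmod_val, inv_mul_cancel₀ ht, ze_one_of] at e'
  have hm : IsMap F (lp S Q x i) (autFun α) := (isMap_autFun (d.lp_le i)).2 hα
  have hmi : IsMap F (lp S Q x i) (autFun α⁻¹) := (isMap_autFun (d.lp_le i)).2 (Subgroup.inv_mem _ hα)
  have he' : autFun α (u ^ (t⁻¹).val) = k' * x := by rw [hm.map_pow huP, he, e']
  have hz : Zc F z (u ^ (t⁻¹).val) := by
    have h1' := h.zc_map hmi (d.zc_coset (d.lev_anti h1 hk'))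
      (Subgroup.mul_mem _ (Subgroup.mem_sup_left hk') (d.x_mem_lp i))
    rwa [← he', ← autFun_mul _ _ (Subgroup.pow_mem _ huP _), inv_mul_cancel,
      autFun_one (Subgroup.pow_mem _ huP _)] at h1'
  obtain ⟨r, hr⟩ := h.exists_ze (d.ess.wc _ (Q.pow_mem (d.lev_le i hu) _) hz)
  rw [← hr, map_ze hm (d.z_mem_lp hi), hαz] at he'
  refine d.ess.notQ ?_
  have hQ : k' * x ∈ Q := he' ▸ (Q.pow_mem (h.ze_Q c) _ : ze (ze z c) r ∈ Q)
  have := Q.mul_mem (Q.inv_mem (d.lev_le i hk')) hQ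
  rwa [inv_mul_cancel_left] at this

/-- Automorphisms fixing the pearl pointwise are induced by it. -/
theorem fix_inner {i : ℕ} (h1 : 1 ≤ i) (hi : i ≤ N - 2) {α : MulAut (lp S Q x i)}
    (hα : α ∈ F.autGroup (lp S Q x i)) (hαx : autFun α x = x) (hαz : autFun α z = z) :
    ∃ e ∈ lp S Q x i, ∀ m ∈ lp S Q x i, autFun α m = e * m * e⁻¹ := by
  have hPS := d.lp_le i
  haveI := d.finite_lp i
  have hxP := d.x_mem_lp i
  have hzP := d.z_mem_lp hi
  have hxS := d.ess.xS h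
  -- a power fixes `(lp S Q x i)` pointwise
  have hfix : ∀ r : ℕ, r ≤ N - 2 - i → ∃ k : ℕ, ∀ u ∈ lev S Q (N - 2 - r), autFun (α ^ p ^ k) u = u := by
    intro r hr
    induction r with
    | zero =>
      refine ⟨0, fun u hu => ?_⟩
      rw [Nat.sub_zero, d.lev_top] at hu
      obtain ⟨j, rfl⟩ := h.exists_ze hu
      rw [pow_zero, pow_one, map_ze ((isMap_autFun hPS).2 hα) hzP, hαz]
    | succ r ih =>
      obtain ⟨k, hk⟩ := ih (by omega)
      refine ⟨k + 1, fun u hu => ?_⟩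
      set β := α ^ p ^ k
      have hβ : β ∈ F.autGroup (lp S Q x i) := Subgroup.pow_mem _ hα _
      have hmβ : IsMap F (lp S Q x i) (autFun β) := (isMap_autFun hPS).2 hβ
      have hpows : ∀ (γ : MulAut (lp S Q x i)) (w : Ω), w ∈ (lp S Q x i) → autFun γ w = w → ∀ n : ℕ, autFun (γ ^ n) w = w := by
        intro γ w hw hγ n
        induction n with
        | zero => rw [pow_zero, autFun_one hw]
        | succ n ihn => rw [pow_succ, autFun_mul _ _ hw, hγ, ihn]
      have hβx : autFun β x = x := hpows α x hxP hαx _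
      have hβz : autFun β z = z := hpows α z hzP hαz _
      have huP : u ∈ (lp S Q x i) := Subgroup.mem_sup_left (d.lev_anti (by omega) hu)
      have huQ : u ∈ Q := d.lev_le _ hu
      have hβu : autFun β u ∈ Q :=
        d.keep h1 hi hβ (c := 1) (by rw [hβz, ze_one_of]) (d.lev_anti (by omega) hu)
      have hcu : ⁅x, u⁆ ∈ lev S Q (N - 2 - r) := by
        have := d.lev_comm hxS hu
        rwa [show N - 2 - (r + 1) + 1 = N - 2 - r by omega] at this
      have e : ⁅x, autFun β u⁆ = ⁅x, u⁆ := by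
        calc ⁅x, autFun β u⁆ = x * autFun β u * x⁻¹ * (autFun β u)⁻¹ := commutatorElement_def _ _
          _ = autFun β ⁅x, u⁆ := by
            rw [commutatorElement_def,
              hmβ.map_mul ((lp S Q x i).mul_mem ((lp S Q x i).mul_mem hxP huP) ((lp S Q x i).inv_mem hxP)) ((lp S Q x i).inv_mem huP),
              hmβ.map_conj hxP huP, hmβ.map_inv huP, hβx]
          _ = _ := hk _ hcu
      have hzq : u⁻¹ * autFun β u ∈ cen Q := by
        refine d.comm_mem_cen (Q.mul_mem (Q.inv_mem huQ) hβu) (mul_inv_eq_iff_eq_mul.1 ?_)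
        have e1 : x * u * x⁻¹ = ⁅x, u⁆ * u := by rw [commutatorElement_def]; group
        have e2 : x * autFun β u * x⁻¹ = ⁅x, u⁆ * autFun β u := by rw [← e, commutatorElement_def]; group
        calc x * (u⁻¹ * autFun β u) * x⁻¹ = (x * u * x⁻¹)⁻¹ * (x * autFun β u * x⁻¹) := by group
          _ = _ := by rw [e1, e2]; group
      obtain ⟨j, hj⟩ := h.exists_ze hzq
      have hb : autFun β u = u * ze z j := by rw [hj, mul_inv_cancel_left]
      have hn : ∀ n : ℕ, autFun (β ^ n) u = u * ze z j ^ n := by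
        intro n
        induction n with
        | zero => rw [pow_zero, pow_zero, autFun_one huP, mul_one]
        | succ n ihn =>
          rw [pow_succ', autFun_mul _ _ huP, ihn, hmβ.map_mul huP ((lp S Q x i).pow_mem (ze_in hzP j) n),
            hmβ.map_pow (ze_in hzP j), map_ze hmβ hzP, hβz, hb, pow_succ', mul_assoc]
      rw [pow_succ, pow_mul, hn, h.z_pow (h.ze_mem j), mul_one]
  obtain ⟨k, hk⟩ := hfix (N - 2 - i) le_rfl
  rw [show N - 2 - (N - 2 - i) = i by omega] at hk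
  have hone : α ^ p ^ k = 1 := by
    refine eq_one_of_autFun fun m hm => ?_
    obtain ⟨u, hu, t, rfl⟩ := d.mem_lp.1 hm
    have hmk : IsMap F (lp S Q x i) (autFun (α ^ p ^ k)) := (isMap_autFun hPS).2 (Subgroup.pow_mem _ hα _)
    have hpx : ∀ n : ℕ, autFun (α ^ n) x = x := by
      intro n
      induction n with
      | zero => rw [pow_zero, autFun_one hxP]
      | succ n ihn => rw [pow_succ, autFun_mul _ _ hxP, hαx, ihn]
    rw [hmk.map_mul (Subgroup.mem_sup_left hu) (ze_in hxP t), hk u hu, map_ze hmk hxP, hpx]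
  -- conjugate into a fully normalised conjugate
  obtain ⟨R, hPR, hR⟩ := exists_fullyNormalized (F := F) hPS
  obtain ⟨f, hf, hfR⟩ := isConj_iff.mp hPR
  obtain ⟨-, hfa, -⟩ := fullyNormalized_props h.isP h.sat hR
  set α' := MulAut.congr (hf.equiv hfR) α
  have hα' : α' ∈ F.autGroup R := congr_mem_autGroup hf hfR hα
  have hK : IsPGroup p (Subgroup.zpowers α') := by
    rintro ⟨_, j, rfl⟩
    refine ⟨k, Subtype.ext ?_⟩
    show (α' ^ j) ^ p ^ k = 1
    rw [← zpow_natCast, ← zpow_mul, mul_comm j, zpow_mul, zpow_natCast, ← map_pow, hone, map_one, one_zpow]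
  obtain ⟨χ, hχ, hχK⟩ := exists_conj_into_autS hfa hK (Subgroup.zpowers_le.2 hα')
  obtain ⟨g, hg, eg⟩ := mem_autInducedBy.1 (hχK α' (Subgroup.mem_zpowers α'))
  haveI := finite_of_le hR.1
  have hmR : IsMap F R (autFun χ) := (isMap_autFun hR.1).2 hχ
  set f' := autFun χ ∘ f
  have hfmem : ∀ {m : Ω}, m ∈ (lp S Q x i) → f m ∈ R := fun hm => hfR ▸ IsMap.apply_mem_img hm
  have hf' : IsMap F (lp S Q x i) f' := hf.comp hmR fun m hm => hfmem hm
  have hkey : ∀ {m : Ω}, m ∈ (lp S Q x i) → f' (autFun α m) = g * f' m * g⁻¹ := by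
    intro m hm
    have e1 := eg ⟨f' m, autFun_mem χ (hfmem hm)⟩
    simp only [MulAut.mul_apply] at e1
    rw [show χ⁻¹ ⟨f' m, autFun_mem χ (hfmem hm)⟩ = ⟨f m, hfmem hm⟩ from by
      rw [MulAut.inv_apply, MulEquiv.symm_apply_eq]
      exact Subtype.ext (autFun_apply_mem χ (hfmem hm))] at e1
    rw [← e1, ← autFun_apply χ, ← autFun_apply α' ⟨f m, hfmem hm⟩]
    show autFun χ (f (autFun α m)) = autFun χ (autFun α' (f m))
    rw [congr_equiv_spec hf hfR α hm]
  have hcS : cS S x ≤ (lp S Q x i) := by rw [← d.lp_top]; exact sup_le_sup_right (d.lev_anti hi) _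
  obtain ⟨E', hE'⟩ : ∃ E', img (cS S x) f' = E' := ⟨_, rfl⟩
  have hgE : g ∈ E' := by
    refine d.ess.ess.1.2 E' (isConj_iff.mpr ⟨f', hf'.mono hcS, hE'⟩) (mem_centralizerIn.mpr ⟨hg, ?_⟩)
    intro w hw
    rw [← hE'] at hw
    obtain ⟨e, he, rfl⟩ := (hf'.mono hcS).mem_img.mp hw
    have ha := d.ess.mem_Aq_of_ex h he
    rw [d.aq] at ha
    obtain ⟨j, hj⟩ := h.exists_ze ha
    have hα_e : autFun α e = e := by
      rw [show e = ze z j * ze x (ex p Q x e) by rw [hj, inv_mul_cancel_right],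
        ((isMap_autFun hPS).2 hα).map_mul (ze_in hzP j) (ze_in hxP _), map_ze ((isMap_autFun hPS).2 hα) hzP,
        map_ze ((isMap_autFun hPS).2 hα) hxP, hαz, hαx]
    rw [← hkey (hcS he), hα_e]
  rw [← hE'] at hgE
  obtain ⟨e, he, rfl⟩ := (hf'.mono hcS).mem_img.mp hgE
  refine ⟨e, hcS he, fun m hm => hf'.injOn (autFun_mem α hm)
    ((lp S Q x i).mul_mem ((lp S Q x i).mul_mem (hcS he) hm) ((lp S Q x i).inv_mem (hcS he))) ?_⟩
  rw [hkey hm, hf'.map_conj (hcS he) hm]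

/-- One step of the climb. -/
theorem climb_step {i : ℕ} (hi : i < N - 2) {a b : ZMod p} (hab : a * b = 1) {γ : MulAut (lp S Q x (i + 1))}
    (hγ : γ ∈ F.autGroup (lp S Q x (i + 1))) (hγx : autFun γ x = ze x b) (hγz : autFun γ z = ze z a) :
    ∃ γ' ∈ F.autGroup (lp S Q x i), autFun γ' x = ze x b ∧ autFun γ' z = ze z a := by
  haveI := h.neZero
  have hPS := d.lp_le (i + 1)
  have hxP := d.x_mem_lp (i + 1)
  have hzP := d.z_mem_lp (show i + 1 ≤ N - 2 by omega)
  haveI := d.finite_lp (i + 1)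
  haveI := d.finite_lp i
  have hmγ : IsMap F (lp S Q x (i + 1)) (autFun γ) := (isMap_autFun hPS).2 hγ
  have hcen : centralizerIn S (lp S Q x (i + 1)) ≤ (lp S Q x (i + 1)) := fun c hc => by
    have hce : c ∈ cS S x := mem_cS.2 ⟨hc.1, by
      have e := (mem_centralizerIn.mp hc).2 x hxP
      exact mul_inv_eq_iff_eq_mul.1 e⟩
    rw [← d.lp_top] at hce
    exact sup_le_sup_right (d.lev_anti (by omega)) _ hce
  have hfc : F.IsFullyCentralized (lp S Q x (i + 1)) := by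
    refine ⟨hPS, fun R hPR => ?_⟩
    obtain ⟨f, hf, hfR⟩ := isConj_iff.mp hPR
    have hcS : cS S x ≤ (lp S Q x (i + 1)) := by rw [← d.lp_top]; exact sup_le_sup_right (d.lev_anti (by omega)) _
    have hE' := d.ess.ess.1.2 _ (isConj_iff.mpr ⟨f, hf.mono hcS, rfl⟩)
    haveI : Finite (centralizerIn S (lp S Q x (i + 1))) := finite_of_le inf_le_left
    haveI : Finite (centralizerIn S R) := finite_of_le inf_le_left
    have hpre : ∀ c : centralizerIn S R, ∃ e ∈ cS S x, f e = (c : Ω) := fun c => (hf.mono hcS).mem_img.mp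
      (hE' (mem_centralizerIn.mpr ⟨c.2.1, fun w hw => (mem_centralizerIn.mp c.2).2 w (by
        rw [← hfR]; exact img_mono hcS f hw)⟩))
    choose e he hfe using hpre
    refine Nat.card_le_card_of_injective (fun c => (⟨e c, ?_⟩ : centralizerIn S (lp S Q x (i + 1)))) fun c c' hh => ?_
    · refine mem_centralizerIn.mpr ⟨cS_le x (he c), fun m hm => hf.injOn
        ((lp S Q x (i + 1)).mul_mem ((lp S Q x (i + 1)).mul_mem (hcS (he c)) hm) ((lp S Q x (i + 1)).inv_mem (hcS (he c)))) hm ?_⟩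
      rw [hf.map_conj (hcS (he c)) hm, hfe]
      exact (mem_centralizerIn.mp c.2).2 (f m) (hfR ▸ IsMap.apply_mem_img hm)
    · refine Subtype.ext ?_
      rw [← hfe c, ← hfe c', show e c = e c' from congrArg Subtype.val hh]
  have hrec := receptive_of_fullyCentralized h.isP h.sat hfc
  obtain ⟨f, hf, hag⟩ := receptive_extend hrec hmγ (img_autFun γ)
  have hnorm : ∀ {g : Ω}, g ∈ lp S Q x i → g ∈ Subgroup.normalizer ((lp S Q x (i + 1)) : Set Ω) := fun hg =>
    mem_normalizer_of_maps_finite fun m hm => d.conj_lp hg hm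
  have hle : lp S Q x i ≤ extSub S (lp S Q x (i + 1)) (autFun γ) := by
    intro g hg
    have hgS := d.lp_le i hg
    refine ⟨hgS, hnorm hg, ?_⟩
    set η := γ * conjAut (lp S Q x (i + 1)) g (hnorm hg) * γ⁻¹
    have hη : η ∈ F.autGroup (lp S Q x (i + 1)) := Subgroup.mul_mem _ (Subgroup.mul_mem _ hγ
      (autInducedBy_le hPS (conjAut_mem_autInducedBy _ hgS))) (Subgroup.inv_mem _ hγ)
    have hηspec : ∀ {m : Ω}, m ∈ (lp S Q x (i + 1)) → autFun η (autFun γ m) = autFun γ (g * m * g⁻¹) := fun {m} hm => by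
      rw [autFun_mul _ _ (autFun_mem γ hm), autFun_mul _ _ (autFun_mem _ (autFun_mem γ hm)),
        ← autFun_mul γ⁻¹ γ hm, inv_mul_cancel, autFun_one hm, autFun_apply_mem _ hm, conjAut_apply]
    have hηm : IsMap F (lp S Q x (i + 1)) (autFun η) := (isMap_autFun hPS).2 hη
    have hηz : autFun η z = z := by
      have e := hηspec (ze_in hzP a⁻¹)
      rw [map_ze hmγ hzP, hγz] at e
      have ea : ze (ze z a) a⁻¹ = z := by
        show ze z a ^ (a⁻¹).val = z
        rw [h.ze_pow, ZMod.natCast_zmod_val, inv_mul_cancel₀ (left_ne_zero_of_mul_eq_one hab), h.ze_one]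
      rw [ea, h.conj_cen hgS (h.ze_mem _), map_ze hmγ hzP, hγz, ea] at e
      exact e
    obtain ⟨s, hs, hηx⟩ : ∃ s ∈ lev S Q (i + 1), autFun η x = s * x := by
      have hxx : autFun γ (ze x a) = x := by
        rw [map_ze hmγ hxP, hγx]
        show ze x b ^ a.val = x
        rw [ze_pow_of (d.ess.xp h), ZMod.natCast_zmod_val, hab, ze_one_of]
      obtain ⟨k, hk, t, hkt⟩ := d.mem_lp.1 (d.conj_lp hg (ze_in hxP a))
      have ht : t = a := by
        have hq : ⁅g, ze x a⁆ ∈ Q := h.comm_SS hgS (S.pow_mem (d.ess.xS h) _)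
        rw [show g * ze x a * g⁻¹ = ⁅g, ze x a⁆ * ze x a by rw [commutatorElement_def]; group] at hkt
        exact ((d.coord_unique hq (d.lev_le _ hk) hkt).2).symm
      refine ⟨autFun γ k, d.lev_of_lp (autFun_mem γ (Subgroup.mem_sup_left hk))
        (d.keep (by omega) (by omega) hγ hγz hk), ?_⟩
      have e := hηspec (ze_in hxP a)
      rw [hxx, hkt, ht, hmγ.map_mul (Subgroup.mem_sup_left hk) (ze_in hxP a), hxx] at e
      exact e
    haveI : Group.IsNilpotent S := h.isP.isNilpotent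
    obtain ⟨hxS, D⟩ := d.data
    have hs1 := d.lev_anti (show 1 ≤ i + 1 by omega) hs
    rw [lev, if_neg (by omega)] at hs1
    obtain ⟨w, hw, rfl⟩ := hs1
    obtain ⟨g₁, hg₁⟩ := D.exists_conj hw
    have hg₁x : (g₁ : Ω) * x * (g₁ : Ω)⁻¹ = (w : Ω) * x := congrArg Subtype.val hg₁
    have hg₁n : ∀ m ∈ (lp S Q x (i + 1)), (g₁ : Ω) * m * (g₁ : Ω)⁻¹ ∈ (lp S Q x (i + 1)) := by
      intro m hm
      obtain ⟨k, hk, t, rfl⟩ := d.mem_lp.1 hm
      rw [show (g₁ : Ω) * (k * ze x t) * (g₁ : Ω)⁻¹ = (g₁ : Ω) * k * (g₁ : Ω)⁻¹ * ((g₁ : Ω) * x * (g₁ : Ω)⁻¹) ^ t.val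
        by rw [conj_pow]; unfold ze; group, hg₁x]
      exact (lp S Q x (i + 1)).mul_mem (Subgroup.mem_sup_left (d.lev_conj g₁.2 hk))
        ((lp S Q x (i + 1)).pow_mem ((lp S Q x (i + 1)).mul_mem (Subgroup.mem_sup_left hs) hxP) _)
    have hg₁N : (g₁ : Ω) ∈ Subgroup.normalizer ((lp S Q x (i + 1)) : Set Ω) := mem_normalizer_of_maps_finite hg₁n
    set η' := (conjAut (lp S Q x (i + 1)) g₁ hg₁N)⁻¹ * η
    have hη' : η' ∈ F.autGroup (lp S Q x (i + 1)) :=
      Subgroup.mul_mem _ (Subgroup.inv_mem _ (autInducedBy_le hPS (conjAut_mem_autInducedBy _ g₁.2))) hη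
    have hη'spec : ∀ {m : Ω}, m ∈ (lp S Q x (i + 1)) → autFun η m = (g₁ : Ω) * autFun η' m * (g₁ : Ω)⁻¹ := fun {m} hm => by
      rw [show η = conjAut (lp S Q x (i + 1)) g₁ hg₁N * η' by simp only [η', mul_inv_cancel_left], autFun_mul _ _ hm,
        autFun_apply_mem _ (autFun_mem η' hm), conjAut_apply]
    obtain ⟨e, he, hee⟩ := d.fix_inner (by omega) (by omega) hη'
      (by
        have := hη'spec hxP
        rw [hηx] at this
        exact mul_left_cancel (mul_right_cancel (this.symm.trans hg₁x.symm)))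
      (by
        have := hη'spec hzP
        rw [hηz] at this
        exact mul_left_cancel (mul_right_cancel (this.symm.trans (h.conj_cen g₁.2 h.zmem).symm)))
    refine ⟨(g₁ : Ω) * e, S.mul_mem g₁.2 (hPS he), fun m hm => ?_⟩
    rw [← hηspec hm, hη'spec (autFun_mem γ hm), hee _ (autFun_mem γ hm)]
    group
  have hfm : IsMap F (lp S Q x i) f := hf.mono hle
  have hPle : (lp S Q x (i + 1)) ≤ lp S Q x i := sup_le_sup_right (d.lev_succ_le i) _
  have hfin : img (lp S Q x i) f = lp S Q x i := by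
    refine Subgroup.eq_of_le_of_card_ge (IsMap.img_le_iff.mpr fun g hg => ?_) (le_of_eq hfm.card_img.symm)
    refine d.norm_lp hi (hfm.mem_S hg) fun m hm => ?_
    have hm' : m ∈ img (lp S Q x (i + 1)) (autFun γ) := by rw [img_autFun]; exact hm
    obtain ⟨m₀, hm₀, rfl⟩ := hmγ.mem_img.mp hm'
    rw [← hag m₀ hm₀, ← hfm.map_conj hg (hPle hm₀), hag _ (d.conj_lp hg hm₀)]
    exact autFun_mem γ (d.conj_lp hg hm₀)
  obtain ⟨γ', hγ', hγ'f⟩ := hfm.exists_aut hfin
  exact ⟨γ', hγ', by rw [hγ'f x (hPle hxP), hag x hxP, hγx], by rw [hγ'f z (hPle hzP), hag z hzP, hγz]⟩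

/-- The torus on the pearl. -/
theorem base_torus {a : ZMod p} (ha : a ≠ 0) :
    ∃ γ ∈ F.autGroup (cS S x), autFun γ x = ze x a⁻¹ ∧ autFun γ z = ze z a := by
  haveI := h.neZero
  have hE := cS_le (S := S) x
  have hxE := d.ess.xE h
  have hzE := d.ess.zE h
  have hN := d.six_le
  haveI := finite_of_le hE
  obtain ⟨q₀, hq₀, hq₀x⟩ := d.lev_surj (show N - 3 < N - 2 by omega)
    (show z ∈ lev S Q (N - 3 + 1) by rw [show N - 3 + 1 = N - 2 by omega, d.lev_top]; exact h.zmem)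
  have hqQ : q₀⁻¹ ∈ Q := Q.inv_mem (d.lev_le _ hq₀)
  have hqx : q₀⁻¹ * x * q₀⁻¹⁻¹ = z * x := by
    have hc : Commute q₀ z := h.z_central h.zmem (h.le (d.lev_le _ hq₀))
    have e : x * q₀ * x⁻¹ = z * q₀ := by rw [← hq₀x, commutatorElement_def]; group
    have e' : x * q₀ * x⁻¹ = q₀ * z := e.trans hc.eq.symm
    have e3 : x * q₀ = q₀ * (z * x) := by
      calc x * q₀ = x * q₀ * x⁻¹ * x := by group
        _ = _ := by rw [e', mul_assoc]
    rw [inv_inv, mul_assoc, e3, inv_mul_cancel_left]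
  have hqn : q₀⁻¹ ∈ Subgroup.normalizer (cS S x : Set Ω) := by
    refine mem_normalizer_of_maps_finite fun e he => ?_
    have hae := d.ess.mem_Aq_of_ex h he
    rw [d.aq] at hae
    rw [show e = e * (ze x (ex p Q x e))⁻¹ * ze x (ex p Q x e) by rw [inv_mul_cancel_right], ← conj_mul,
      h.conj_cen (h.le hqQ) hae, ze, ← conj_pow, hqx]
    exact (cS S x).mul_mem (h.cen_le_cS (d.ess.xS h) hae) ((cS S x).pow_mem ((cS S x).mul_mem hzE hxE) _)
  set A := conjAut (cS S x) q₀⁻¹ hqn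
  have hAG : A ∈ F.autGroup (cS S x) := autInducedBy_le hE (conjAut_mem_autInducedBy _ (h.le hqQ))
  obtain ⟨φ, hφ, hφz⟩ := d.ess.moved
  let zE : cS S x := ⟨z, hzE⟩
  let xE : cS S x := ⟨x, hxE⟩
  have hcomm : ∀ a b : cS S x, Commute a b := fun a b => Subtype.ext (d.ess.comm h a.2 b.2)
  have hAz : A zE = zE := Subtype.ext (by rw [conjAut_apply]; exact h.conj_cen (h.le hqQ) h.zmem)
  have hAx : A xE = zE * xE := Subtype.ext (by rw [conjAut_apply]; exact hqx)
  have hφ' : φ zE = xE := Subtype.ext ((autFun_apply φ zE).symm.trans hφz)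
  obtain ⟨r, hr⟩ : ∃ r, φ.symm zE = r := ⟨_, rfl⟩
  have hra := d.ess.mem_Aq_of_ex h r.2
  rw [d.aq] at hra
  obtain ⟨j, hj⟩ := h.exists_ze hra
  obtain ⟨s, hsdef⟩ : ∃ s, ex p Q x (r : Ω) = s := ⟨_, rfl⟩
  rw [hsdef] at hj
  have hrE : r = zE ^ j.val * xE ^ s.val := Subtype.ext (by
    show (r : Ω) = ze z j * ze x s
    rw [hj, inv_mul_cancel_right])
  have hs : s ≠ 0 := by
    intro hs0
    have e : zE = xE ^ j.val := by
      conv_lhs => rw [← φ.apply_symm_apply zE, hr, hrE, hs0, ZMod.val_zero, pow_zero, mul_one, map_pow, hφ']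
    exact d.ess.notQ (mem_of_ze_mem (d.ess.xp h) (i := j) (by
      intro hj0
      rw [hj0, ZMod.val_zero, pow_zero] at e
      exact h.z1 (congrArg Subtype.val e)) (by
      show x ^ j.val ∈ Q
      rw [show x ^ j.val = z from (congrArg Subtype.val e).symm]; exact h.zQ))
  set B := φ * A * φ⁻¹
  have hBG : B ∈ F.autGroup (cS S x) := Subgroup.mul_mem _ (Subgroup.mul_mem _ hφ hAG) (Subgroup.inv_mem _ hφ)
  have hBx : B xE = xE := by
    show φ (A (φ.symm xE)) = xE
    rw [← hφ', φ.symm_apply_apply, hAz]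
  have hBz : B zE = xE ^ s.val * zE := by
    show φ (A (φ.symm zE)) = _
    rw [hr]
    have e : A r = zE ^ s.val * r := by
      rw [hrE, map_mul, map_pow, map_pow, hAz, hAx, (hcomm zE xE).mul_pow, ← mul_assoc, ← mul_assoc,
        (hcomm (zE ^ j.val) (zE ^ s.val)).eq]
    rw [e, map_mul, map_pow, hφ', ← hr, φ.apply_symm_apply]
  have hpn : ∀ (T : MulAut (cS S x)) (u w v : cS S x), T u = w * u → T w = w → v = w →
      ∀ n : ℕ, (T ^ n) u = w ^ n * u ∧ (T ^ n) w = w := by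
    intro T u w v h1 h2 _ n
    induction n with
    | zero => simp
    | succ n ih =>
      rw [pow_succ', MulAut.mul_apply, MulAut.mul_apply, ih.1, ih.2, map_mul, map_pow, h1, h2, pow_succ,
        mul_assoc]
      exact ⟨rfl, rfl⟩
  have hA' : ∀ i : ZMod p, (A ^ i.val) xE = zE ^ i.val * xE ∧ (A ^ i.val) zE = zE := fun i =>
    hpn A xE zE zE hAx hAz rfl i.val
  have hB' : ∀ i : ZMod p, (B ^ i.val) zE = (xE ^ s.val) ^ i.val * zE ∧ (B ^ i.val) xE = xE := fun i => by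
    have hBs : B (xE ^ s.val) = xE ^ s.val := by rw [map_pow, hBx]
    refine ⟨(hpn B zE (xE ^ s.val) _ hBz hBs rfl i.val).1, ?_⟩
    induction i.val with
    | zero => rfl
    | succ n ih => rw [pow_succ, MulAut.mul_apply, hBx, ih]
  let T : ZMod p → MulAut (cS S x) := fun i => A ^ i.val
  let L : ZMod p → MulAut (cS S x) := fun i => B ^ (i / s).val
  have hxp : ∀ i j : ZMod p, (xE ^ i.val) ^ j.val = xE ^ (i * j).val := fun i j => Subtype.ext (by
    show ze x i ^ j.val = ze x (i * j)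
    rw [ze_pow_of (d.ess.xp h), ZMod.natCast_zmod_val, mul_comm])
  let m : ZMod p → ZMod p → cS S x := fun u w => xE ^ u.val * zE ^ w.val
  have hm_x : xE = m 1 0 := by simp [m, ZMod.val_one]
  have hm_z : zE = m 0 1 := by simp [m, ZMod.val_one]
  have hadd : ∀ u w u' w', m u w * m u' w' = m (u + u') (w + w') := by
    intro u w u' w'
    refine Subtype.ext ?_
    show ze x u * ze z w * (ze x u' * ze z w') = ze x (u + u') * ze z (w + w')
    rw [← ze_add_of (d.ess.xp h), ← h.ze_add,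
      mul_assoc (ze x u) (ze z w), ← mul_assoc (ze z w), (h.ze_comm w (show ze x u' ∈ S from S.pow_mem (d.ess.xS h) _)).symm.eq]
    simp only [ze, mul_assoc]
  have hmT : ∀ i u w, T i (m u w) = m u (w + i * u) := by
    intro i u w
    show (A ^ i.val) (xE ^ u.val * zE ^ w.val) = _
    rw [map_mul, map_pow, map_pow, (hA' i).1, (hA' i).2, (hcomm (zE ^ i.val) xE).mul_pow]
    refine Subtype.ext ?_
    show (z ^ i.val) ^ u.val * ze x u * ze z w = ze x u * ze z (w + i * u)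
    rw [show (z ^ i.val) ^ u.val = ze z (u * i) by
      show ze z i ^ u.val = _
      rw [h.ze_pow, ZMod.natCast_zmod_val], (h.ze_comm _ (show ze x u ∈ S from S.pow_mem (d.ess.xS h) _)).symm.eq]
    rw [mul_assoc, h.ze_add, add_comm, mul_comm u i]
  have hmL : ∀ i u w, L i (m u w) = m (u + i * w) w := by
    intro i u w
    show (B ^ (i / s).val) (xE ^ u.val * zE ^ w.val) = _
    rw [map_mul, map_pow, map_pow, (hB' _).1, (hB' _).2, hxp, mul_div_cancel₀ _ hs,
      (hcomm (xE ^ i.val) zE).mul_pow, hxp, ← mul_assoc]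
    refine Subtype.ext ?_
    show ze x u * ze x (i * w) * ze z w = ze x (u + i * w) * ze z w
    rw [ze_add_of (d.ess.xp h)]
  let w' : ZMod p → MulAut (cS S x) := fun t => T t * L (-t⁻¹) * T t
  have hw : ∀ t, t ≠ 0 → ∀ u v, w' t (m u v) = m (-(t⁻¹ * v)) (t * u) := by
    intro t ht u v
    show T t (L (-t⁻¹) (T t (m u v))) = _
    rw [hmT, hmL, hmT]
    congr 1 <;> field_simp <;> ring
  set γ := w' a * w' (-1)
  have hG : ∀ t, w' t ∈ F.autGroup (cS S x) := fun t => Subgroup.mul_mem _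
    (Subgroup.mul_mem _ (Subgroup.pow_mem _ hAG _) (Subgroup.pow_mem _ hBG _)) (Subgroup.pow_mem _ hAG _)
  refine ⟨γ, Subgroup.mul_mem _ (hG a) (hG (-1)), ?_, ?_⟩
  · rw [autFun_apply γ xE, hm_x]
    show ((w' a (w' (-1) (m 1 0)) : cS S x) : Ω) = _
    rw [hw _ (neg_ne_zero.2 one_ne_zero), hw _ ha]
    show ze x _ * ze z _ = ze x a⁻¹
    simp [h.ze_zero]
  · rw [autFun_apply γ zE, hm_z]
    show ((w' a (w' (-1) (m 0 1)) : cS S x) : Ω) = _
    rw [hw _ (neg_ne_zero.2 one_ne_zero), hw _ ha]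
    show ze x _ * ze z _ = ze z a
    simp [ze_zero_of]

theorem deep : Deep S Q p := by
  have hxS := d.ess.xS h
  have hN := d.six_le
  refine h.deep_of_ker hxS ?_
  have hle : h.kerSub x hxS ≤ lev S Q (N - 3) := by
    intro q hq
    obtain ⟨hqQ, hqc⟩ := (h.mem_kerSub hxS).1 hq
    have key : ∀ j, j ≤ N - 3 → q ∈ lev S Q j := by
      intro j hj
      induction j with
      | zero => rw [lev, if_pos rfl]; exact hqQ
      | succ j ih => exact d.lev_desc (by omega) (ih (by omega)) (d.cen_le_lev (by omega) hqc)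
    exact key _ le_rfl
  haveI := d.finite_lev (N - 3)
  refine lt_of_le_of_lt (Nat.mul_le_mul le_rfl (Subgroup.card_le_of_le hle)) ?_
  rw [d.lev_card (by omega), d.card_Q', show N - 1 - (N - 3) = 2 by omega, ← pow_succ']
  exact Nat.pow_lt_pow_right hp.out.one_lt (by omega)

/-- The torus on the whole group. -/
theorem exists_torus {a : ZMod p} (ha : a ≠ 0) : ∃ ψ ∈ F.autGroup S,
    autFun ψ x = ze x a⁻¹ ∧ autFun ψ z = ze z a ∧ ∀ q ∈ Q, autFun ψ q ∈ Q := by
  have key : ∀ j, j ≤ N - 2 → ∃ γ ∈ F.autGroup (lp S Q x (N - 2 - j)),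
      autFun γ x = ze x a⁻¹ ∧ autFun γ z = ze z a := by
    intro j hj
    induction j with
    | zero =>
      rw [Nat.sub_zero, d.lp_top]
      exact d.base_torus ha
    | succ j ih =>
      obtain ⟨γ, hγ, h1, h2⟩ := ih (by omega)
      obtain ⟨i, hi⟩ : ∃ i, N - 2 - (j + 1) = i := ⟨_, rfl⟩
      rw [hi]
      have : N - 2 - j = i + 1 := by omega
      revert γ
      rw [this]
      intro γ hγ h1 h2
      exact d.climb_step (by omega) (mul_inv_cancel₀ ha) hγ h1 h2
  obtain ⟨γ, hγ, h1, h2⟩ := key (N - 2) le_rfl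
  revert γ
  rw [Nat.sub_self, d.lp_zero]
  intro ψ hψ h1 h2
  exact ⟨ψ, hψ, h1, h2, fun q hq => h.aut_Q d.deep hψ hq⟩

end Pl

end Cfsg.Lib.Fusion.ExIdxP
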