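import Cfsg.Agent.Fusion.ExIdxP.Transvection
import Cfsg.Agent.Fusion.ExIdxP.Algebra

/-!
The case of a maximal abelian intersection: coordinates on the essential subgroup.
-/

set_option autoImplicit false
set_option linter.style.haveILetI false
set_option linter.unusedSectionVars false

namespace Cfsg.Lib.Fusion.ExIdxP

open Cfsg Cfsg.FusionSystem Cfsg.Lib.Fusion Cfsg.Lib.Fusion.ExtraspecialIndex
open scoped commutatorElement

universe u

variable {Ω : Type u} [Group Ω] {S : Subgroup Ω} {F : FusionSystem S} {p : ℕ}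

/-- The symmetric form induced by `x`. -/
noncomputable def bb (p : ℕ) (z x q q' : Ω) : ZMod p := cc p z q ⁅q', x⁆

/-- The normalised displacement of `x` by `q`. -/
noncomputable def hh (p : ℕ) [Fact p.Prime] (z x q : Ω) : Ω := ⁅q, x⁆ * ze z (-(bb p z x q q / 2))

/-- A point of the essential subgroup in coordinates. -/
noncomputable def pt (p : ℕ) [Fact p.Prime] (z x : Ω) (t : ZMod p) (q : Ω) (c : ZMod p) : Ω :=
  ze x t * hh p z x q * ze z c

/-- The essential subgroup meets `Q` in the image and kernel of `x`. -/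
structure Quad (F : FusionSystem S) (p : ℕ) [Finite S] [Fact p.Prime] (Q : Subgroup Ω) (z x : Ω)
    (h : Setup F p Q z) : Prop where
  ess : Ess F p Q z x
  ker : h.kerSub x (ess.xS h) = Aq S Q x
  im : h.imSub x (ess.xS h) = Aq S Q x
  norm : ∀ q ∈ Q, q ∈ Subgroup.normalizer (cS S x : Set Ω)

namespace Quad

variable [Finite S] [hp : Fact p.Prime] {Q : Subgroup Ω} {z x : Ω} {h : Setup F p Q z}
  (d : Quad F p Q z x h)
include d

theorem xS : x ∈ S := d.ess.xS h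

theorem xp : x ^ p = 1 := d.ess.xp h

theorem xE : x ∈ cS S x := d.ess.xE h

theorem zE : z ∈ cS S x := d.ess.zE h

theorem comm {a b : Ω} (ha : a ∈ cS S x) (hb : b ∈ cS S x) : Commute a b := d.ess.comm h ha hb

theorem A_of_ker {q : Ω} (hq : q ∈ Q) (hc : ⁅q, x⁆ ∈ cen Q) : q ∈ Aq S Q x := by
  rw [← d.ker]
  exact (h.mem_kerSub _).2 ⟨hq, by rw [← commutatorElement_inv q x]; exact (cen Q).inv_mem hc⟩

theorem qx_mem {q : Ω} (hq : q ∈ Q) : ⁅q, x⁆ ∈ Aq S Q x := by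
  rw [← commutatorElement_inv x q, ← d.im]
  exact Subgroup.inv_mem _ (h.comm_mem_imSub d.xS hq)

theorem A_cc {a b : Ω} (ha : a ∈ Aq S Q x) (hb : b ∈ Aq S Q x) : cc p z a b = 0 :=
  (h.cc_eq_zero ha.1 hb.1).2 (d.comm ha.2 hb.2).eq

theorem A_x {a : Ω} (ha : a ∈ Aq S Q x) : ⁅a, x⁆ = 1 :=
  commutatorElement_eq_one_iff_commute.2 (d.comm ha.2 d.xE)

theorem A_pow {a : Ω} (ha : a ∈ Aq S Q x) : a ^ p = 1 := by
  rw [← d.im] at ha
  obtain ⟨q, hq, c, hc, rfl⟩ := ha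
  rw [h.mul_pow_p (h.comm_S_Q d.xS hq) hc.1, h.comm_pow_p d.xS hq, h.z_pow hc, one_mul]

theorem E_pow {e : Ω} (he : e ∈ cS S x) : e ^ p = 1 := by
  have ha := d.ess.mem_Aq_of_ex h he
  have hc : Commute (e * (ze x (ex p Q x e))⁻¹) (ze x (ex p Q x e)) :=
    d.comm ha.2 (ze_in d.xE _)
  rw [show e = e * (ze x (ex p Q x e))⁻¹ * ze x (ex p Q x e) by rw [inv_mul_cancel_right],
    hc.mul_pow, d.A_pow ha, ze_pow_p d.xp, one_mul]

theorem cen_A {c : Ω} (hc : c ∈ cen Q) : c ∈ Aq S Q x := d.ess.cen_le_Aq h hc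

theorem bb_symm {q q' : Ω} (hq : q ∈ Q) (hq' : q' ∈ Q) : bb p z x q q' = bb p z x q' q := by
  have e := h.invariance d.xS hq hq'
  have h1 : ⁅x, q⁆ ∈ Aq S Q x := by rw [← d.im]; exact h.comm_mem_imSub d.xS hq
  have h2 : ⁅x, q'⁆ ∈ Aq S Q x := by rw [← d.im]; exact h.comm_mem_imSub d.xS hq'
  rw [d.A_cc h1 h2, add_zero, ← commutatorElement_inv q x, ← commutatorElement_inv q' x,
    h.cc_inv_left (d.qx_mem hq).1 hq', h.cc_inv_right hq (d.qx_mem hq').1,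
    h.cc_swap hq' (d.qx_mem hq).1] at e
  unfold bb
  linear_combination -e

theorem bb_mul_left {q q' k : Ω} (hq : q ∈ Q) (hq' : q' ∈ Q) (hk : k ∈ Q) :
    bb p z x (q * q') k = bb p z x q k + bb p z x q' k :=
  h.cc_mul_left hq hq' (d.qx_mem hk).1

theorem bb_mul_right {q q' k : Ω} (hq : q ∈ Q) (hq' : q' ∈ Q) (hk : k ∈ Q) :
    bb p z x k (q * q') = bb p z x k q + bb p z x k q' := by
  rw [d.bb_symm hk (Q.mul_mem hq hq'), d.bb_mul_left hq hq' hk, d.bb_symm hq hk, d.bb_symm hq' hk]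

theorem bb_ze_left {q k : Ω} (hq : q ∈ Q) (hk : k ∈ Q) (i : ZMod p) :
    bb p z x (ze q i) k = i * bb p z x q k :=
  h.cc_ze_pow_left hq (d.qx_mem hk).1 i

theorem bb_ze_right {q k : Ω} (hq : q ∈ Q) (hk : k ∈ Q) (i : ZMod p) :
    bb p z x k (ze q i) = i * bb p z x k q := by
  rw [d.bb_symm hk (show ze q i ∈ Q from Q.pow_mem hq _), d.bb_ze_left hq hk, d.bb_symm hq hk]

theorem bb_A_left {a k : Ω} (ha : a ∈ Aq S Q x) (hk : k ∈ Q) : bb p z x a k = 0 :=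
  d.A_cc ha (d.qx_mem hk)

theorem bb_A_right {a k : Ω} (ha : a ∈ Aq S Q x) (hk : k ∈ Q) : bb p z x k a = 0 := by
  rw [d.bb_symm hk ha.1, d.bb_A_left ha hk]

theorem hh_mem {q : Ω} (hq : q ∈ Q) : hh p z x q ∈ Aq S Q x :=
  (Aq S Q x).mul_mem (d.qx_mem hq) (d.cen_A (h.ze_mem _))

theorem hh_mul {q q' : Ω} (hq : q ∈ Q) (hq' : q' ∈ Q) :
    hh p z x (q * q') = hh p z x q * hh p z x q' := by
  have e : q * ⁅q', x⁆ * q⁻¹ = ze z (bb p z x q q') * ⁅q', x⁆ := by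
    rw [show bb p z x q q' = cc p z q ⁅q', x⁆ from rfl, h.cc_spec hq (d.qx_mem hq').1,
      commutatorElement_def q ⁅q', x⁆]
    group
  have c1 := (h.ze_comm (-(bb p z x q q / 2)) (h.le (d.qx_mem hq').1))
  unfold hh
  rw [comm_mul_left, e]
  calc ze z (bb p z x q q') * ⁅q', x⁆ * ⁅q, x⁆ * ze z (-(bb p z x (q * q') (q * q') / 2))
      = ze z (bb p z x q q') * (⁅q', x⁆ * ⁅q, x⁆) * ze z (-(bb p z x (q * q') (q * q') / 2)) := by
        rw [mul_assoc (ze z (bb p z x q q'))]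
    _ = ⁅q, x⁆ * ⁅q', x⁆ * (ze z (bb p z x q q') * ze z (-(bb p z x (q * q') (q * q') / 2))) := by
        rw [(d.comm (d.qx_mem hq').2 (d.qx_mem hq).2).eq,
          ((h.ze_comm (bb p z x q q') (h.le ((Aq S Q x).mul_mem (d.qx_mem hq) (d.qx_mem hq')).1))).symm.eq,
          mul_assoc (⁅q, x⁆ * ⁅q', x⁆)]
    _ = ⁅q, x⁆ * ⁅q', x⁆ * (ze z (-(bb p z x q q / 2)) * ze z (-(bb p z x q' q' / 2))) := by
        rw [h.ze_add, h.ze_add, d.bb_mul_left hq hq' (Q.mul_mem hq hq'), d.bb_mul_right hq hq' hq,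
          d.bb_mul_right hq hq' hq', d.bb_symm hq' hq]
        congr 2
        have h2 : (2 : ZMod p) ≠ 0 := h.two_ne_zero'
        field_simp
        ring
    _ = _ := by
        rw [mul_assoc ⁅q, x⁆, ← mul_assoc ⁅q', x⁆, c1.eq]
        simp only [mul_assoc]

theorem hh_A {a : Ω} (ha : a ∈ Aq S Q x) : hh p z x a = 1 := by
  rw [hh, d.A_x ha, d.bb_A_left ha ha.1, zero_div, neg_zero, h.ze_zero, one_mul]

theorem hh_pow {q : Ω} (hq : q ∈ Q) (n : ℕ) : hh p z x (q ^ n) = hh p z x q ^ n := by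
  induction n with
  | zero => rw [pow_zero, pow_zero]; exact d.hh_A ⟨Q.one_mem, (cS S x).one_mem⟩
  | succ n ih => rw [pow_succ, pow_succ, d.hh_mul (Q.pow_mem hq n) hq, ih]

theorem hh_ze {q : Ω} (hq : q ∈ Q) (i : ZMod p) : hh p z x (ze q i) = ze (hh p z x q) i :=
  d.hh_pow hq _

theorem hh_congr {q q' : Ω} (hq' : q' ∈ Q) (he : q * q'⁻¹ ∈ Aq S Q x) :
    hh p z x q = hh p z x q' := by
  rw [show q = q * q'⁻¹ * q' by rw [inv_mul_cancel_right], d.hh_mul he.1 hq', d.hh_A he, one_mul]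

theorem cc_hh {q q' : Ω} (hq : q ∈ Q) (hq' : q' ∈ Q) : cc p z q (hh p z x q') = bb p z x q q' := by
  rw [hh, h.cc_mul_right hq (d.qx_mem hq').1 (h.ze_Q _), h.cc_ze_right hq, add_zero]
  rfl

theorem pt_mem (t : ZMod p) {q : Ω} (hq : q ∈ Q) (c : ZMod p) : pt p z x t q c ∈ cS S x :=
  (cS S x).mul_mem ((cS S x).mul_mem (ze_in d.xE t) (d.hh_mem hq).2) (ze_in d.zE c)

theorem pt_mem_A {q : Ω} (hq : q ∈ Q) (c : ZMod p) : pt p z x 0 q c ∈ Aq S Q x := by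
  rw [pt, ze_zero_of, one_mul]
  exact (Aq S Q x).mul_mem (d.hh_mem hq) (d.cen_A (h.ze_mem c))

theorem pt_mul (t t' : ZMod p) {q q' : Ω} (hq : q ∈ Q) (hq' : q' ∈ Q) (c c' : ZMod p) :
    pt p z x t q c * pt p z x t' q' c' = pt p z x (t + t') (q * q') (c + c') := by
  have hx := fun i => ze_in (p := p) d.xE i
  have hz := fun i => ze_in (p := p) d.zE i
  have h1 : Commute (ze z c) (ze x t' * hh p z x q') :=
    d.comm (hz c) ((cS S x).mul_mem (hx t') (d.hh_mem hq').2)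
  have h2 : Commute (hh p z x q) (ze x t') := d.comm (d.hh_mem hq).2 (hx t')
  unfold pt
  rw [← ze_add_of d.xp, ← h.ze_add, d.hh_mul hq hq']
  calc ze x t * hh p z x q * ze z c * (ze x t' * hh p z x q' * ze z c')
      = ze x t * hh p z x q * (ze z c * (ze x t' * hh p z x q')) * ze z c' := by simp only [mul_assoc]
    _ = ze x t * (hh p z x q * ze x t') * hh p z x q' * ze z c * ze z c' := by
      rw [h1.eq]; simp only [mul_assoc]
    _ = _ := by rw [h2.eq]; simp only [mul_assoc]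

theorem pt_zero : pt p z x 0 1 0 = 1 := by
  rw [pt, ze_zero_of, h.ze_zero, d.hh_A (Subgroup.one_mem _), one_mul, one_mul]

theorem pt_pow (t : ZMod p) {q : Ω} (hq : q ∈ Q) (c : ZMod p) (n : ℕ) :
    pt p z x t q c ^ n = pt p z x ((n : ZMod p) * t) (q ^ n) ((n : ZMod p) * c) := by
  induction n with
  | zero => rw [pow_zero, Nat.cast_zero, zero_mul, zero_mul, pow_zero, d.pt_zero]
  | succ n ih =>
    rw [pow_succ, ih, d.pt_mul _ _ (Q.pow_mem hq n) hq, Nat.cast_succ, add_mul, add_mul, one_mul,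
      one_mul, ← pow_succ]

theorem pt_ze (t : ZMod p) {q : Ω} (hq : q ∈ Q) (c i : ZMod p) :
    ze (pt p z x t q c) i = pt p z x (i * t) (ze q i) (i * c) := by
  haveI := h.neZero
  rw [ze, d.pt_pow t hq, ZMod.natCast_zmod_val]
  rfl

theorem pt_congr {t : ZMod p} {q q' : Ω} (hq' : q' ∈ Q) (he : q * q'⁻¹ ∈ Aq S Q x) (c : ZMod p) :
    pt p z x t q c = pt p z x t q' c := by rw [pt, pt, d.hh_congr hq' he]

theorem ex_pt (t : ZMod p) {q : Ω} (hq : q ∈ Q) (c : ZMod p) : ex p Q x (pt p z x t q c) = t := by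
  rw [pt, d.ess.ex_mul h ((cS S x).mul_mem (ze_in d.xE t) (d.hh_mem hq).2) (ze_in d.zE c),
    d.ess.ex_mul h (ze_in d.xE t) (d.hh_mem hq).2, d.ess.ex_ze h d.xE, d.ess.ex_x h, d.ess.ex_Q h (d.hh_mem hq).1,
    d.ess.ex_Q h (h.ze_Q c), mul_one, add_zero, add_zero]

theorem pt_inj {t t' : ZMod p} {q q' : Ω} (hq : q ∈ Q) (hq' : q' ∈ Q) {c c' : ZMod p}
    (e : pt p z x t q c = pt p z x t' q' c') : t = t' ∧ q * q'⁻¹ ∈ Aq S Q x ∧ c = c' := by
  have ht : t = t' := by rw [← d.ex_pt t hq c, e, d.ex_pt t' hq' c']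
  subst ht
  have hr : q * q'⁻¹ ∈ Q := Q.mul_mem hq (Q.inv_mem hq')
  have e1 : pt p z x t q c = pt p z x t q' c * pt p z x 0 (q * q'⁻¹) 0 := by
    rw [d.pt_mul _ _ hq' hr, add_zero, add_zero]
    refine d.pt_congr (Q.mul_mem hq' hr) ?_ c
    rw [show q * (q' * (q * q'⁻¹))⁻¹ = ⁅q * q'⁻¹, q'⁆⁻¹⁻¹ by simp only [commutatorElement_def]; group, inv_inv]
    exact d.cen_A (h.comm_mem hr hq')
  have e2 : pt p z x t q' c' = pt p z x t q' c * pt p z x 0 1 (c' - c) := by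
    rw [d.pt_mul _ _ hq' Q.one_mem, add_zero, mul_one, add_sub_cancel]
  rw [e1, e2, mul_right_inj] at e
  have hh1 : hh p z x (q * q'⁻¹) = ze z (c' - c) := by
    simpa [pt, ze_zero_of, h.ze_zero, d.hh_A (Subgroup.one_mem _)] using e
  have hA : q * q'⁻¹ ∈ Aq S Q x := by
    refine d.A_of_ker hr ?_
    have := (cen Q).mul_mem (hh1 ▸ h.ze_mem (c' - c))
      ((cen Q).inv_mem (h.ze_mem (-(bb p z x (q * q'⁻¹) (q * q'⁻¹) / 2))))
    rwa [hh, mul_inv_cancel_right] at this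
  rw [d.hh_A hA] at hh1
  exact ⟨rfl, hA, (sub_eq_zero.1 (h.ze_eq_one.1 hh1.symm)).symm⟩

theorem exists_pt {e : Ω} (he : e ∈ cS S x) : ∃ q ∈ Q, ∃ c : ZMod p, e = pt p z x (ex p Q x e) q c := by
  have ha := d.ess.mem_Aq_of_ex h he
  obtain ⟨a, hadef⟩ : ∃ a, e * (ze x (ex p Q x e))⁻¹ = a := ⟨_, rfl⟩
  rw [hadef] at ha
  have hea : e = ze x (ex p Q x e) * a := by
    rw [← (d.comm ha.2 (ze_in d.xE _)).eq, ← hadef, inv_mul_cancel_right]
  rw [← d.im] at ha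
  obtain ⟨q, hq, w, hw, rfl⟩ := ha
  have hqi := Q.inv_mem hq
  have e1 : ⁅x, q⁆ = hh p z x q⁻¹ * ze z (bb p z x q q⁻¹ + bb p z x q⁻¹ q⁻¹ / 2) := by
    have h1 : ⁅x, q⁆ = q * ⁅q⁻¹, x⁆ * q⁻¹ := by simp only [commutatorElement_def]; group
    have e2 : q * ⁅q⁻¹, x⁆ * q⁻¹ = ze z (bb p z x q q⁻¹) * ⁅q⁻¹, x⁆ := by
      rw [show bb p z x q q⁻¹ = cc p z q ⁅q⁻¹, x⁆ from rfl, h.cc_spec hq (d.qx_mem hqi).1,
        commutatorElement_def q ⁅q⁻¹, x⁆]
      group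
    rw [h1, e2, hh, mul_assoc, h.ze_add, neg_add_cancel_comm_assoc, (h.ze_comm _ (h.le (d.qx_mem hqi).1)).eq]
  obtain ⟨i, rfl⟩ := h.exists_ze hw
  refine ⟨q⁻¹, hqi, bb p z x q q⁻¹ + bb p z x q⁻¹ q⁻¹ / 2 + i, ?_⟩
  conv_lhs => rw [hea, e1]
  rw [pt, mul_assoc (hh p z x q⁻¹), h.ze_add, mul_assoc]

theorem conj_pt {q k : Ω} (hq : q ∈ Q) (hk : k ∈ Q) (t c : ZMod p) :
    q * pt p z x t k c * q⁻¹ = pt p z x t (ze q t * k) (c + bb p z x q k + t * (bb p z x q q / 2)) := by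
  have hx : q * x * q⁻¹ = pt p z x 1 q (bb p z x q q / 2) := by
    have e1 : q * x * q⁻¹ = ⁅q, x⁆ * x := by rw [commutatorElement_def]; group
    rw [e1, pt, ze_one_of, hh, mul_assoc, mul_assoc, h.ze_add, neg_add_cancel, h.ze_zero, mul_one,
      (d.comm (d.qx_mem hq).2 d.xE).eq]
  have hk' : q * hh p z x k * q⁻¹ = pt p z x 0 k (bb p z x q k) := by
    have e : ze z (bb p z x q k) = ⁅q, hh p z x k⁆ := by
      rw [← d.cc_hh hq hk, h.cc_spec hq (d.hh_mem hk).1]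
    rw [pt, ze_zero_of, one_mul, ((h.ze_comm _ (h.le (d.hh_mem hk).1))).eq, e, commutatorElement_def]
    group
  have hz : q * ze z c * q⁻¹ = pt p z x 0 1 c := by
    rw [pt, ze_zero_of, d.hh_A (Subgroup.one_mem _), one_mul, one_mul,
      h.conj_cen (h.le hq) (h.ze_mem c)]
  haveI := h.neZero
  calc q * pt p z x t k c * q⁻¹ = (q * x * q⁻¹) ^ t.val * (q * hh p z x k * q⁻¹) * (q * ze z c * q⁻¹) := by
        rw [conj_pow, pt]; unfold ze; group
    _ = _ := by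
        rw [hx, hk', hz, d.pt_pow 1 hq, ZMod.natCast_zmod_val, mul_one,
          d.pt_mul _ _ (Q.pow_mem hq _) hk, d.pt_mul _ _ (Q.mul_mem (Q.pow_mem hq _) hk) Q.one_mem,
          add_zero, add_zero, mul_one, add_right_comm, add_comm _ c, add_assoc]
        congr 1
        ring

end Quad

end Cfsg.Lib.Fusion.ExIdxP
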