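import Cfsg.Agent.Fusion.ExIdxP.Quadric

/-!
The orbit of the centre is a quadric of elliptic type.
-/

set_option autoImplicit false
set_option linter.style.haveILetI false
set_option linter.unusedSectionVars false

namespace Cfsg.Lib.Fusion.ExIdxP

open Cfsg Cfsg.FusionSystem Cfsg.Lib.Fusion Cfsg.Lib.Fusion.ExtraspecialIndex
open scoped commutatorElement

universe u

variable {Ω : Type u} [Group Ω] {S : Subgroup Ω} {F : FusionSystem S} {p : ℕ}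

theorem exists_two_squares [hp : Fact p.Prime] (h2 : p ≠ 2) {u v : ZMod p} (hu : u ≠ 0) (hv : v ≠ 0)
    (m : ZMod p) : ∃ a b : ZMod p, a ^ 2 * u + b ^ 2 * v = m := by
  haveI : NeZero p := ⟨hp.out.ne_zero⟩
  obtain ⟨a, b, hab⟩ := FiniteField.exists_root_sum_quadratic
    (f := Polynomial.C u * Polynomial.X ^ 2) (g := Polynomial.C v * Polynomial.X ^ 2 - Polynomial.C m)
    (Polynomial.degree_C_mul_X_pow 2 hu)
    (by rw [Polynomial.degree_sub_C (by rw [Polynomial.degree_C_mul_X_pow 2 hv]; norm_num),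
      Polynomial.degree_C_mul_X_pow 2 hv]; rfl)
    (by rw [ZMod.card]; exact hp.out.eq_two_or_odd.resolve_left h2)
  refine ⟨a, b, ?_⟩
  simp only [Polynomial.eval_mul, Polynomial.eval_C, Polynomial.eval_pow, Polynomial.eval_X,
    Polynomial.eval_sub] at hab
  linear_combination hab

/-- The lines of the orbit. -/
def Ln (F : FusionSystem S) (p : ℕ) (z x w : Ω) : Prop :=
  ∃ i : ZMod p, i ≠ 0 ∧ Orb F (cS S x) z (ze w i)

namespace Quad

variable [Finite S] [hp : Fact p.Prime] {Q : Subgroup Ω} {z x : Ω} {h : Setup F p Q z}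
  (d : Quad F p Q z x h)
include d

theorem A_of_ze {k : Ω} (hk : k ∈ Q) {s : ZMod p} (hs : s ≠ 0) (hA : ze k s ∈ Aq S Q x) :
    k ∈ Aq S Q x := by
  have h1 : ze (hh p z x k) s = 1 := by rw [← d.hh_ze hk, d.hh_A hA]
  have h2 : hh p z x k = 1 := Subgroup.mem_bot.1
    (mem_of_ze_mem (X := (⊥ : Subgroup Ω)) (d.A_pow (d.hh_mem hk)) hs (by rw [h1]; exact one_mem _))
  refine d.A_of_ker hk ?_
  rw [hh, mul_eq_one_iff_eq_inv] at h2
  rw [h2]
  exact (cen Q).inv_mem (h.ze_mem _)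

theorem ze_ze {k : Ω} (hk : k ∈ Q) (a b : ZMod p) :
    ze (ze k a) b * (ze k (b * a))⁻¹ ∈ Aq S Q x := by
  haveI := h.neZero
  obtain ⟨n, hn⟩ : ∃ n, n = a.val * b.val := ⟨_, rfl⟩
  have e1 : ze (ze k a) b = k ^ n := by rw [hn, pow_mul]; rfl
  have e2 : (b * a).val = n % p := by rw [hn, ZMod.val_mul, mul_comm]
  rw [e1]
  show k ^ n * (k ^ (b * a).val)⁻¹ ∈ Aq S Q x
  rw [e2, show k ^ n = (k ^ p) ^ (n / p) * k ^ (n % p) by rw [← pow_mul, ← pow_add, Nat.div_add_mod],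
    mul_inv_cancel_right]
  exact Subgroup.pow_mem _ (d.cen_A (h.pow_mem_cen hk)) _

theorem ln_orb {w : Ω} (hw : Orb F (cS S x) z w) : Ln F p z x w :=
  ⟨1, one_ne_zero, by rwa [ze_one_of]⟩

theorem ln_ze {w : Ω} (hwE : w ∈ cS S x) (hw : Ln F p z x w) {i : ZMod p} (hi : i ≠ 0) :
    Ln F p z x (ze w i) := by
  haveI := h.neZero
  obtain ⟨j, hj, hjo⟩ := hw
  refine ⟨j * i⁻¹, mul_ne_zero hj (inv_ne_zero hi), ?_⟩
  show Orb F (cS S x) z (ze w i ^ (j * i⁻¹).val)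
  rw [ze_pow_of (d.E_pow hwE), ZMod.natCast_zmod_val, mul_assoc, inv_mul_cancel₀ hi, mul_one]
  exact hjo

theorem ln_map {α : MulAut (cS S x)} (hα : α ∈ F.autGroup (cS S x)) {w : Ω} (hwE : w ∈ cS S x)
    (hw : Ln F p z x w) : Ln F p z x (autFun α w) := by
  obtain ⟨j, hj, hjo⟩ := hw
  refine ⟨j, hj, ?_⟩
  rw [← map_ze ((isMap_autFun (cS_le x)).2 hα) hwE]
  exact d.ess.orb_map h hjo hα

theorem ln_cen {w : Ω} (hw : Ln F p z x w) (hwA : w ∈ Aq S Q x) : w ∈ cen Q := by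
  obtain ⟨j, hj, hjo⟩ := hw
  exact mem_of_ze_mem (d.A_pow hwA) hj (d.ess.orb_Q h hjo (ze_in hwA.1 j))

theorem conj_mem {q : Ω} (hq : q ∈ Q) {e : Ω} (he : e ∈ cS S x) : q * e * q⁻¹ ∈ cS S x :=
  conj_mem_of_mem_normalizer (d.norm q hq) he

theorem conj_aut {q : Ω} (hq : q ∈ Q) :
    conjAut (cS S x) q (d.norm q hq) ∈ F.autGroup (cS S x) :=
  autInducedBy_le (cS_le x) (conjAut_mem_autInducedBy _ (h.le hq))

theorem ln_conj {q : Ω} (hq : q ∈ Q) {w : Ω} (hwE : w ∈ cS S x) (hw : Ln F p z x w) :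
    Ln F p z x (q * w * q⁻¹) := by
  have := d.ln_map (d.conj_aut hq) hwE hw
  rwa [autFun_apply_mem _ hwE, conjAut_apply] at this

theorem ze_x_pt (i : ZMod p) : ze x i = pt p z x i 1 0 := by
  rw [pt, d.hh_A (Subgroup.one_mem _), h.ze_zero, mul_one, mul_one]

theorem ze_z_pt (i : ZMod p) : ze z i = pt p z x 0 1 i := by
  rw [pt, ze_zero_of, d.hh_A (Subgroup.one_mem _), one_mul, one_mul]

theorem pt_x' : pt p z x 1 1 0 = x := by rw [← d.ze_x_pt, ze_one_of]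

theorem x_mul_pt {q : Ω} (hq : q ∈ Q) (t c : ZMod p) :
    x * pt p z x t q c = pt p z x (1 + t) q c := by
  have e : x * pt p z x t q c = pt p z x 1 1 0 * pt p z x t q c := by rw [d.pt_x']
  rw [e, d.pt_mul _ _ Q.one_mem hq, one_mul, zero_add]

theorem pt_x : pt p z x 1 1 0 = x := by
  rw [pt, ze_one_of, d.hh_A (Subgroup.one_mem _), h.ze_zero, mul_one, mul_one]

theorem pt_z : pt p z x 0 1 1 = z := by
  rw [pt, ze_zero_of, d.hh_A (Subgroup.one_mem _), one_mul, one_mul, ze_one_of]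

/-- A point outside `A` lies on the orbit with the point of the same invariant above `x`. -/
theorem ln_shift {q : Ω} (hq : q ∈ Q) (c : ZMod p) :
    Ln F p z x (pt p z x 1 q c) ↔ Ln F p z x (pt p z x 1 1 (c - bb p z x q q / 2)) := by
  have hb1 : ∀ k ∈ Q, bb p z x k 1 = 0 := fun k hk => d.bb_A_right (Subgroup.one_mem _) hk
  constructor
  · intro hl
    have := d.ln_conj (Q.inv_mem hq) (d.pt_mem 1 hq c) hl
    rw [d.conj_pt (Q.inv_mem hq) hq, ze_one_of, inv_mul_cancel, one_mul] at this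
    convert this using 2
    have e1 : bb p z x q⁻¹ q = -bb p z x q q := by
      have := d.bb_mul_left (Q.inv_mem hq) hq hq
      rw [inv_mul_cancel, d.bb_A_left (Subgroup.one_mem _) hq] at this
      linear_combination -this
    have e2 : bb p z x q⁻¹ q⁻¹ = bb p z x q q := by
      have := d.bb_mul_right (Q.inv_mem hq) hq (Q.inv_mem hq)
      rw [inv_mul_cancel, hb1 _ (Q.inv_mem hq), e1] at this
      linear_combination -this
    rw [e1, e2]
    field_simp [h.two_ne_zero']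
    ring
  · intro hl
    have := d.ln_conj hq (d.pt_mem 1 Q.one_mem _) hl
    rw [d.conj_pt hq Q.one_mem, ze_one_of, mul_one, hb1 q hq, add_zero, one_mul, sub_add_cancel] at this
    exact this

theorem ln_point {q : Ω} (hq : q ∈ Q) : Ln F p z x (pt p z x 1 q (bb p z x q q / 2)) := by
  rw [d.ln_shift hq, sub_self, d.pt_x]
  exact d.ln_orb (d.ess.orb_x h)

/-- The hyperplane through `x`. -/
theorem key {γ : MulAut (cS S x)} (hγ : γ ∈ F.autGroup (cS S x)) (hγz : autFun γ z = x) {q : Ω}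
    (hq : q ∈ Q) (hqA : q ∉ Aq S Q x) :
    bb p z x q q ≠ 0 ∧ autFun γ⁻¹ (pt p z x 0 q 0) ∈ Aq S Q x := by
  have hγi : γ⁻¹ ∈ F.autGroup (cS S x) := Subgroup.inv_mem _ hγ
  have hm : IsMap F (cS S x) (autFun γ⁻¹) := (isMap_autFun (cS_le x)).2 hγi
  have hmγ : IsMap F (cS S x) (autFun γ) := (isMap_autFun (cS_le x)).2 hγ
  obtain ⟨ψ, hψ⟩ : ∃ ψ : Ω → ZMod p, ∀ w, ψ w = ex p Q x (autFun γ⁻¹ w) := ⟨_, fun _ => rfl⟩
  have hinv : ∀ {w : Ω}, w ∈ cS S x → autFun γ⁻¹ (autFun γ w) = w := fun {w} hw => by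
    rw [← autFun_mul _ _ hw, inv_mul_cancel, autFun_one hw]
  have hxz : autFun γ⁻¹ x = z := (congrArg (autFun γ⁻¹) hγz).symm.trans (hinv d.zE)
  have hψmul : ∀ {a b : Ω}, a ∈ cS S x → b ∈ cS S x → ψ (a * b) = ψ a + ψ b := fun {a b} ha hb => by
    rw [hψ, hψ, hψ, hm.map_mul ha hb, d.ess.ex_mul h (autFun_mem _ ha) (autFun_mem _ hb)]
  have hA_iff : ∀ {w : Ω}, w ∈ cS S x → ψ w = 0 → autFun γ⁻¹ w ∈ Aq S Q x := fun {w} hw e => by
    have := d.ess.mem_Aq_of_ex h (autFun_mem γ⁻¹ hw)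
    rwa [← hψ, e, ze_zero_of, inv_one, mul_one] at this
  have hfix : ∀ {w : Ω}, w ∈ cS S x → Ln F p z x w → ψ w = 0 → ∃ i : ZMod p, w = ze x i :=
    fun {w} hw hl e => by
      obtain ⟨i, hi⟩ := h.exists_ze (d.ln_cen (d.ln_map hγi hw hl) (hA_iff hw e))
      refine ⟨i, ?_⟩
      rw [← hγz, ← map_ze hmγ d.zE, hi, ← autFun_mul _ _ hw, mul_inv_cancel, autFun_one hw]
  have hψz : ψ z ≠ 0 := by
    intro e
    obtain ⟨i, hi⟩ := hfix d.zE (d.ln_orb (d.ess.orb_self h)) e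
    have h0 := d.ess.ex_Q h h.zQ
    rw [hi, d.ess.ex_ze h d.xE, d.ess.ex_x h, mul_one] at h0
    exact h.z1 (by rw [hi, h0, ze_zero_of])
  have hψx : ψ x = 0 := by rw [hψ, hxz, d.ess.ex_Q h h.zQ]
  have hψc : ∀ {k : Ω}, k ∈ Q → ∀ c : ZMod p, ψ (pt p z x 0 k c) = ψ (pt p z x 0 k 0) + c * ψ z := by
    intro k hk c
    have e : pt p z x 0 k c = pt p z x 0 k 0 * ze z c := by
      rw [pt, pt, h.ze_zero, mul_one]
    rw [e, hψmul (d.pt_mem _ hk _) (ze_in d.zE c)]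
    congr 1
    rw [hψ, map_ze hm d.zE, d.ess.ex_ze h (autFun_mem _ d.zE), hψ]
  -- on the hyperplane no other point of the orbit
  have hin : ∀ {k : Ω}, k ∈ Q → k ∉ Aq S Q x → ∀ c, ψ (pt p z x 0 k c) = 0 → ∀ s : ZMod p, s ≠ 0 →
      ¬ Ln F p z x (pt p z x 1 1 (s * c - s * (s * bb p z x k k) / 2)) := by
    intro k hk hkA c hc s hs hl
    have hks : ze k s ∈ Q := Q.pow_mem hk _
    have hl' : Ln F p z x (pt p z x 1 (ze k s) (s * c)) := by
      rw [d.ln_shift hks]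
      rwa [d.bb_ze_left hk hks, d.bb_ze_right hk hk]
    have hw : pt p z x 1 (ze k s) (s * c) = x * ze (pt p z x 0 k c) s := by
      rw [d.pt_ze 0 hk, mul_zero, d.x_mul_pt hks, add_zero]
    have he : ψ (pt p z x 1 (ze k s) (s * c)) = 0 := by
      rw [hw, hψmul d.xE (ze_in (d.pt_mem _ hk _) s), hψx, zero_add, hψ, map_ze hm (d.pt_mem _ hk _),
        d.ess.ex_ze h (autFun_mem _ (d.pt_mem _ hk _)), ← hψ, hc, mul_zero]
    obtain ⟨i, hi⟩ := hfix (d.pt_mem _ hks _) hl' he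
    have hi' : ze x i = pt p z x i 1 0 := d.ze_x_pt i
    rw [hi'] at hi
    obtain ⟨-, hA, -⟩ := d.pt_inj hks Q.one_mem hi
    rw [inv_one, mul_one] at hA
    exact hkA (d.A_of_ze hk hs hA)
  -- off the hyperplane there is one
  have hout : ∀ {k : Ω}, k ∈ Q → k ∉ Aq S Q x → ∀ c, ψ (pt p z x 0 k c) ≠ 0 → ∃ s : ZMod p, s ≠ 0 ∧
      Ln F p z x (pt p z x 1 1 (s * c - s * (s * bb p z x k k) / 2)) := by
    intro k hk hkA c hc
    set w := pt p z x 0 k c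
    have hwE : w ∈ cS S x := d.pt_mem _ hk _
    obtain ⟨t, ht, ht0⟩ : ∃ t : ZMod p, ψ w = t ∧ t ≠ 0 := ⟨_, rfl, hc⟩
    obtain ⟨k₁, hk₁, c₁, he⟩ := d.exists_pt (autFun_mem γ⁻¹ hwE)
    rw [← hψ, ht] at he
    have hk₂ : ze k₁ t⁻¹ ∈ Q := Q.pow_mem hk₁ _
    set dd := bb p z x (ze k₁ t⁻¹) (ze k₁ t⁻¹) / 2 - t⁻¹ * c₁
    have hl := d.ln_point hk₂
    have heq : pt p z x 1 (ze k₁ t⁻¹) (bb p z x (ze k₁ t⁻¹) (ze k₁ t⁻¹) / 2) =
        ze (autFun γ⁻¹ w) t⁻¹ * ze z dd := by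
      rw [he, d.pt_ze _ hk₁, inv_mul_cancel₀ ht0]
      rw [d.ze_z_pt, d.pt_mul _ _ hk₂ Q.one_mem, add_zero, mul_one, add_sub_cancel]
    rw [heq] at hl
    have hl2 := d.ln_map hγ ((cS S x).mul_mem (ze_in (autFun_mem _ hwE) _) (ze_in d.zE _)) hl
    rw [hmγ.map_mul (ze_in (autFun_mem _ hwE) _) (ze_in d.zE _), map_ze hmγ (autFun_mem _ hwE),
      map_ze hmγ d.zE, hγz, ← autFun_mul _ _ hwE, mul_inv_cancel, autFun_one hwE] at hl2
    have hpt : ze w t⁻¹ * ze x dd = pt p z x dd (ze k t⁻¹) (t⁻¹ * c) := by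
      rw [d.pt_ze 0 hk, mul_zero]
      rw [d.ze_x_pt, d.pt_mul _ _ (show ze k t⁻¹ ∈ Q from Q.pow_mem hk _) Q.one_mem, zero_add, add_zero,
        mul_one]
    rw [hpt] at hl2
    have hkt : ze k t⁻¹ ∈ Q := Q.pow_mem hk _
    by_cases hd : dd = 0
    · exfalso
      rw [hd] at hl2
      obtain ⟨i, hi⟩ := h.exists_ze (d.ln_cen hl2 (d.pt_mem_A hkt _))
      have hi' : ze z i = pt p z x 0 1 i := by
        rw [pt, ze_zero_of, d.hh_A (Subgroup.one_mem _), one_mul, one_mul]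
      rw [hi'] at hi
      obtain ⟨-, hA, -⟩ := d.pt_inj Q.one_mem hkt hi
      rw [one_mul] at hA
      exact hkA (d.A_of_ze hk (inv_ne_zero ht0) (inv_mem_iff.1 hA))
    · refine ⟨dd⁻¹ * t⁻¹, mul_ne_zero (inv_ne_zero hd) (inv_ne_zero ht0), ?_⟩
      have hl3 := d.ln_ze (d.pt_mem _ hkt _) hl2 (inv_ne_zero hd)
      haveI := h.neZero
      have hks : ze k (dd⁻¹ * t⁻¹) ∈ Q := Q.pow_mem hk _
      rw [d.pt_ze _ hkt, inv_mul_cancel₀ hd, d.pt_congr hks (d.ze_ze hk _ _), d.ln_shift hks,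
        d.bb_ze_left hk hks, d.bb_ze_right hk hk] at hl3
      rwa [mul_assoc]
  obtain ⟨c, hc⟩ : ∃ c, ψ (pt p z x 0 q c) = 0 := ⟨-(ψ (pt p z x 0 q 0)) / ψ z, by
    rw [hψc hq, div_mul_cancel₀ _ hψz, add_neg_cancel]⟩
  have hqi : q⁻¹ ∈ Q := Q.inv_mem hq
  have hqiA : q⁻¹ ∉ Aq S Q x := fun e => hqA (inv_mem_iff.1 e)
  have hbi : bb p z x q⁻¹ q⁻¹ = bb p z x q q := by
    have e1 := d.bb_mul_left hqi hq hqi
    have e2 := d.bb_mul_right hqi hq hq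
    rw [inv_mul_cancel, d.bb_A_left (Subgroup.one_mem _) hqi] at e1
    rw [inv_mul_cancel, d.bb_A_right (Subgroup.one_mem _) hq] at e2
    linear_combination -e1 + e2
  have hci : ψ (pt p z x 0 q⁻¹ c) = 0 := by
    by_contra hne
    obtain ⟨s, hs, hl⟩ := hout hqi hqiA c hne
    rw [hbi] at hl
    exact hin hq hqA c hc s hs hl
  have hsum : c + c = 0 := by
    have e := hψmul (d.pt_mem 0 hq c) (d.pt_mem 0 hqi c)
    rw [d.pt_mul _ _ hq hqi, mul_inv_cancel, add_zero, hc, hci, add_zero, hψc Q.one_mem, d.pt_zero,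
      hψ 1, hm.map_one, d.ess.ex_Q h Q.one_mem, zero_add] at e
    exact (mul_eq_zero.1 e).resolve_right hψz
  have hc0 : c = 0 := (mul_eq_zero.1 (show (2 : ZMod p) * c = 0 by linear_combination hsum)).resolve_left
    h.two_ne_zero'
  rw [hc0] at hc
  refine ⟨fun hb => hin hq hqA 0 hc 1 one_ne_zero ?_, hA_iff (d.pt_mem _ hq _) hc⟩
  simp only [hb, mul_zero, zero_div, sub_zero]
  rw [d.pt_x]
  exact d.ln_orb (d.ess.orb_x h)

end Quad

end Cfsg.Lib.Fusion.ExIdxP
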