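import Cfsg.Agent.Fusion.ExIdxP.NormalForm
import Cfsg.Agent.Coprime.SolvableBasics

/-!
The two commutator tables: generators `x, v₁, v₂, k₁, k₂, z` for the Sylow subgroups of the four
dimensional linear and unitary groups, and `x, v₁, v₂, v₃, v₄, z` for those of `G₂`.
-/

set_option autoImplicit false

namespace Cfsg.Lib.Fusion.ExIdxP.NormalForm

open scoped commutatorElement

universe u v

variable {p : ℕ}

/-- Generators `x, v₁, v₂, k₁, k₂, z`. -/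
def TwoT (p : ℕ) (d₁ d₂ : ZMod p) (i j k : Fin 6) : ZMod p :=
  if (i, j, k) = (0, 1, 3) then 1 else if (i, j, k) = (0, 2, 4) then 1 else
    if (i, j, k) = (1, 3, 5) then d₁ else if (i, j, k) = (2, 4, 5) then d₂ else 0

/-- Generators `x, v₁, v₂, v₃, v₄, z`. -/
def G2T (p : ℕ) (i j k : Fin 6) : ZMod p :=
  if (i, j, k) = (0, 1, 2) then 1 else if (i, j, k) = (0, 2, 3) then 1 else
    if (i, j, k) = (0, 3, 4) then 1 else if (i, j, k) = (1, 4, 5) then 1 else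
      if (i, j, k) = (1, 3, 5) then 1 else if (i, j, k) = (2, 3, 5) then -1 else 0

theorem forward_TwoT (d₁ d₂ : ZMod p) : Forward (TwoT p d₁ d₂) := by
  intro i j k hk
  fin_cases i <;> fin_cases j <;> fin_cases k <;> simp [TwoT] at hk ⊢

theorem forward_G2T : Forward (G2T p) := by
  intro i j k hk
  fin_cases i <;> fin_cases j <;> fin_cases k <;> simp [G2T] at hk ⊢

/-- The relations of the first table, one by one. -/
structure TwoRel {G : Type*} [Group G] (x v₁ v₂ k₁ k₂ z : G) (d₁ d₂ : ZMod p) : Prop where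
  px : x ^ p = 1
  pv₁ : v₁ ^ p = 1
  pv₂ : v₂ ^ p = 1
  pk₁ : k₁ ^ p = 1
  pk₂ : k₂ ^ p = 1
  pz : z ^ p = 1
  xv₁ : ⁅x, v₁⁆ = k₁
  xv₂ : ⁅x, v₂⁆ = k₂
  xk₁ : Commute x k₁
  xk₂ : Commute x k₂
  vv : Commute v₁ v₂
  v₁k₁ : ⁅v₁, k₁⁆ = z ^ d₁.val
  v₁k₂ : Commute v₁ k₂
  v₂k₁ : Commute v₂ k₁
  v₂k₂ : ⁅v₂, k₂⁆ = z ^ d₂.val
  kk : Commute k₁ k₂
  zx : Commute z x
  zv₁ : Commute z v₁
  zv₂ : Commute z v₂
  zk₁ : Commute z k₁
  zk₂ : Commute z k₂

theorem TwoRel.rels [Fact (1 < p)] {G : Type u} [Group G] {x v₁ v₂ k₁ k₂ z : G} {d₁ d₂ : ZMod p}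
    (r : TwoRel x v₁ v₂ k₁ k₂ z d₁ d₂) : Rels (TwoT p d₁ d₂) ![x, v₁, v₂, k₁, k₂, z] := by
  have c : ∀ {a b : G}, Commute a b → ⁅a, b⁆ = 1 := fun hh => commutatorElement_eq_one_iff_commute.2 hh
  refine ⟨fun i => ?_, fun i j hij => ?_⟩
  · fin_cases i
    exacts [r.px, r.pv₁, r.pv₂, r.pk₁, r.pk₂, r.pz]
  · fin_cases i <;> fin_cases j <;> simp at hij <;>
      simp [word, TwoT, ZMod.val_one, r.xv₁, r.xv₂, r.v₁k₁, r.v₂k₂, c r.xk₁, c r.xk₂, c r.vv, c r.v₁k₂,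
        c r.v₂k₁, c r.kk, c r.zx.symm, c r.zv₁.symm, c r.zv₂.symm, c r.zk₁.symm, c r.zk₂.symm]

/-- The relations of the second table, one by one, with the commutator of `v₁, v₂` a power of `z`. -/
structure ChainRel {G : Type*} [Group G] (x v₁ v₂ v₃ v₄ z : G) (c : ZMod p) : Prop where
  px : x ^ p = 1
  pv₁ : v₁ ^ p = 1
  pv₂ : v₂ ^ p = 1
  pv₃ : v₃ ^ p = 1
  pv₄ : v₄ ^ p = 1
  pz : z ^ p = 1
  xv₁ : ⁅x, v₁⁆ = v₂
  xv₂ : ⁅x, v₂⁆ = v₃
  xv₃ : ⁅x, v₃⁆ = v₄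
  xv₄ : Commute x v₄
  v₁v₂ : ⁅v₁, v₂⁆ = z ^ c.val
  v₁v₃ : ⁅v₁, v₃⁆ = z
  v₁v₄ : ⁅v₁, v₄⁆ = z
  v₂v₃ : ⁅v₂, v₃⁆ = z⁻¹
  v₂v₄ : Commute v₂ v₄
  v₃v₄ : Commute v₃ v₄
  zx : Commute z x
  zv₁ : Commute z v₁
  zv₂ : Commute z v₂
  zv₃ : Commute z v₃
  zv₄ : Commute z v₄

theorem ChainRel.rels [Fact (1 < p)] {G : Type u} [Group G] {x v₁ v₂ v₃ v₄ z : G}
    (r : ChainRel (p := p) x v₁ v₂ v₃ v₄ z 0) : Rels (G2T p) ![x, v₁, v₂, v₃, v₄, z] := by
  haveI : NeZero p := ⟨by have := (Fact.out : 1 < p); omega⟩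
  have c : ∀ {a b : G}, Commute a b → ⁅a, b⁆ = 1 := fun hh => commutatorElement_eq_one_iff_commute.2 hh
  have hz : z ^ (-1 : ZMod p).val = z⁻¹ := by
    refine eq_inv_of_mul_eq_one_left ?_
    rw [← pow_succ]
    obtain ⟨d, hd⟩ : p ∣ (-1 : ZMod p).val + 1 := by
      rw [← ZMod.natCast_eq_zero_iff, Nat.cast_add, ZMod.natCast_zmod_val, Nat.cast_one, neg_add_cancel]
    rw [hd, pow_mul, r.pz, one_pow]
  refine ⟨fun i => ?_, fun i j hij => ?_⟩
  · fin_cases i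
    exacts [r.px, r.pv₁, r.pv₂, r.pv₃, r.pv₄, r.pz]
  · fin_cases i <;> fin_cases j <;> simp at hij <;>
      simp [word, G2T, ZMod.val_one, hz, r.xv₁, r.xv₂, r.xv₃, r.v₁v₂, r.v₁v₃, r.v₁v₄, r.v₂v₃, c r.xv₄,
        c r.v₂v₄, c r.v₃v₄, c r.zx.symm, c r.zv₁.symm, c r.zv₂.symm, c r.zv₃.symm, c r.zv₄.symm]

/-- A presented subgroup of a group, whose smallest normal subgroup is generated by the last generator, is a
Sylow subgroup of any model satisfying the same table. -/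
theorem subgroup_sylow_iso [hp : Fact p.Prime] {G : Type u} [Group G] {S : Subgroup G} [Finite S]
    {Y : Type v} [Group Y] [Finite Y] {T : Fin 6 → Fin 6 → Fin 6 → ZMod p} (hT : Forward T)
    {g : Fin 6 → G} (hgS : ∀ i, g i ∈ S) (h : Rels T g) (hgen : S ≤ Subgroup.closure (Set.range g))
    (hcard : Nat.card S = p ^ 6) (hcen : S ⊓ Subgroup.centralizer (S : Set G) ≤ Subgroup.zpowers (g 5))
    {g' : Fin 6 → Y} (h' : Rels T g') (hne : g' 5 ≠ 1) (hY : (Nat.card Y).factorization p = 6) :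
    ∃ P : Sylow p Y, Nonempty (S ≃* (P : Subgroup Y)) := by
  set gS : Fin 6 → S := fun i => ⟨g i, hgS i⟩
  have hR : Rels T gS := by
    refine ⟨fun i => Subtype.ext (h.pow i), fun i j hij => Subtype.ext ?_⟩
    show S.subtype ⁅gS i, gS j⁆ = S.subtype (word gS (T i j))
    rw [map_commutatorElement, map_word]
    exact h.rel i j hij
  have hpS : IsPGroup p S := IsPGroup.of_card hcard
  refine exists_sylow_iso hT hR h' ?_ hcard ?_ hne hY
  · refine eq_top_iff.2 fun w _ => ?_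
    have hw : (w : G) ∈ (Subgroup.closure (Set.range gS)).map S.subtype := by
      rw [MonoidHom.map_closure, ← Set.range_comp]
      exact hgen w.2
    obtain ⟨w', hw', e⟩ := hw
    exact Subtype.ext e ▸ hw'
  · intro N hN hne'
    haveI := hN
    obtain ⟨k, hk1, hk, hkp⟩ : ∃ k ∈ N, k ∈ Subgroup.center S ∧ orderOf k = p := by
      haveI : Nontrivial N := (Subgroup.nontrivial_iff_ne_bot N).2 hne'
      have hfix : 1 < Nat.card (N ⊓ Subgroup.center S : Subgroup S) := by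
        haveI := hpS.isNilpotent
        rw [Subgroup.one_lt_card_iff_ne_bot]
        exact Cfsg.Lib.Coprime.inf_center_ne_bot N hne'
      haveI := hp
      haveI := hpS.isNilpotent
      obtain ⟨m, hm⟩ := IsPGroup.iff_card.1 (hpS.to_subgroup (N ⊓ Subgroup.center S : Subgroup S))
      obtain ⟨k, hk⟩ := exists_prime_orderOf_dvd_card' (G := (N ⊓ Subgroup.center S : Subgroup S)) p (by
        rw [hm]
        exact dvd_pow_self p (by rintro rfl; rw [hm, pow_zero] at hfix; omega))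
      exact ⟨k, k.2.1, k.2.2, by rw [Subgroup.orderOf_coe, hk]⟩
    have hkz : (k : G) ∈ Subgroup.zpowers (g 5) := hcen ⟨k.2, fun s hs =>
      congrArg Subtype.val (Subgroup.mem_center_iff.1 hk ⟨s, hs⟩)⟩
    obtain ⟨m, hm⟩ := hkz
    have hkm : gS 5 ^ m = k := Subtype.ext (by rw [Subgroup.coe_zpow]; exact hm)
    have h5 : gS 5 ∈ Subgroup.zpowers k := by
      have hle : Subgroup.zpowers k ≤ Subgroup.zpowers (gS 5) :=
        Subgroup.zpowers_le.2 ⟨m, hkm⟩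
      have hc : Nat.card (Subgroup.zpowers (gS 5)) ≤ p := by
        rw [Nat.card_zpowers]
        exact Nat.le_of_dvd hp.out.pos (orderOf_dvd_of_pow_eq_one (hR.pow 5))
      rw [Subgroup.eq_of_le_of_card_ge hle (by rw [Nat.card_zpowers k, hkp]; exact hc)]
      exact Subgroup.mem_zpowers _
    exact Subgroup.zpowers_le.2 hk1 h5

end Cfsg.Lib.Fusion.ExIdxP.NormalForm
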