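import Cfsg.Agent.Fusion.ExIdxP.Orbit

/-!
Transvections on the abelian essential subgroup, and the shape of the kernel of commutation.
-/

set_option autoImplicit false
set_option linter.style.haveILetI false
set_option linter.unusedSectionVars false

namespace Cfsg.Lib.Fusion.ExIdxP

open Cfsg Cfsg.FusionSystem Cfsg.Lib.Fusion Cfsg.Lib.Fusion.ExtraspecialIndex
open scoped commutatorElement

universe u

variable {Ω : Type u} [Group Ω] {S : Subgroup Ω} {F : FusionSystem S} {p : ℕ}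

theorem ze_in {X : Subgroup Ω} {e : Ω} (he : e ∈ X) (i : ZMod p) : ze e i ∈ X := X.pow_mem he _

theorem map_ze {P : Subgroup Ω} {f : Ω → Ω} (hf : IsMap F P f) {e : Ω} (he : e ∈ P) (i : ZMod p) :
    f (ze e i) = ze (f e) i := hf.map_pow he _

theorem mem_of_ze_mem [hp : Fact p.Prime] {X : Subgroup Ω} {e : Ω} (he : e ^ p = 1) {i : ZMod p}
    (hi : i ≠ 0) (hX : ze e i ∈ X) : e ∈ X := by
  haveI : NeZero p := ⟨hp.out.ne_zero⟩
  have := X.pow_mem hX (i⁻¹).val
  rwa [ze_pow_of he, ZMod.natCast_zmod_val, inv_mul_cancel₀ hi, ze_one_of] at this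

namespace Setup

variable [Finite S] [hp : Fact p.Prime] {Q : Subgroup Ω} {z : Ω} (h : Setup F p Q z)
include h

/-- A normal subgroup of `S` in `Q` above another one has an element that moves into the smaller one. -/
theorem exists_fixed_mod {U B : Subgroup Ω} (hU : U ≤ Q) (hBU : B < U)
    (hUn : ∀ g ∈ S, ∀ w ∈ U, g * w * g⁻¹ ∈ U) (hBn : ∀ g ∈ S, ∀ w ∈ B, g * w * g⁻¹ ∈ B) :
    ∃ w ∈ U, w ∉ B ∧ ∀ g ∈ S, ⁅g, w⁆ ∈ B := by
  haveI : (B.subgroupOf S).Normal := ⟨fun w hw g => hBn g g.2 w hw⟩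
  haveI : (U.subgroupOf S).Normal := ⟨fun w hw g => hUn g g.2 w hw⟩
  set π := QuotientGroup.mk' (B.subgroupOf S)
  haveI hN : ((U.subgroupOf S).map π).Normal :=
    Subgroup.Normal.map inferInstance π (QuotientGroup.mk'_surjective _)
  obtain ⟨w₀, hw₀, hw₀B⟩ := SetLike.exists_of_lt hBU
  have hne : (U.subgroupOf S).map π ≠ ⊥ := fun e => hw₀B (by
    have : π ⟨w₀, h.le (hU hw₀)⟩ ∈ (⊥ : Subgroup _) := e ▸ ⟨⟨w₀, h.le (hU hw₀)⟩, hw₀, rfl⟩
    exact (QuotientGroup.eq_one_iff (N := B.subgroupOf S) ⟨w₀, h.le (hU hw₀)⟩).1 (Subgroup.mem_bot.1 this))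
  haveI : Group.IsNilpotent (S ⧸ B.subgroupOf S) := (h.isP.to_quotient _).isNilpotent
  obtain ⟨w', hw', hw'c, hw'1⟩ : ∃ a, a ∈ (U.subgroupOf S).map π ∧ a ∈ Subgroup.center _ ∧ a ≠ 1 := by
    obtain ⟨a, ha, hac, hao⟩ := Cfsg.Lib.PGroups.exists_mem_center_of_normal_ne_bot
      (h.isP.to_quotient (B.subgroupOf S)) hne
    exact ⟨a, ha, hac, fun e => hp.out.ne_one (by rw [← hao, e, orderOf_one])⟩
  obtain ⟨w, hw, rfl⟩ := hw'
  refine ⟨w, hw, fun hwB => hw'1 ((QuotientGroup.eq_one_iff w).2 hwB), fun g hg => ?_⟩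
  have e : π ⁅(⟨g, hg⟩ : S), w⁆ = 1 := by
    rw [map_commutatorElement, commutatorElement_eq_one_iff_mul_comm]
    exact Subgroup.mem_center_iff.1 hw'c _
  exact (QuotientGroup.eq_one_iff (N := B.subgroupOf S) ⁅(⟨g, hg⟩ : S), w⁆).1 e

theorem kerSub_conj {x g k : Ω} (hx : x ∈ S) (hg : g ∈ S) (hk : k ∈ h.kerSub x hx) :
    g * k * g⁻¹ ∈ h.kerSub x hx := by
  refine ⟨h.conj_Q hg hk.1, ?_⟩
  have hr : ⁅g⁻¹, x⁆ ∈ Q := h.comm_SS (S.inv_mem hg) hx
  have e : ⁅x, g * k * g⁻¹⁆ = g * ⁅⁅g⁻¹, x⁆ * x, k⁆ * g⁻¹ := by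
    simp only [commutatorElement_def]; group
  rw [e, comm_mul_left, h.conj_cen (h.le hr) hk.2,
    h.conj_cen hg ((cen Q).mul_mem hk.2 (h.comm_mem hr hk.1))]
  exact (cen Q).mul_mem hk.2 (h.comm_mem hr hk.1)

theorem imSub_conj {x g k : Ω} (hx : x ∈ S) (hg : g ∈ S) (hk : k ∈ h.imSub x hx) :
    g * k * g⁻¹ ∈ h.imSub x hx := by
  rw [← h.perp_ker hx] at hk ⊢
  refine ⟨h.conj_Q hg hk.1, fun m hm => ?_⟩
  have := hk.2 _ (h.kerSub_conj hx (S.inv_mem hg) hm)
  calc m * (g * k * g⁻¹) = g * (g⁻¹ * m * g⁻¹⁻¹ * k) * g⁻¹ := by group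
    _ = g * (k * (g⁻¹ * m * g⁻¹⁻¹)) * g⁻¹ := by rw [this]
    _ = g * k * g⁻¹ * m := by group

end Setup

namespace Ess

variable [Finite S] [hp : Fact p.Prime] {Q : Subgroup Ω} {z x : Ω} (h : Setup F p Q z)
  (d : Ess F p Q z x)
include h d

theorem ex_pow {e : Ω} (he : e ∈ cS S x) : ∀ n : ℕ, ex p Q x (e ^ n) = n * ex p Q x e
  | 0 => by rw [pow_zero, d.ex_Q h Q.one_mem, Nat.cast_zero, zero_mul]
  | n + 1 => by
    rw [pow_succ, d.ex_mul h ((cS S x).pow_mem he n) he, ex_pow he n, Nat.cast_succ, add_mul, one_mul]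

theorem ex_ze {e : Ω} (he : e ∈ cS S x) (i : ZMod p) : ex p Q x (ze e i) = i * ex p Q x e := by
  haveI := h.neZero
  rw [ze, d.ex_pow h he, ZMod.natCast_zmod_val]

theorem twist_order {g : Ω} (hg : g ∈ S) (hgN : g ∈ Subgroup.normalizer (cS S x : Set Ω))
    (β : MulAut (cS S x)) :
    ∃ k : ℕ, (β * conjAut (cS S x) g hgN * β⁻¹) ^ p ^ k = 1 := by
  obtain ⟨k, hk⟩ := isPGroup_autInducedBy h.isP (cS S x) ⟨_, conjAut_mem_autInducedBy hgN hg⟩
  refine ⟨k, ?_⟩
  have hk' : conjAut (cS S x) g hgN ^ p ^ k = 1 := by simpa using congrArg Subtype.val hk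
  rw [conj_pow, hk', mul_one, mul_inv_cancel]

theorem conjAut_ne_one {g : Ω} (hg : g ∈ S) (hgN : g ∈ Subgroup.normalizer (cS S x : Set Ω))
    (hgE : g ∉ cS S x) : conjAut (cS S x) g hgN ≠ 1 := fun e => hgE (mem_cS.2 ⟨hg, by
  have := congrArg (fun w : cS S x => (w : Ω)) (MulEquiv.congr_fun e ⟨x, d.xE h⟩)
  simp only [conjAut_apply, MulAut.one_apply] at this
  exact mul_inv_eq_iff_eq_mul.1 this⟩)

theorem twist_ne_one {g : Ω} (hg : g ∈ S) (hgN : g ∈ Subgroup.normalizer (cS S x : Set Ω))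
    (hgE : g ∉ cS S x) (β : MulAut (cS S x)) : β * conjAut (cS S x) g hgN * β⁻¹ ≠ 1 := by
  rw [Ne, mul_inv_eq_one, mul_eq_left]
  exact d.conjAut_ne_one h hg hgN hgE

theorem autFun_twist {g : Ω} (hgN : g ∈ Subgroup.normalizer (cS S x : Set Ω)) (β : MulAut (cS S x))
    {e : Ω} (he : e ∈ cS S x) :
    autFun (β * conjAut (cS S x) g hgN * β⁻¹) e = autFun β (g * autFun β⁻¹ e * g⁻¹) := by
  rw [autFun_mul _ _ he, autFun_mul _ _ (autFun_mem _ he)]
  congr 1
  rw [autFun_apply_mem _ (autFun_mem _ he), conjAut_apply]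

/-- The centre of a transvection with axis `A` is central. -/
theorem centre_cen {g : Ω} (hg : g ∈ S) (hgN : g ∈ Subgroup.normalizer (cS S x : Set Ω))
    (hgE : g ∉ cS S x) (hA : ∀ a ∈ Aq S Q x, g * a = a * g) : ⁅g, x⁆ ∈ cen Q := by
  haveI := h.neZero
  set u := ⁅g, x⁆ with hu_def
  have huQ : u ∈ Q := h.comm_SS hg (d.xS h)
  have huE : u ∈ cS S x :=
    (cS S x).mul_mem (conj_mem_of_mem_normalizer hgN (d.xE h)) ((cS S x).inv_mem (d.xE h))
  have huA : u ∈ Aq S Q x := ⟨huQ, huE⟩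
  have hgx : g * x * g⁻¹ = u * x := by rw [hu_def, commutatorElement_def]; group
  have hup : u ^ p = 1 := by
    have e : (g * x * g⁻¹) ^ p = 1 := by rw [conj_pow, d.xp h, mul_one, mul_inv_cancel]
    rwa [hgx, (d.comm h huE (d.xE h)).mul_pow, d.xp h, mul_one] at e
  have hu1 : u ≠ 1 := fun e => hgE (mem_cS.2 ⟨hg, by
    rw [← commutatorElement_eq_one_iff_mul_comm]; exact e⟩)
  -- conjugation by `g`
  have hstep : ∀ e ∈ cS S x, g * e * g⁻¹ = e * ze u (ex p Q x e) := by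
    intro e he
    have ha := d.mem_Aq_of_ex h he
    set a := e * (ze x (ex p Q x e))⁻¹ with ha_def
    have hea : e = a * ze x (ex p Q x e) := by rw [ha_def, inv_mul_cancel_right]
    calc g * e * g⁻¹ = g * a * g⁻¹ * (g * x * g⁻¹) ^ (ex p Q x e).val := by
          conv_lhs => rw [hea, ze]
          rw [conj_pow]; group
      _ = a * (ze u (ex p Q x e) * ze x (ex p Q x e)) := by
          rw [hA a ha, mul_inv_cancel_right, hgx, (d.comm h huE (d.xE h)).mul_pow]; rfl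
      _ = _ := by
          rw [(d.comm h (ze_in huE _) (ze_in (d.xE h) _)).eq, ← mul_assoc, ← hea]
  have hpow : ∀ (n : ℕ), ∀ e ∈ cS S x, g ^ n * e * (g ^ n)⁻¹ = e * ze u ((n : ZMod p) * ex p Q x e) := by
    intro n
    induction n with
    | zero => intro e _; simp [ze_zero_of]
    | succ n ih =>
      intro e he
      have he' : e * ze u ((n : ZMod p) * ex p Q x e) ∈ cS S x := (cS S x).mul_mem he (ze_in huE _)
      calc g ^ (n + 1) * e * (g ^ (n + 1))⁻¹ = g * (g ^ n * e * (g ^ n)⁻¹) * g⁻¹ := by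
            rw [pow_succ']; group
        _ = _ := by
            rw [ih e he, hstep _ he', d.ex_mul h he (ze_in huE _), d.ex_ze h huE, d.ex_Q h huQ,
              mul_zero, add_zero, mul_assoc, ze_add_of hup, Nat.cast_succ, add_mul, one_mul]
  -- the twisted transvection
  obtain ⟨β, hβ, hβz⟩ := d.moved
  have hm : IsMap F (cS S x) (autFun β) := (isMap_autFun (cS_le x)).2 hβ
  set u' := autFun β u with hu'_def
  have hu'E : u' ∈ cS S x := autFun_mem _ huE
  set σ := β * conjAut (cS S x) g hgN * β⁻¹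
  have hσA : σ ∈ F.autGroup (cS S x) := Subgroup.mul_mem _ (Subgroup.mul_mem _ hβ
    (autInducedBy_le (F := F) (cS_le x) (conjAut_mem_autInducedBy hgN hg))) (Subgroup.inv_mem _ hβ)
  have hσord := d.twist_order h hg hgN β
  have hσ1 : σ ≠ 1 := d.twist_ne_one h hg hgN hgE β
  have hinv : ∀ {e}, e ∈ cS S x → autFun β⁻¹ (autFun β e) = e := fun {e} he => by
    rw [← autFun_mul _ _ he, inv_mul_cancel, autFun_one he]
  set ψ : Ω → ZMod p := fun e => ex p Q x (autFun β⁻¹ e) with hψ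
  have hσ : ∀ e ∈ cS S x, autFun σ e = e * ze u' (ψ e) := by
    intro e he
    rw [d.autFun_twist h hgN β he, hstep _ (autFun_mem _ he),
      hm.map_mul (autFun_mem _ he) (ze_in huE _), map_ze hm huE, autFun_inv_apply β he]
  have hψmul : ∀ {a b}, a ∈ cS S x → b ∈ cS S x → ψ (a * b) = ψ a + ψ b := fun {a b} ha hb => by
    rw [hψ]
    simp only
    rw [((isMap_autFun (cS_le x)).2 (Subgroup.inv_mem _ hβ) : IsMap F _ (autFun β⁻¹)).map_mul ha hb,
      d.ex_mul h (autFun_mem _ ha) (autFun_mem _ hb)]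
  have hψze : ∀ {a}, a ∈ cS S x → ∀ i : ZMod p, ψ (ze a i) = i * ψ a := fun {a} ha i => by
    rw [hψ]
    simp only
    rw [map_ze ((isMap_autFun (cS_le x)).2 (Subgroup.inv_mem _ hβ) : IsMap F _ (autFun β⁻¹)) ha,
      d.ex_ze h (autFun_mem _ ha)]
  have hψu' : ψ u' = 0 := by rw [hψ]; simp only [hu'_def, hinv huE]; exact d.ex_Q h huQ
  have hψx : ψ x = 0 := by
    show ex p Q x (autFun β⁻¹ x) = 0
    rw [show autFun β⁻¹ x = z from (congrArg (autFun β⁻¹) hβz.symm).trans (hinv (d.zE h))]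
    exact d.ex_Q h h.zQ
  have hfixx : autFun σ x = x := by rw [hσ x (d.xE h), hψx, ze_zero_of, mul_one]
  -- the first conjugate is moved
  have hd : ψ u ≠ 0 := by
    intro h0
    have hf : autFun σ (g * x * g⁻¹) = g * x * g⁻¹ := by
      rw [hgx, hσ _ ((cS S x).mul_mem huE (d.xE h)), hψmul huE (d.xE h), h0, hψx, add_zero, ze_zero_of,
        mul_one]
    obtain ⟨k, hk⟩ := d.fix_unique h hσA hσord hσ1 (d.orb_x h) (d.orb_conj h (d.orb_x h) hg hgN) hfixx hf
    change x ^ k = g * x * g⁻¹ at hk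
    have hzp : ∃ i : ZMod p, u = ze x i := by
      refine ⟨((k - 1 : ℤ) : ZMod p), ?_⟩
      have e : u = x ^ (k - 1) := by rw [zpow_sub_one, hk, hgx, mul_inv_cancel_right]
      rw [e, ze, ← zpow_natCast, ZMod.val_intCast,
        ← orderOf_eq_prime (d.xp h) (h.zc_ne_one d.zc)]
      exact (zpow_mod_orderOf x (k - 1)).symm
    obtain ⟨i, hi⟩ := hzp
    have e0 := d.ex_Q h huQ
    rw [hi, d.ex_ze h (d.xE h), d.ex_x h, mul_one] at e0
    exact hu1 (by rw [hi, e0, ze_zero_of])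
  set a := ψ z with ha_def
  have ha : a ≠ 0 := by
    intro h0
    obtain ⟨k, hk⟩ := d.fix_unique h hσA hσord hσ1 (d.orb_self h) (d.orb_x h)
      (by rw [hσ z (d.zE h), ← ha_def, h0, ze_zero_of, mul_one]) hfixx
    exact d.notQ (hk ▸ Q.zpow_mem h.zQ k)
  set o₁ := z * ze u' a with ho₁
  have ho₁' : autFun σ z = o₁ := hσ z (d.zE h)
  have horb₁ : Orb F (cS S x) z o₁ := ho₁' ▸ d.orb_map h (d.orb_self h) hσA
  have ho₁E : o₁ ∈ cS S x := d.orb_mem h horb₁
  have hex₁ : ex p Q x o₁ = a * ex p Q x u' := by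
    rw [ho₁, d.ex_mul h (d.zE h) (ze_in hu'E _), d.ex_Q h h.zQ, d.ex_ze h hu'E, zero_add]
  set b := ex p Q x u' with hb_def
  have hu'p : u' ^ p = 1 := by rw [hu'_def, ← hm.map_pow huE, hup, hm.map_one]
  have hb : b ≠ 0 := by
    intro h0
    have hfix : g * o₁ * g⁻¹ = o₁ := by
      rw [hstep o₁ ho₁E, hex₁, h0, mul_zero, ze_zero_of, mul_one]
    have ho₁Q : o₁ ∈ Q := by
      by_contra hQ'
      exact hgE (d.conj_orb_fixed h horb₁ hQ' hg (mul_inv_eq_iff_eq_mul.1 hfix))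
    have hc := d.orb_Q h horb₁ ho₁Q
    rw [ho₁] at hc
    have hu'Z : u' ∈ cen Q :=
      mem_of_ze_mem hu'p ha (((cen Q).mul_mem_cancel_left h.zmem).1 hc)
    obtain ⟨i, hi⟩ := h.exists_ze hu'Z
    have hi0 : i ≠ 0 := fun e => hu1 (by
      rw [← hinv huE, ← hu'_def, ← hi, e, h.ze_zero]
      exact ((isMap_autFun (cS_le x)).2 (Subgroup.inv_mem _ hβ) : IsMap F _ (autFun β⁻¹)).map_one)
    have e : ψ u' = i * a := by rw [← hi, hψze (d.zE h)]
    rw [hψu'] at e
    exact mul_ne_zero hi0 ha e.symm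
  set j : ZMod p := -2 / (b * ψ u) with hj
  set o₂ := g ^ j.val * o₁ * (g ^ j.val)⁻¹ with ho₂_def
  have hgjN : g ^ j.val ∈ Subgroup.normalizer (cS S x : Set Ω) := pow_mem hgN _
  have horb₂ : Orb F (cS S x) z o₂ := d.orb_conj h horb₁ (S.pow_mem hg _) hgjN
  have ho₂ : o₂ = o₁ * ze u (j * (a * b)) := by
    rw [ho₂_def, hpow _ o₁ ho₁E, hex₁, ZMod.natCast_zmod_val]
  have hψ₂ : ψ o₂ = -a := by
    rw [ho₂, hψmul ho₁E (ze_in huE _), hψze huE, ho₁, hψmul (d.zE h) (ze_in hu'E _),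
      hψze hu'E, hψu', ← ha_def, hj]
    field_simp
    ring
  have horb₃ := d.orb_map h horb₂ hσA
  rw [hσ o₂ (d.orb_mem h horb₂), hψ₂] at horb₃
  have e3 : o₂ * ze u' (-a) = z * ze u (j * (a * b)) := by
    rw [ho₂, ho₁, mul_assoc (z * ze u' a), (d.comm h (ze_in huE (j * (a * b))) (ze_in hu'E (-a))).eq]
    rw [← mul_assoc, mul_assoc z, ze_add_of hu'p, add_neg_cancel, ze_zero_of, mul_one]
  rw [e3] at horb₃
  have hc := d.orb_Q h horb₃ (Q.mul_mem h.zQ (ze_in huQ _))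
  refine mem_of_ze_mem hup ?_ (((cen Q).mul_mem_cancel_left h.zmem).1 hc)
  refine mul_ne_zero (div_ne_zero ?_ (mul_ne_zero hb hd)) (mul_ne_zero ha hb)
  rw [neg_ne_zero]
  intro h2
  exact h.odd ((Nat.prime_dvd_prime_iff_eq hp.out Nat.prime_two).1
    ((ZMod.natCast_eq_zero_iff 2 p).1 (by exact_mod_cast h2)))

/-- A transvection with central centre confines the whole normalizer. -/
theorem comm_x_cen {g : Ω} (hg : g ∈ S) (hgN : g ∈ Subgroup.normalizer (cS S x : Set Ω))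
    (hgE : g ∉ cS S x) (hdisp : ∀ e ∈ cS S x, ⁅g, e⁆ ∈ cen Q) {q : Ω} (hq : q ∈ S)
    (hqN : q ∈ Subgroup.normalizer (cS S x : Set Ω)) : ⁅q, x⁆ ∈ cen Q := by
  haveI := h.neZero
  obtain ⟨β, hβ, hβz⟩ := d.moved
  have hm : IsMap F (cS S x) (autFun β) := (isMap_autFun (cS_le x)).2 hβ
  set φ : Ω → ZMod p := fun e => lg p z ⁅g, e⁆
  have hpow : ∀ (n : ℕ), ∀ e ∈ cS S x, g ^ n * e * (g ^ n)⁻¹ = e * ze z ((n : ZMod p) * φ e) := by
    intro n
    induction n with
    | zero => intro e _; simp [ze_zero_of]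
    | succ n ih =>
      intro e he
      calc g ^ (n + 1) * e * (g ^ (n + 1))⁻¹ = g * (g ^ n * e * (g ^ n)⁻¹) * g⁻¹ := by
            rw [pow_succ']; group
        _ = g * e * g⁻¹ * (g * ze z ((n : ZMod p) * φ e) * g⁻¹) := by rw [ih e he]; group
        _ = ⁅g, e⁆ * e * ze z ((n : ZMod p) * φ e) := by
            rw [h.conj_cen hg (h.ze_mem _), commutatorElement_def]; group
        _ = _ := by
            rw [show ⁅g, e⁆ = ze z (φ e) from (h.ze_lg (hdisp e he)).symm,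
              ← (h.ze_comm (φ e) he.1).eq, mul_assoc, h.ze_add, Nat.cast_succ, add_mul, one_mul, add_comm]
  set x' := q * x * q⁻¹ with hx'
  have hx'orb : Orb F (cS S x) z x' := d.orb_conj h (d.orb_x h) hq hqN
  have hx'E := d.orb_mem h hx'orb
  have hqA : conjAut (cS S x) q hqN ∈ F.autGroup (cS S x) :=
    autInducedBy_le (F := F) (cS_le x) (conjAut_mem_autInducedBy hqN hq)
  set γ := conjAut (cS S x) q hqN * β
  have hγ : γ ∈ F.autGroup (cS S x) := Subgroup.mul_mem _ hqA hβ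
  have hmγ : IsMap F (cS S x) (autFun γ) := (isMap_autFun (cS_le x)).2 hγ
  have hγz : autFun γ z = x' := by
    rw [autFun_mul _ _ (d.zE h), hβz, autFun_apply_mem _ (d.xE h), conjAut_apply]
  set ψ : Ω → ZMod p := fun e => φ (autFun γ⁻¹ e)
  have hσ : ∀ (n : ℕ), ∀ e ∈ cS S x,
      autFun γ (g ^ n * autFun γ⁻¹ e * (g ^ n)⁻¹) = e * ze x' ((n : ZMod p) * ψ e) := by
    intro n e he
    rw [hpow n _ (autFun_mem _ he), hmγ.map_mul (autFun_mem _ he) (ze_in (d.zE h) _),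
      map_ze hmγ (d.zE h), hγz, autFun_inv_apply γ he]
  have hψx' : ψ x' = 0 := by
    show φ (autFun γ⁻¹ x') = 0
    rw [← hγz, ← autFun_mul _ _ (d.zE h), inv_mul_cancel, autFun_one (d.zE h)]
    show lg p z ⁅g, z⁆ = 0
    rw [h.comm_cen hg h.zmem, ← h.ze_zero, h.lg_ze]
  have hxQ' : ⁅q, x⁆ ∈ Q := h.comm_SS hq (d.xS h)
  have hxw : x' = ⁅q, x⁆ * x := by rw [hx', commutatorElement_def]; group
  by_cases h0 : ψ x = 0
  · set σ := γ * conjAut (cS S x) g hgN * γ⁻¹
    have hσA : σ ∈ F.autGroup (cS S x) := Subgroup.mul_mem _ (Subgroup.mul_mem _ hγ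
      (autInducedBy_le (F := F) (cS_le x) (conjAut_mem_autInducedBy hgN hg))) (Subgroup.inv_mem _ hγ)
    have hfix : ∀ e ∈ cS S x, ψ e = 0 → autFun σ e = e := fun e he h00 => by
      have := hσ 1 e he
      rw [pow_one, h00, mul_zero, ze_zero_of, mul_one] at this
      rw [d.autFun_twist h hgN γ he, this]
    obtain ⟨k, hk⟩ := d.fix_unique h hσA (d.twist_order h hg hgN γ) (d.twist_ne_one h hg hgN hgE γ)
      (d.orb_x h) hx'orb (hfix x (d.xE h) h0) (hfix x' hx'E hψx')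
    change x ^ k = x' at hk
    have hw : ⁅q, x⁆ = x ^ (k - 1) := by rw [zpow_sub_one, hk, hxw, mul_inv_cancel_right]
    by_cases hd : (p : ℤ) ∣ (k - 1)
    · obtain ⟨m, hm'⟩ := hd
      rw [hw, hm', zpow_mul, zpow_natCast, d.xp h, one_zpow]
      exact (cen Q).one_mem
    · exact absurd (h.not_mem_of_pow (d.xp h) hd (hw ▸ hxQ')) d.notQ
  · set n : ℕ := (-(ψ x)⁻¹).val
    have ho : Orb F (cS S x) z (x * ze x' ((n : ZMod p) * ψ x)) := by
      rw [← hσ n x (d.xE h)]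
      refine d.orb_map h (d.orb_conj h ?_ (S.pow_mem hg n) (pow_mem hgN n)) hγ
      exact d.orb_map h (d.orb_x h) (Subgroup.inv_mem _ hγ)
    rw [ZMod.natCast_zmod_val, neg_mul, inv_mul_cancel₀ h0] at ho
    have hx'p : x' ^ p = 1 := h.zc_pow (d.orb_zc h hx'orb)
    have e : ze x' (-1 : ZMod p) = x'⁻¹ := eq_inv_of_mul_eq_one_left (by
      calc ze x' (-1 : ZMod p) * x' = ze x' (-1 : ZMod p) * ze x' (1 : ZMod p) := by rw [ze_one_of]
        _ = _ := by rw [ze_add_of hx'p, neg_add_cancel, ze_zero_of])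
    rw [e, hxw, mul_inv_rev, ← mul_assoc, mul_inv_cancel, one_mul] at ho
    exact inv_mem_iff.1 (d.orb_Q h ho (Q.inv_mem hxQ'))

theorem normalizes_of_comm {q : Ω} (hq : q ∈ Q) (hqx : ⁅q, x⁆ ∈ cS S x) :
    q ∈ Subgroup.normalizer (cS S x : Set Ω) := by
  haveI := finite_of_le (cS_le (S := S) x)
  refine mem_normalizer_of_maps_finite fun e he => ?_
  have ha := d.mem_Aq_of_ex h he
  set a := e * (ze x (ex p Q x e))⁻¹ with ha_def
  have e1 : q * e * q⁻¹ = ⁅q, a⁆ * a * (⁅q, x⁆ * x) ^ (ex p Q x e).val := by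
    rw [show ⁅q, x⁆ * x = q * x * q⁻¹ by rw [commutatorElement_def]; group, conj_pow, commutatorElement_def,
      ha_def, ze]
    group
  rw [e1]
  exact (cS S x).mul_mem ((cS S x).mul_mem (h.cen_le_cS (d.xS h) (h.comm_mem hq ha.1)) ha.2)
    ((cS S x).pow_mem ((cS S x).mul_mem hqx (d.xE h)) _)

theorem comm_swap_mem {X : Subgroup Ω} {q : Ω} (hq : ⁅q, x⁆ ∈ X) : ⁅x, q⁆ ∈ X := by
  rw [← commutatorElement_inv q x]
  exact X.inv_mem hq

theorem ker_normalizes {q : Ω} (hq : q ∈ h.kerSub x (d.xS h)) :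
    q ∈ Subgroup.normalizer (cS S x : Set Ω) := by
  refine d.normalizes_of_comm h hq.1 (h.cen_le_cS (d.xS h) ?_)
  rw [← commutatorElement_inv x q]
  exact (cen Q).inv_mem hq.2

theorem Aq_le_ker : Aq S Q x ≤ h.kerSub x (d.xS h) := fun a ha => ⟨ha.1, by
  rw [show ⁅x, a⁆ = 1 from commutatorElement_eq_one_iff_mul_comm.2 (d.comm h (d.xE h) ha.2).eq]
  exact (cen Q).one_mem⟩

/-- Either `A` is the centre, or it is a maximal abelian subgroup equal to image and kernel. -/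
theorem dichotomy : Aq S Q x = cen Q ∨
    (h.kerSub x (d.xS h) = Aq S Q x ∧ h.imSub x (d.xS h) = Aq S Q x ∧
      ∀ q ∈ Q, q ∈ Subgroup.normalizer (cS S x : Set Ω)) := by
  haveI := finite_of_le h.le
  set A := Aq S Q x
  have hxS := d.xS h
  set K := h.kerSub x hxS
  set I := h.imSub x hxS
  have hAK : A ≤ K := d.Aq_le_ker h
  have hKQ : K ≤ Q := fun q hq => hq.1
  haveI := finite_of_le (hKQ.trans h.le)
  haveI : Finite A := finite_of_le (inf_le_left.trans h.le)
  by_cases hT : ∃ g ∈ Q, g ∈ Subgroup.normalizer (cS S x : Set Ω) ∧ g ∉ A ∧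
      ((∀ a ∈ A, g * a = a * g) ∨ ⁅g, x⁆ ∈ cen Q)
  · obtain ⟨g, hgQ, hgN, hgA, hg⟩ := hT
    have hgE : g ∉ cS S x := fun hh => hgA ⟨hgQ, hh⟩
    have hgx : ⁅g, x⁆ ∈ cen Q := hg.elim (d.centre_cen h (h.le hgQ) hgN hgE) id
    have hdisp : ∀ e ∈ cS S x, ⁅g, e⁆ ∈ cen Q := by
      intro e he
      have ha := d.mem_Aq_of_ex h he
      have key : ∀ n : ℕ, ⁅g, x ^ n⁆ ∈ cen Q := by
        intro n
        induction n with
        | zero => simp [(cen Q).one_mem]
        | succ n ih =>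
          rw [pow_succ, comm_mul_right, h.conj_cen (S.pow_mem hxS n) hgx]
          exact (cen Q).mul_mem ih hgx
      rw [show e = e * (ze x (ex p Q x e))⁻¹ * ze x (ex p Q x e) by rw [inv_mul_cancel_right],
        comm_mul_right, h.conj_cen (w := ⁅g, ze x (ex p Q x e)⁆) (h.le ha.1) (key _)]
      exact (cen Q).mul_mem (h.comm_mem hgQ ha.1) (key _)
    have hNK : ∀ q ∈ Q, q ∈ Subgroup.normalizer (cS S x : Set Ω) → q ∈ K := fun q hq hqN =>
      ⟨hq, d.comm_swap_mem h (d.comm_x_cen h (h.le hgQ) hgN hgE hdisp (h.le hq) hqN)⟩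
    have hgK : g ∈ K := hNK g hgQ hgN
    set K' := A ⊔ Subgroup.zpowers g
    have hK'le : K' ≤ K := sup_le hAK (Subgroup.zpowers_le.2 hgK)
    have hlt : A < K' := lt_of_le_of_ne le_sup_left fun e =>
      hgA (e.symm ▸ Subgroup.mem_sup_right (Subgroup.mem_zpowers g))
    have hKp : Nat.card K ≤ p * Nat.card A := by
      refine (h.card_le_centralizer (hKQ.trans h.le) x fun y hy => hy.2).trans
        (Nat.mul_le_mul le_rfl (Subgroup.card_le_of_le ?_))
      exact fun q hq => ⟨hq.1.1, h.le hq.1.1, hq.2⟩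
    have hKeq : K' = K := Subgroup.eq_of_le_of_card_ge hK'le
      (hKp.trans (SqCenter.eq_of_lt h.isP (hK'le.trans (hKQ.trans h.le)) hlt))
    have hcK : ∀ a ∈ A, Commute g a → ∀ k ∈ K, Commute a k := by
      intro a ha hga k hk
      rw [← hKeq] at hk
      exact (Subgroup.mem_centralizer_singleton_iff.1 ((sup_le
        (fun b hb => Subgroup.mem_centralizer_singleton_iff.2 (d.comm h hb.2 ha.2).eq)
        (Subgroup.zpowers_le.2 (Subgroup.mem_centralizer_singleton_iff.2 hga.eq)) :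
          K' ≤ Subgroup.centralizer {a}) hk)).symm
    have hIA : ∀ u ∈ I, u ∈ A → u ∈ cen Q := by
      rintro u ⟨q, hq, c, hc, rfl⟩ huA
      have hxq : ⁅x, q⁆ ∈ A := by
        have := A.mul_mem huA (A.inv_mem (d.cen_le_Aq h hc))
        rwa [mul_inv_cancel_right] at this
      have hqx : ⁅q, x⁆ ∈ cS S x := by rw [← commutatorElement_inv x q]; exact (cS S x).inv_mem hxq.2
      exact (cen Q).mul_mem (hNK q hq (d.normalizes_of_comm h hq hqx)).2 hc
    have hB : ∀ a ∈ A, Commute g a → a ∈ cen Q := fun a ha hga => hIA a (by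
      rw [show I = Q ⊓ Subgroup.centralizer (K : Set Ω) from (h.perp_ker hxS).symm]
      exact ⟨ha.1, fun k hk => (hcK a ha hga k hk).symm⟩) ha
    left
    by_contra hne
    have hA2 : Nat.card A ≤ p * p := by
      refine (h.card_le_centralizer (P := A) (inf_le_left.trans h.le) g fun y hy => h.comm_Q hgQ hy.1).trans
        (Nat.mul_le_mul le_rfl ?_)
      haveI := finite_of_le h.z_le
      exact (Subgroup.card_le_of_le (H := A ⊓ Subgroup.centralizer {g}) (fun a ha => hB a ha.1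
        (Subgroup.mem_centralizer_singleton_iff.1 ha.2).symm)).trans h.card_z.le
    have hgab : ¬ ∀ a ∈ A, Commute g a := fun hall =>
      hne (le_antisymm (fun a ha => hB a ha (hall a ha)) (d.cen_le_Aq h))
    -- `I` meets `K` only in the centre, but a fixed point of `x` in `I` lies in `K`
    have hIK : ∀ u ∈ I, u ∈ K → u ∈ cen Q := by
      intro u hu huK
      rw [show I = Q ⊓ Subgroup.centralizer (K : Set Ω) from (h.perp_ker hxS).symm] at hu
      have hgn : Subgroup.zpowers g ≤ Subgroup.normalizer (A : Set Ω) := Subgroup.zpowers_le.2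
        (mem_normalizer_of_maps_finite fun a ha =>
          ⟨h.conj_Q (h.le hgQ) ha.1, conj_mem_of_mem_normalizer hgN ha.2⟩)
      have hu' : u ∈ K' := hKeq ▸ huK
      obtain ⟨a, ha, _, ⟨m, rfl⟩, rfl⟩ := (Cfsg.Lib.Coprime.mem_sup_of_le_normalizer hgn).mp hu'
      have hga : Commute g a := by
        have e : Commute g (a * g ^ m) := hu.2 g hgK
        have e2 := e.mul_right (((Commute.refl g).zpow_right m).inv_right)
        rwa [mul_inv_cancel_right] at e2
      have haZ := hB a ha hga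
      by_cases hd : (p : ℤ) ∣ m
      · obtain ⟨t, rfl⟩ := hd
        show a * g ^ ((p : ℤ) * t) ∈ cen Q
        rw [zpow_mul, zpow_natCast]
        exact (cen Q).mul_mem haZ ((cen Q).zpow_mem (h.pow_mem_cen hgQ) t)
      · exfalso
        refine hgab fun b hb => ?_
        have e : Commute (g ^ m) b := by
          have e1 : Commute (a * g ^ m) b := (hu.2 b (hAK hb)).symm
          have e2 : Commute a b := (h.z_central haZ (h.le hb.1)).symm
          have e3 := e2.inv_left.mul_left e1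
          rwa [inv_mul_cancel_left] at e3
        obtain ⟨s, t, hst⟩ := ((Nat.prime_iff_prime_int.mp hp.out).coprime_iff_not_dvd.mpr hd)
        have : Commute (g ^ (s * (p : ℤ) + t * m)) b := by
          rw [zpow_add]
          refine Commute.mul_left ?_ ?_
          · rw [mul_comm, zpow_mul, zpow_natCast]
            exact (show Commute (g ^ p) b from (h.z_central (h.pow_mem_cen hgQ) (h.le hb.1)).symm).zpow_left s
          · rw [mul_comm, zpow_mul]; exact e.zpow_left t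
        rwa [hst, zpow_one] at this
    have hcI : cen Q < I := by
      refine lt_of_le_of_ne (h.cen_le_imSub hxS) fun e => ?_
      have h1 := h.card_ker_im hxS
      rw [show h.imSub x hxS = cen Q from e.symm, h.card_z] at h1
      have h2 : Nat.card Q ≤ p * (p * p) :=
        (Nat.eq_of_mul_eq_mul_right hp.out.pos h1).symm.le.trans (hKp.trans (Nat.mul_le_mul le_rfl hA2))
      exact absurd (h.big.trans (h2.trans (le_of_eq (by ring : p * (p * p) = p ^ 3))))
        (not_le.mpr (Nat.pow_lt_pow_right hp.out.one_lt (by norm_num)))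
    obtain ⟨w, hw, hwZ, hwfix⟩ := h.exists_fixed_mod (h.imSub_le hxS) hcI
      (fun g' hg' w hw => h.imSub_conj hxS hg' hw)
      (fun g' hg' w hw => by rw [h.conj_cen hg' hw]; exact hw)
    exact hwZ (hIK w hw ⟨h.imSub_le hxS hw, hwfix x hxS⟩)
  · push Not at hT
    right
    have hKA : K = A := le_antisymm (fun q hq => by
      by_contra hqA
      exact (hT q hq.1 (d.ker_normalizes h hq) hqA).2 (by
        rw [← commutatorElement_inv x q]; exact (cen Q).inv_mem hq.2)) hAK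
    have hAI : A ≤ I := fun a ha => by
      rw [show I = Q ⊓ Subgroup.centralizer (K : Set Ω) from (h.perp_ker hxS).symm, hKA]
      exact ⟨ha.1, fun b hb => (d.comm h hb.2 ha.2).eq⟩
    have hIA : A = I := by
      by_contra hne
      obtain ⟨w, hw, hwA, hwfix⟩ := h.exists_fixed_mod (h.imSub_le hxS) (lt_of_le_of_ne hAI hne)
        (fun g' hg' w hw => h.imSub_conj hxS hg' hw)
        (fun g' hg' w hw => by rw [← hKA] at hw ⊢; exact h.kerSub_conj hxS hg' hw)
      have hwQ := h.imSub_le hxS hw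
      have hwN := d.normalizes_of_comm h hwQ (by
        rw [← commutatorElement_inv x w]; exact (cS S x).inv_mem (hwfix x hxS).2)
      refine hwA ?_
      by_contra hwA'
      obtain ⟨a, ha, hne'⟩ := (hT w hwQ hwN hwA').1
      rw [← h.perp_ker hxS, show h.kerSub x hxS = A from hKA] at hw
      exact hne' (hw.2 a ha).symm
    refine ⟨hKA, hIA.symm, fun q hq => d.normalizes_of_comm h hq ?_⟩
    have : ⁅x, q⁆ ∈ A := hIA ▸ h.comm_mem_imSub hxS hq
    rw [← commutatorElement_inv x q]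
    exact (cS S x).inv_mem this.2

end Ess

end Cfsg.Lib.Fusion.ExIdxP
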